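import Cfsg.Agent.TO.X.PlC

/-!
# S4817, exceptional groups: pure planes, `p = 3`, type `E₆` (helper61)
-/

set_option autoImplicit false
set_option maxRecDepth 100000
set_option maxHeartbeats 400000
set_option Elab.async false

namespace Cfsg.Agent.TO.X.Pl

open Cfsg Cfsg.Lie Matrix Cfsg.Agent.KZ.DatX Cfsg.Agent.TO.X

/-- the search for E6, `p = 3` -/
abbrev jE63 : Job 6 := ⟨3, false, rowsE6, gE6, pE6, fun u => [u], [([0, 0, 0, 1, 0, 0], [1, 1, 1, 0, 1, 1])], [1, 2,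
  2, 3, 2, 1], 3, 0⟩

/-- certificates -/
def cE63a : List (Ent 6) := [([1, 0, 0, 0, 0, 0], 0, [[0, 1, 1, 2, 2, 1]], []), ([2, 0, 0, 0, 0, 0], 0, [[0, 1, 1, 2,
  2, 1]], []), ([0, 1, 0, 0, 0, 0], 1, [[1, 0, 1, 1, 1, 1]], []), ([1, 1, 0, 0, 0, 0], 1, [[0, 0, 1, 1, 1, 1]], []),
  ([0, 0, 1, 0, 0, 0], 2, [[0, 1, 0, 1, 1, 1], [1, 0, 0, 0, 0, 0]], []), ([1, 0, 1, 0, 0, 0], 2, [[0, 1, 0, 1, 1, 1]],
  []), ([0, 0, 0, 1, 0, 0], 3, [[1, 0, 1, 0, 0, 0], [0, 0, 0, 0, 1, 1], [0, 1, 0, 0, 0, 0]], [([1, 1, 1, 0, 1, 1], [0,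
  2, 3, 1, 2, 4, 5, 4, 3, 1, 2, 0, 3, 2, 4, 5]), ([1, 2, 1, 0, 1, 1], [0, 2, 3, 1, 4, 5, 4, 3, 1, 2, 0, 3, 2, 4,
  5])]), ([0, 0, 0, 0, 1, 0], 4, [[1, 1, 1, 1, 0, 0], [0, 0, 0, 0, 0, 1]], []), ([1, 0, 0, 0, 1, 0], 4, [[0, 1, 1, 1,
  0, 0], [0, 0, 0, 0, 0, 1]], []), ([0, 0, 0, 0, 0, 1], 5, [[1, 1, 2, 2, 1, 0]], []), ([1, 0, 0, 0, 0, 1], 5, [[0, 1,
  1, 2, 1, 0]], []), ([2, 0, 0, 0, 0, 1], 5, [[0, 1, 1, 2, 1, 0]], []), ([0, 1, 0, 0, 0, 1], 5, [[1, 0, 1, 1, 1, 0]],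
  []), ([0, 0, 1, 0, 0, 1], 5, [[0, 1, 0, 1, 1, 0], [1, 0, 0, 0, 0, 0]], []), ([0, 0, 0, 0, 1, 1], 5, [[1, 1, 1, 1, 0,
  0]], []), ([0, 0, 0, 0, 0, 2], 5, [[1, 1, 2, 2, 1, 0]], []), ([1, 0, 0, 0, 0, 2], 5, [[0, 1, 1, 2, 1, 0]], [])]

theorem twoE63a : (cE63a.all jE63.chk2) = true := by decide +kernel

theorem oneE63 : jE63.chk1 ((cE63a).map Prod.fst) = true := by decide +kernel

theorem twoE63 : ∀ e ∈ cE63a, jE63.chk2 e = true := List.all_eq_true.1 (by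
  simp only [twoE63a])

theorem okE63 : jE63.Ok chevE6 [1] := ⟨tyE6, Nm.one, alt_one, fun h => absurd h Bool.false_ne_true⟩

/-- **the pure planes** -/
theorem plE63 {u x : Fin 6 → ZMod 3} (H : PurePl chevE6 (AdmS 3 [1, P6]) u x) :
    Std chevE6 u x ![0, 0, 0, 1, 0, 0] ![1, 1, 1, 0, 1, 1] := by
  obtain ⟨s, hs, W, h1, h2⟩ := @Job.Ok.plane _ _ _ _ ⟨Nat.prime_three⟩ okE63 _ oneE63 twoE63 _ _ (pl_P6 H)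
  obtain rfl := List.mem_singleton.1 hs
  exact ⟨W, h1, h2.trans (by
      rw [sp2, show cv 3 6 [0, 0, 0, 1, 0, 0] = ![0, 0, 0, 1, 0, 0] by decide,
        show cv 3 6 [1, 1, 1, 0, 1, 1] = ![1, 1, 1, 0, 1, 1] by decide])⟩

theorem threeE63 : (jE63.std.all jE63.chk3) = true := by decide +kernel

/-- **the rank** -/
theorem rkE63 {B : Submodule (ZMod 3) (Fin 6 → ZMod 3)} (H : PureSp chevE6 (AdmS 3 [1, P6]) B) :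
    Module.finrank (ZMod 3) B ≤ 2 :=
  @Job.Ok.rank _ _ _ _ ⟨Nat.prime_three⟩ okE63 _ oneE63 twoE63 (by decide) (List.all_eq_true.1 threeE63) _ (sp_P6 H)

end Cfsg.Agent.TO.X.Pl
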