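import Cfsg.Agent.TO.X.StabTab

/-!
# Matrices as lists, for checks on the leaves of the search `TO.X.Stab` (helper51)
-/

set_option autoImplicit false

namespace Cfsg.Agent.TO.X.Stab

open Cfsg Cfsg.Lie Matrix Cfsg.Agent.Nodes Cfsg.Agent.KZ.DatX

/-- matrices as lists of rows -/
abbrev LM := List (List ℤ)

/-- an entry -/
def ent (m : LM) (i j : ℕ) : ℤ := (m.getD i []).getD j 0

/-- a list as a matrix -/
def tM (l : ℕ) (m : LM) : Matrix (Fin l) (Fin l) ℤ := Matrix.of fun i j => ent m i j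

/-- a vector from a function -/
def mkV (l : ℕ) (f : ℕ → ℤ) : List ℤ := (List.range l).map f

/-- a matrix from a function -/
def mkM (l : ℕ) (f : ℕ → List ℤ) : LM := (List.range l).map f

/-- `a ᵥ* m` -/
noncomputable def vm (l : ℕ) (a : List ℤ) (m : LM) : List ℤ := mkV l fun j => dot (mkV l fun t => ent m t j) a

/-- `m *ᵥ v` -/
noncomputable def mvL (l : ℕ) (m : LM) (v : List ℤ) : List ℤ := mkV l fun i => dot (mkV l fun t => ent m i t) v

/-- the scalar product -/
noncomputable def dt (l : ℕ) (a b : List ℤ) : ℤ := dot (mkV l fun t => a.getD t 0) b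

/-- the sum of two vectors -/
def addV (l : ℕ) (a b : List ℤ) : List ℤ := mkV l fun i => Int.add (a.getD i 0) (b.getD i 0)

/-- the product -/
noncomputable def mm (l : ℕ) (a b : LM) : LM := mkM l fun i => vm l (a.getD i []) b

/-- the sum -/
def addM (l : ℕ) (a b : LM) : LM := mkM l fun i => addV l (a.getD i []) (b.getD i [])

/-- the negative -/
def negM (l : ℕ) (a : LM) : LM := mkM l fun i => mkV l fun j => Int.neg (ent a i j)

/-- the identity -/
def oneM (l : ℕ) : LM := mkM l fun i => mkV l fun j => cond (Nat.beq i j) 1 0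

/-- equality of vectors -/
noncomputable def eqV (l : ℕ) (a b : List ℤ) : Bool := allN l fun i => decide (a.getD i 0 = b.getD i 0)

/-- equality of matrices -/
noncomputable def eqM (l : ℕ) (a b : LM) : Bool := allN l fun i => eqV l (a.getD i []) (b.getD i [])

/-- congruence of vectors -/
noncomputable def cgV (l p : ℕ) (a b : List ℤ) : Bool :=
  allN l fun i => decide ((a.getD i 0 - b.getD i 0) % (p : ℤ) = 0)

/-- the matrix of a word -/
noncomputable def wL (l : ℕ) (s : ℕ → LM) (L : List (Fin l)) : LM := List.rec (oneM l) (fun i _ ih => mm l (s i) ih) L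

/-- the rows of a leaf -/
def Sys.rows (S : Sys) (l : ℕ) (rs : List ℕ) : LM := mkM l fun i => S.RL.getD (rs.getD i 0) []

/-- the simple reflections -/
def Sys.sL (S : Sys) (l i : ℕ) : LM :=
  mkM l fun a => mkV l fun b => cond (Nat.beq a b) 1 0 - cond (Nat.beq b i) (2 * ent S.G i a / ent S.G i i) 0

/-- the number of roots which vanish on `v` modulo `p` -/
noncomputable def Sys.nzL (S : Sys) (p : ℕ) (v : List ℤ) : ℕ := S.RL.countP fun a => decide (dot a v % (p : ℤ) = 0)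

variable {l : ℕ}

theorem allN_iff {f : ℕ → Bool} : ∀ {n : ℕ}, allN n f = true ↔ ∀ i < n, f i = true
  | 0 => ⟨allN_spec, fun _ => rfl⟩
  | n + 1 => ⟨allN_spec, fun h => by
    show (f n && allN n f) = true
    rw [h n (Nat.lt_succ_self n), allN_iff.2 fun i hi => h i (Nat.lt_succ_of_lt hi)]
    rfl⟩

theorem mkV_getD (f : ℕ → ℤ) (i : Fin l) : (mkV l f).getD i 0 = f i := by
  rw [mkV, List.getD_eq_getElem _ _ (by simp), List.getElem_map, List.getElem_range]

theorem mkM_getD (f : ℕ → List ℤ) (i : Fin l) : (mkM l f).getD i [] = f i := by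
  rw [mkM, List.getD_eq_getElem _ _ (by simp), List.getElem_map, List.getElem_range]

theorem tv_mkV (f : ℕ → ℤ) : tv l (mkV l f) = fun i : Fin l => f i := funext (mkV_getD f)

theorem dot_mkV (f : ℕ → ℤ) (b : List ℤ) : dot (mkV l f) b = (fun i : Fin l => f i) ⬝ᵥ tv l b := by
  rw [dot_eq l _ _ (by simp [mkV]), tv_mkV]

theorem tM_row (m : LM) (i : Fin l) : tM l m i = tv l (m.getD i []) := rfl

theorem tM_mkM (f : ℕ → List ℤ) (i : Fin l) : tM l (mkM l f) i = tv l (f i) := by rw [tM_row, mkM_getD]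

theorem tv_vm (a : List ℤ) (m : LM) : tv l (vm l a m) = tv l a ᵥ* tM l m := by
  funext j
  rw [vm, tv_mkV]
  exact (dot_mkV _ _).trans (dotProduct_comm _ _)

theorem tv_mvL (m : LM) (v : List ℤ) : tv l (mvL l m v) = tM l m *ᵥ tv l v := by
  funext j
  rw [mvL, tv_mkV]
  exact dot_mkV _ _

theorem dt_eq (a b : List ℤ) : dt l a b = tv l a ⬝ᵥ tv l b := dot_mkV _ _

theorem tv_addV (a b : List ℤ) : tv l (addV l a b) = tv l a + tv l b := tv_mkV _

theorem tM_mm (a b : LM) : tM l (mm l a b) = tM l a * tM l b := by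
  ext i : 1
  rw [mm, tM_mkM, tv_vm]
  rfl

theorem tM_addM (a b : LM) : tM l (addM l a b) = tM l a + tM l b := by
  ext i : 1
  rw [addM, tM_mkM, tv_addV]
  rfl

theorem tM_negM (a : LM) : tM l (negM l a) = -tM l a := by
  ext i : 1
  rw [negM, tM_mkM, tv_mkV]
  rfl

theorem cond_beq (i j : Fin l) (x y : ℤ) : cond (Nat.beq i j) x y = if i = j then x else y := by
  by_cases h : i = j
  · rw [if_pos h, h, Nat.beq_refl]
    rfl
  · rw [if_neg h]
    cases h1 : Nat.beq i j
    · rfl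
    · exact absurd (Fin.ext (Nat.eq_of_beq_eq_true h1)) h

theorem tM_oneM : tM l (oneM l) = 1 := by
  ext i j
  rw [oneM, tM_mkM, tv_mkV, Matrix.one_apply]
  exact cond_beq i j 1 0

theorem tM_nil : tM l [] = 0 := rfl

theorem eqV_iff {a b : List ℤ} : eqV l a b = true ↔ tv l a = tv l b := by
  rw [eqV, allN_iff]
  exact ⟨fun h => funext fun i => of_decide_eq_true (h i i.2), fun h i hi => decide_eq_true (congrFun h ⟨i, hi⟩)⟩

theorem eqM_iff {a b : LM} : eqM l a b = true ↔ tM l a = tM l b := by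
  rw [eqM, allN_iff]
  exact ⟨fun h => funext fun i => eqV_iff.1 (h i i.2), fun h i hi => eqV_iff.2 (congrFun h ⟨i, hi⟩)⟩

theorem tz_eq (p : ℕ) (a : List ℤ) : tz p l a = fun i => ((tv l a i : ℤ) : ZMod p) := rfl

theorem cgV_iff {p : ℕ} {a b : List ℤ} : cgV l p a b = true ↔ tz p l a = tz p l b := by
  have h0 : ∀ x y : ℤ, (x - y) % (p : ℤ) = 0 ↔ (x : ZMod p) = (y : ZMod p) := fun x y => by
    rw [ZMod.intCast_eq_intCast_iff_dvd_sub, ← Int.dvd_iff_emod_eq_zero, dvd_sub_comm]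
  rw [cgV, allN_iff]
  exact ⟨fun h => funext fun i => (h0 _ _).1 (of_decide_eq_true (h i i.2)),
    fun h i hi => decide_eq_true ((h0 _ _).2 (congrFun h ⟨i, hi⟩))⟩

theorem tz_mvL (p : ℕ) (m : LM) (v : List ℤ) :
    tz p l (mvL l m v) = (tM l m).map (Int.cast : ℤ → ZMod p) *ᵥ tz p l v := by
  funext i
  rw [tz_eq, tv_mvL]
  simp only [mulVec, dotProduct, Int.cast_sum, Int.cast_mul, Matrix.map_apply]
  rfl

theorem tM_wL {s : ℕ → LM} {f : Fin l → Matrix (Fin l) (Fin l) ℤ} (h : ∀ i : Fin l, tM l (s i) = f i) :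
    ∀ L : List (Fin l), tM l (wL l s L) = (L.map f).prod
  | [] => tM_oneM
  | i :: L => by rw [List.map_cons, List.prod_cons, ← tM_wL h L, ← h, ← tM_mm]; rfl

theorem Sys.tM_rows (S : Sys) (rs : List ℕ) : tM l (S.rows l rs) = S.mat l rs := by
  ext i : 1
  rw [Sys.rows, tM_mkM]
  rfl

/-- the leaves lie in an explicit list -/
theorem mem_of_leaf {S : Sys} {A : Matrix (Fin l) (Fin l) ℤ} {L : List LM}
    (h : ∃ rs, A = S.mat l rs ∧ (L.any (eqM l (S.rows l rs))) = true) : ∃ m ∈ L, A = tM l m := by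
  obtain ⟨rs, rfl, h⟩ := h
  obtain ⟨m, h1, h2⟩ := List.any_eq_true.1 h
  exact ⟨m, h1, (S.tM_rows rs).symm.trans (eqM_iff.1 h2)⟩

theorem countP_eq {α : Type} (f : α → Bool) (d : α) : ∀ L : List α,
    L.countP f = ((Finset.range L.length).filter fun s => f (L.getD s d) = true).card
  | [] => rfl
  | a :: L => by
    rw [List.countP_cons, countP_eq f d L, Finset.card_filter, Finset.card_filter, List.length_cons,
      Finset.sum_range_succ']
    rfl

variable {C : ChevalleyDatum} {S : Sys}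

/-- the roots as lists -/
theorem Sys.Ok.exists_mem (hS : S.Ok C l) {a : Fin l → ℤ} (h : ∃ r < C.nroots, RGDChev.vec C l r = a) :
    ∃ b ∈ S.RL, a = tv l b := by
  obtain ⟨r, hr, rfl⟩ := h
  rw [← hS.hn] at hr
  refine ⟨S.RL.getD r [], ?_, (hS.rl r hr).2.symm⟩
  rw [List.getD_eq_getElem _ _ (hS.len ▸ hr)]
  exact List.getElem_mem _

theorem Sys.Ok.rt_of_mem (hS : S.Ok C l) {b : List ℤ} (h : b ∈ S.RL) : ∃ r < C.nroots, RGDChev.vec C l r = tv l b := by
  obtain ⟨r, hr, rfl⟩ := List.getElem_of_mem h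
  have h1 : r < S.n := hS.len ▸ hr
  exact ⟨r, hS.hn ▸ h1, by rw [← (hS.rl r h1).2, List.getD_eq_getElem _ _ hr]⟩

theorem Sys.Ok.nzL_eq (hS : S.Ok C l) (p : ℕ) (v : List ℤ) : S.nzL p v =
    ((Finset.range C.nroots).filter fun s => ∑ i, (RGDChev.vec C l s i : ZMod p) * tz p l v i = 0).card := by
  rw [Sys.nzL, countP_eq _ [], hS.len, ← hS.hn]
  refine congrArg _ (Finset.filter_congr fun s hs => ?_)
  obtain ⟨h1, h2⟩ := hS.rl s (Finset.mem_range.1 hs)
  rw [decide_eq_true_iff, dot_eq l _ _ h1, h2, ← Int.dvd_iff_emod_eq_zero, ← ZMod.intCast_zmod_eq_zero_iff_dvd]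
  simp only [dotProduct, Int.cast_sum, Int.cast_mul]
  rfl

set_option backward.isDefEq.respectTransparency false

theorem sL_G2 : ∀ i : Fin 2, tM 2 (sG2.sL 2 i) = sM chevG2 2 i := by decide +kernel
theorem sL_B2 : ∀ i : Fin 2, tM 2 (sB2.sL 2 i) = sM chevB2 2 i := by decide +kernel
theorem sL_D4 : ∀ i : Fin 4, tM 4 (sD4.sL 4 i) = sM chevD4 4 i := by decide +kernel
theorem sL_F4 : ∀ i : Fin 4, tM 4 (sF4.sL 4 i) = sM chevF4 4 i := by decide +kernel
theorem sL_E6 : ∀ i : Fin 6, tM 6 (sE6.sL 6 i) = sM chevE6 6 i := by decide +kernel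
theorem sL_E7 : ∀ i : Fin 7, tM 7 (sE7.sL 7 i) = sM chevE7 7 i := by decide +kernel
theorem sL_E8 : ∀ i : Fin 8, tM 8 (sE8.sL 8 i) = sM chevE8 8 i := by decide +kernel

theorem gm_G2 : tM 2 sG2.G = Gm chevG2 2 := by decide +kernel
theorem gm_B2 : tM 2 sB2.G = Gm chevB2 2 := by decide +kernel
theorem gm_D4 : tM 4 sD4.G = Gm chevD4 4 := by decide +kernel
theorem gm_F4 : tM 4 sF4.G = Gm chevF4 4 := by decide +kernel
theorem gm_E6 : tM 6 sE6.G = Gm chevE6 6 := by decide +kernel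
theorem gm_E7 : tM 7 sE7.G = Gm chevE7 7 := by decide +kernel
theorem gm_E8 : tM 8 sE8.G = Gm chevE8 8 := by decide +kernel

end Cfsg.Agent.TO.X.Stab
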