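import Cfsg.Agent.TO.X.PlC

/-!
# S4817, exceptional groups: pure planes, `p = 7`, type `E₈` (helper61)
-/

set_option autoImplicit false
set_option maxRecDepth 100000
set_option maxHeartbeats 400000
set_option Elab.async false

namespace Cfsg.Agent.TO.X.Pl

open Cfsg Cfsg.Lie Matrix Cfsg.Agent.KZ.DatX Cfsg.Agent.TO.X

/-- the search for E8, `p = 7` -/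
abbrev jE87 : Job 8 := ⟨7, true, rowsE8, gE8, pE8, fun u => [u], [([1, 0, 0, 0, 0, 1, 0, 0], [0, 1, 1, 1, 1, 1, 1,
  2])], [2, 3, 4, 6, 5, 4, 3, 2], 0, 1⟩

/-- certificates -/
def cE87a : List (Ent 8) := [([0, 0, 1, 0, 0, 0, 0, 0], 2, [[0, 1, 0, 1, 1, 1, 1, 1], [1, 0, 0, 0, 0, 0, 0, 0]], [])]

theorem twoE87a : (cE87a.all jE87.chk2) = true := by decide +kernel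

/-- certificates -/
def cE87b : List (Ent 8) := [([0, 1, 1, 0, 0, 0, 0, 0], 2, [[0, 0, 0, 1, 1, 1, 1, 1], [1, 0, 0, 0, 0, 0, 0, 0]], [])]

theorem twoE87b : (cE87b.all jE87.chk2) = true := by decide +kernel

/-- certificates -/
def cE87c : List (Ent 8) := [([1, 0, 0, 0, 0, 1, 0, 0], 5, [[0, 1, 1, 2, 1, 0, 0, 0], [0, 0, 0, 0, 0, 0, 1, 1]], [([4,
  1, 1, 1, 1, 0, 2, 1], [0, 3, 1, 2, 0, 4, 5, 4, 3, 1, 2, 0, 3, 2, 4, 3, 1, 5, 6, 5, 4, 3, 1, 2, 3, 4, 7, 6, 5, 4, 3,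
  1, 2, 0, 3, 2, 4, 3, 1, 5, 4, 3, 2, 6, 7]), ([4, 2, 1, 1, 1, 0, 2, 1], [2, 0, 3, 2, 0, 4, 3, 2, 0, 5, 4, 3, 1, 2, 0,
  6, 5, 4, 3, 1, 2, 0, 3, 2, 4, 3, 5, 4, 7, 6, 5, 4, 3, 1, 2, 0, 3, 2, 4, 3, 1, 5, 4, 3, 2, 0, 6, 5, 4, 3, 1, 2, 3, 4,
  5, 6, 7, 6, 5, 4, 3, 1, 2, 0, 3, 2, 4, 3, 1]), ([0, 1, 2, 1, 1, 0, 2, 1], [1, 2, 0, 3, 1, 2, 0, 3, 4, 3, 1, 5, 4, 3,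
  1, 2, 0, 3, 2, 4, 3, 5, 4, 6, 5, 4, 3, 1, 2, 0, 3, 4, 5, 7, 6, 5, 4, 3, 1, 2, 0, 3, 2, 4, 3, 1, 5, 4, 3, 2, 6, 5, 4,
  3, 1, 7, 6]), ([1, 1, 1, 1, 2, 0, 2, 1], [0, 1, 3, 1, 2, 3, 4, 3, 1, 2, 3, 4, 5, 4, 3, 1, 2, 3, 4, 6, 5, 4, 3, 1, 2,
  0, 3, 2, 4, 3, 5, 4, 6, 7, 6, 5, 4, 3, 1, 2, 0, 3, 2, 4, 3, 1, 5, 4, 3, 2, 0, 6, 5, 4, 3, 1, 2, 3, 4, 5, 6, 7, 6, 5,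
  4, 3, 1, 2, 0, 3, 2, 4, 3, 1, 5, 4, 3, 2, 6]), ([3, 1, 1, 1, 1, 0, 4, 1], [7, 6]), ([3, 2, 1, 1, 1, 0, 4, 1], [3, 1,
  2, 0, 4, 5, 4, 3, 1, 2, 0, 3, 2, 4, 5, 6, 5, 4, 3, 1, 2, 3, 4, 7, 6, 5, 4, 3, 1, 2, 0, 3, 2, 4, 3, 1, 5, 6]), ([6,
  1, 2, 1, 1, 0, 4, 1], [3, 1, 2, 0, 4, 5, 4, 3, 1, 2, 0, 3, 2, 4, 5, 6, 5, 4, 3, 1, 7, 6, 5, 4, 3, 1, 2, 0, 3, 2, 4,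
  3, 1, 5, 4, 3, 2, 6]), ([0, 1, 1, 1, 2, 0, 4, 1], [3, 1, 2, 0, 4, 5, 4, 3, 1, 2, 0, 3, 2, 4, 3, 1, 5, 6, 5, 4, 3, 1,
  2, 7, 6, 5, 4, 3, 1, 2, 0, 3, 2, 4, 3, 5, 4, 6]), ([6, 1, 1, 1, 1, 0, 1, 2], [0, 5, 4, 3, 1, 2, 0, 3, 2, 4, 3, 1, 5,
  4, 6, 5, 4, 3, 1, 2, 0, 3, 2, 4, 3, 1, 5, 4, 3, 6, 5, 4, 7, 6, 5, 4, 3, 1, 2, 0, 3, 2, 4, 3, 1, 5, 4, 3, 2, 0, 6, 5,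
  4, 3, 1, 2, 3, 4, 7, 6]), ([6, 2, 1, 1, 1, 0, 1, 2], [1, 3, 2, 4, 3, 1]), ([2, 1, 2, 1, 1, 0, 1, 2], [2, 3, 1, 4, 3,
  2]), ([3, 1, 1, 1, 2, 0, 1, 2], [4, 3, 1, 2, 3, 4]), ([1, 1, 1, 1, 1, 0, 4, 2], [0, 2, 3, 1, 4, 3, 2, 0, 5, 4, 3, 1,
  2, 3, 4, 5, 6, 5, 4, 3, 1, 2, 3, 4, 5, 6, 7, 6, 5, 4, 3, 1, 2, 3, 4, 5, 6]), ([1, 2, 1, 1, 1, 0, 4, 2], [5, 4, 3, 1,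
  2, 0, 3, 2, 4, 3, 5, 4, 6, 5, 4, 3, 1, 2, 0, 3, 2, 4, 3, 1, 5, 4, 6, 5, 7, 6, 5, 4, 3, 1, 2, 0, 3, 2, 4, 3, 1, 5, 4,
  3, 2, 0, 6, 5, 4, 3, 1, 7, 6]), ([4, 1, 2, 1, 1, 0, 4, 2], [5, 4, 3, 1, 2, 0, 3, 2, 4, 3, 6, 5, 4, 3, 1, 2, 0, 3, 2,
  4, 3, 1, 5, 4, 3, 6, 5, 4, 7, 6, 5, 4, 3, 1, 2, 0, 3, 2, 4, 3, 1, 5, 4, 3, 2, 0, 6, 5, 4, 3, 2, 7, 6]), ([5, 1, 1,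
  1, 2, 0, 4, 2], [5, 4, 3, 1, 2, 0, 3, 2, 4, 3, 6, 5, 4, 3, 1, 2, 0, 3, 2, 4, 3, 5, 4, 6, 5, 7, 6, 5, 4, 3, 1, 2, 0,
  3, 2, 4, 3, 1, 5, 4, 3, 2, 0, 6, 5, 4, 3, 1, 2, 3, 4, 7, 6]), ([2, 1, 1, 1, 1, 0, 1, 4], [0, 2, 3, 1, 4, 3, 2, 0, 5,
  4, 3, 1, 2, 3, 4, 5, 6, 5, 4, 3, 1, 2, 3, 4, 5, 7, 6, 5, 4, 3, 1, 2, 3, 4, 5, 6, 7]), ([2, 2, 1, 1, 1, 0, 1, 4], [5,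
  4, 3, 1, 2, 0, 3, 2, 4, 3, 1, 5, 4, 6, 5, 4, 3, 1, 2, 0, 3, 2, 4, 3, 1, 5, 4, 6, 5, 7, 6, 5, 4, 3, 1, 2, 0, 3, 2, 4,
  3, 1, 5, 4, 3, 2, 0, 6, 5, 4, 3, 1, 7]), ([5, 1, 2, 1, 1, 0, 1, 4], [5, 4, 3, 1, 2, 0, 3, 2, 4, 3, 1, 6, 5, 4, 3, 1,
  2, 0, 3, 2, 4, 3, 1, 5, 4, 3, 6, 5, 4, 7, 6, 5, 4, 3, 1, 2, 0, 3, 2, 4, 3, 1, 5, 4, 3, 2, 0, 6, 5, 4, 3, 2, 7]),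
  ([6, 1, 1, 1, 2, 0, 1, 4], [5, 4, 3, 1, 2, 0, 3, 2, 4, 3, 1, 6, 5, 4, 3, 1, 2, 0, 3, 2, 4, 3, 5, 4, 6, 5, 7, 6, 5,
  4, 3, 1, 2, 0, 3, 2, 4, 3, 1, 5, 4, 3, 2, 0, 6, 5, 4, 3, 1, 2, 3, 4, 7]), ([5, 1, 1, 1, 1, 0, 2, 4], [6, 7]), ([5,
  2, 1, 1, 1, 0, 2, 4], [3, 1, 2, 0, 4, 5, 4, 3, 1, 2, 0, 3, 2, 4, 6, 5, 4, 3, 1, 2, 3, 4, 7, 6, 5, 4, 3, 1, 2, 0, 3,
  2, 4, 3, 1, 5, 6, 7]), ([1, 1, 2, 1, 1, 0, 2, 4], [3, 1, 2, 0, 4, 5, 4, 3, 1, 2, 0, 3, 2, 4, 6, 5, 4, 3, 1, 7, 6, 5,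
  4, 3, 1, 2, 0, 3, 2, 4, 3, 1, 5, 4, 3, 2, 6, 7]), ([2, 1, 1, 1, 2, 0, 2, 4], [3, 1, 2, 0, 4, 5, 4, 3, 1, 2, 0, 3, 2,
  4, 3, 1, 6, 5, 4, 3, 1, 2, 7, 6, 5, 4, 3, 1, 2, 0, 3, 2, 4, 3, 5, 4, 6, 7])])]

theorem twoE87c : (cE87c.all jE87.chk2) = true := by decide +kernel

/-- certificates -/
def cE87d : List (Ent 8) := [([0, 0, 0, 0, 0, 0, 1, 1], 7, [[1, 2, 2, 3, 2, 1, 0, 0]], [])]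

theorem twoE87d : (cE87d.all jE87.chk2) = true := by decide +kernel

/-- certificates -/
def cE87e : List (Ent 8) := [([0, 1, 0, 0, 0, 0, 0, 2], 7, [[1, 0, 1, 1, 1, 1, 1, 0]], [])]

theorem twoE87e : (cE87e.all jE87.chk2) = true := by decide +kernel

theorem oneE87 : jE87.chk1 ((cE87a ++ cE87b ++ cE87c ++ cE87d ++ cE87e).map Prod.fst) = true := by decide +kernel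

theorem twoE87 : ∀ e ∈ cE87a ++ cE87b ++ cE87c ++ cE87d ++ cE87e, jE87.chk2 e = true := List.all_eq_true.1 (by
  simp only [List.all_append, Bool.and_self, twoE87a, twoE87b, twoE87c, twoE87d, twoE87e])

theorem okE87 : jE87.Ok chevE8 [1] := ⟨tyE8, Nm.one, alt_one, fun _ => ⟨rfl, sq7⟩⟩

/-- **the pure planes** -/
theorem plE87 {u x : Fin 8 → ZMod 7} (H : PurePl chevE8 (AdmS 7 [1]) u x) :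
    Std chevE8 u x ![1, 0, 0, 0, 0, 1, 0, 0] ![0, 1, 1, 1, 1, 1, 1, 2] := by
  obtain ⟨s, hs, W, h1, h2⟩ := @Job.Ok.plane _ _ _ _ ⟨pr7⟩ okE87 _ oneE87 twoE87 _ _ H
  obtain rfl := List.mem_singleton.1 hs
  exact ⟨W, h1, h2.trans (by
      rw [sp2, show cv 7 8 [1, 0, 0, 0, 0, 1, 0, 0] = ![1, 0, 0, 0, 0, 1, 0, 0] by decide,
        show cv 7 8 [0, 1, 1, 1, 1, 1, 1, 2] = ![0, 1, 1, 1, 1, 1, 1, 2] by decide])⟩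

end Cfsg.Agent.TO.X.Pl
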