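import Cfsg.Agent.TO.X.PlC

/-!
# S4817, exceptional groups: pure planes, `p = 7`, type `E₆` (helper61)
-/

set_option autoImplicit false
set_option maxRecDepth 100000
set_option maxHeartbeats 400000
set_option Elab.async false

namespace Cfsg.Agent.TO.X.Pl

open Cfsg Cfsg.Lie Matrix Cfsg.Agent.KZ.DatX Cfsg.Agent.TO.X

/-- the search for E6, `p = 7` -/
abbrev jE67 : Job 6 := ⟨7, true, rowsE6, gE6, pE6, fun u => [u], [], [1, 2, 2, 3, 2, 1], 0, 0⟩

/-- certificates -/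
def cE67a : List (Ent 6) := []

theorem twoE67a : (cE67a.all jE67.chk2) = true := by decide +kernel

theorem oneE67 : jE67.chk1 ((cE67a).map Prod.fst) = true := by decide +kernel

theorem twoE67 : ∀ e ∈ cE67a, jE67.chk2 e = true := List.all_eq_true.1 (by
  simp only [twoE67a])

theorem okE67 : jE67.Ok chevE6 [1] := ⟨tyE6, Nm.one, alt_one, fun _ => ⟨rfl, sq7⟩⟩

/-- **no pure plane** -/
theorem plE67 (u x : Fin 6 → ZMod 7) : ¬ PurePl chevE6 (AdmS 7 [1, P6]) u x := fun H =>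
  let ⟨_, hs, _⟩ := @Job.Ok.plane _ _ _ _ ⟨pr7⟩ okE67 _ oneE67 twoE67 _ _ (pl_P6 H)
  List.not_mem_nil hs

/-- **the rank** -/
theorem rkE67 {B : Submodule (ZMod 7) (Fin 6 → ZMod 7)} (H : PureSp chevE6 (AdmS 7 [1, P6]) B) :
    Module.finrank (ZMod 7) B ≤ 1 := @rank_one _ _ _ ⟨pr7⟩ _ plE67 _ H

end Cfsg.Agent.TO.X.Pl
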