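import Cfsg.Agent.TO.X.PlC

/-!
# S4817, exceptional groups: pure planes, `p = 7`, type `E₇` (helper61)
-/

set_option autoImplicit false
set_option maxRecDepth 100000
set_option maxHeartbeats 400000
set_option Elab.async false

namespace Cfsg.Agent.TO.X.Pl

open Cfsg Cfsg.Lie Matrix Cfsg.Agent.KZ.DatX Cfsg.Agent.TO.X

/-- the search for E7, `p = 7` -/
abbrev jE77 : Job 7 := ⟨7, true, rowsE7, gE7, pE7, fun u => [u], [], [2, 2, 3, 4, 3, 2, 1], 0, 0⟩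

/-- certificates -/
def cE77a : List (Ent 7) := [([0, 1, 0, 0, 0, 0, 0], 1, [[1, 0, 1, 1, 1, 1, 1]], []), ([0, 2, 0, 0, 0, 0, 0], 1, [[1,
  0, 1, 1, 1, 1, 1]], []), ([0, 3, 0, 0, 0, 0, 0], 1, [[1, 0, 1, 1, 1, 1, 1]], []), ([0, 3, 0, 0, 0, 0, 1], 6, [[1, 0,
  1, 1, 1, 1, 0]], []), ([0, 2, 0, 0, 0, 0, 3], 6, [[1, 0, 1, 1, 1, 1, 0]], []), ([0, 1, 0, 0, 0, 0, 5], 6, [[1, 0, 1,
  1, 1, 1, 0]], [])]

theorem twoE77a : (cE77a.all jE77.chk2) = true := by decide +kernel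

theorem oneE77 : jE77.chk1 ((cE77a).map Prod.fst) = true := by decide +kernel

theorem twoE77 : ∀ e ∈ cE77a, jE77.chk2 e = true := List.all_eq_true.1 (by
  simp only [twoE77a])

theorem okE77 : jE77.Ok chevE7 [1] := ⟨tyE7, Nm.one, alt_one, fun _ => ⟨rfl, sq7⟩⟩

/-- **no pure plane** -/
theorem plE77 (u x : Fin 7 → ZMod 7) : ¬ PurePl chevE7 (AdmS 7 [1]) u x := fun H =>
  let ⟨_, hs, _⟩ := @Job.Ok.plane _ _ _ _ ⟨pr7⟩ okE77 _ oneE77 twoE77 _ _ H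
  List.not_mem_nil hs

/-- **the rank** -/
theorem rkE77 {B : Submodule (ZMod 7) (Fin 7 → ZMod 7)} (H : PureSp chevE7 (AdmS 7 [1]) B) :
    Module.finrank (ZMod 7) B ≤ 1 := @rank_one _ _ _ ⟨pr7⟩ _ plE77 _ H

end Cfsg.Agent.TO.X.Pl
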