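import Cfsg.Agent.TO.X.Iface
import Cfsg.Agent.SB.Exc.Max.Frame
import Cfsg.Agent.DL.Asm.Sys

/-!
# S4817, exceptional groups: the frame (helper13)

* `Tor X` : an `F`-stable maximal torus with coordinates, `E.D` its datum, `E.A = Wm w * Mx` the matrix of `F`;
* `E.e ζ v` : the element `τ (ζ ^ v)` of order `p`; `F`, the Weyl group and the roots in coordinates;
* `E.move v` : the same torus in the coordinates changed by `v : W`;
* `Lift s α β` : `β` lifts the automorphism `α` of `S`; `Lift.form` : its form between two tori;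
* `exists_tor`, `exists_tor_of_conj`, `exists_tor_cen` : existence of tori;
* `Pure` in coordinates: `cj_of_pure`, `pureSp`, `norm_of_pure`, `mem_KK`.
-/

set_option autoImplicit false
set_option linter.unusedSectionVars false

namespace Cfsg.Agent.TO.X

open CoxeterSystem Cfsg Cfsg.Lie Cfsg.Lie.ChevalleyDatum Matrix
open Cfsg.Agent.ChevalleyStructure Cfsg.Agent.ChevalleyStructure.Elts Cfsg.Agent.ChevalleyStructure.CoxeterGeom
  Cfsg.Agent.ChevalleyStructure.CoxeterGeomTypes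
open Cfsg.Agent.Tits.Roots Cfsg.Agent.Nodes Cfsg.Agent.Nodes.RGDChev Cfsg.Agent.Nodes.Reps
open Cfsg.Agent.DL Cfsg.Agent.DL.PP Cfsg.Agent.DL.Uni Cfsg.Agent.DL.Asm Cfsg.Agent.KZ.DatX
open Cfsg.Agent.BHZ.Nil (KK RR)

variable {C : ChevalleyDatum} {l : ℕ} {M : CoxeterMatrix (Fin l)} {hp : IsType C l M} {r : ℕ} [Fact r.Prime]
  {k : Type} [Field k] [CharP k r] [IsAlgClosed k] {Mx : Matrix (Fin l) (Fin l) ℤ}

/-- the matrices of the Weyl group -/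
noncomputable def wm (X : XF hp r k Mx) : M.Group →* Matrix (Fin l) (Fin l) ℤ where
  toFun w := X.D.Wm w
  map_one' := X.D.Wm_one
  map_mul' := X.D.Wm_mul

theorem wm_eq (X : XF hp r k Mx) (w : M.Group) : wm X w = X.D.Wm w := rfl

theorem wm_inj (X : XF hp r k Mx) : Function.Injective (wm X) := X.D.Wm_injective

theorem wm_word (X : XF hp r k Mx) (L : List (Fin l)) :
    wm X (M.toCoxeterSystem.wordProd L) = (L.map (sM C l)).prod := X.Wm_word L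

theorem WM_wm (X : XF hp r k Mx) (w : M.Group) : WM C l (wm X w) :=
  let ⟨L, _, h⟩ := X.exists_word w
  ⟨L, h⟩

theorem WM.exists_w (X : XF hp r k Mx) {W : Matrix (Fin l) (Fin l) ℤ} (h : WM C l W) : ∃ w : M.Group, wm X w = W := by
  obtain ⟨L, rfl⟩ := h
  exact ⟨_, wm_word X L⟩

theorem exists_prim (k : Type) [Field k] [CharP k r] [IsAlgClosed k] {n : ℕ} (hn : ¬ r ∣ n) :
    ∃ ζ : kˣ, IsPrimitiveRoot ζ n := by
  have h0 : n ≠ 0 := fun h => hn (h ▸ dvd_zero r)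
  have : NeZero (n : k) := ⟨fun h => hn ((CharP.cast_eq_zero_iff k r _).1 h)⟩
  obtain ⟨ζ, h⟩ := HasEnoughRootsOfUnity.exists_primitiveRoot k n
  exact ⟨(h.isUnit h0).unit, h.isUnit_unit h0⟩

/-- the coordinates of the standard torus -/
noncomputable def τ0 (X : XF hp r k Mx) : (Fin l → kˣ) →* ↥(C.group k) := X.D.τ

/-- An `F`-stable maximal torus with coordinates. -/
structure Tor (X : XF hp r k Mx) where
  y : ↥(C.group k)
  hF : y⁻¹ * X.F y ∈ X.D.NN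

namespace Tor

variable {X : XF hp r k Mx} (E : Tor X)

/-- the datum -/
noncomputable def D : Datum r (C.group k).subtype X.F ⊤ := X.D.conj (Subgroup.mem_top E.y) E.hF

/-- the type of the torus -/
noncomputable def w : M.Group := X.D.pr (E.y⁻¹ * X.F E.y)

/-- the matrix of `F` -/
noncomputable def A : Matrix (Fin l) (Fin l) ℤ := wm X E.w * Mx

/-- the coordinates -/
noncomputable def τ : (Fin l → kˣ) →* ↥(C.group k) := E.D.τ

/-- the torus -/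
noncomputable abbrev T : Subgroup ↥(C.group k) := E.D.T

/-- representatives of the Weyl group -/
def Rp (v : M.Group) (m : ↥(C.group k)) : Prop := E.D.Rp v m

/-- the value of a character -/
noncomputable def χ (a : Fin l → ℤ) (t : ↥(C.group k)) : k := E.D.χ a t

/-- the roots trivial on `Z` -/
def Sz (Z : Set ↥(C.group k)) : Set (Fin l → ℤ) := E.D.Sz Z

/-- the group generated by root groups -/
noncomputable def S (P : Set (Fin l → ℤ)) : Subgroup ↥(C.group k) := E.D.S P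

/-- the connected centraliser -/
noncomputable abbrev cen (Z : Set ↥(C.group k)) : Subgroup ↥(C.group k) := E.D.cen Z

/-- the coroot -/
noncomputable def cor (a : Fin l → ℤ) : Fin l → ℤ := E.D.cor a

/-- the action of `F` on the Weyl group -/
noncomputable def Fw (v : M.Group) : M.Group := E.D.Fw v

/-- the reflection in a root -/
noncomputable def rf (a : Fin l → ℤ) : M.Group := E.D.rf a

theorem A_eq : E.A = wm X E.w * Mx := rfl

theorem D_Mx : E.D.Mx = E.A := rfl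

theorem D_wt (a : Fin l → ℤ) : E.D.wt a = a := rfl

theorem τ_eq (c : Fin l → kˣ) : E.τ c = E.y * τ0 X c * E.y⁻¹ := rfl

theorem τ_inj : Function.Injective E.τ := E.D.τ_inj

theorem mem_T {t : ↥(C.group k)} : t ∈ E.T ↔ ∃ c, E.τ c = t := E.D.mem_T t

theorem τ_mem (c : Fin l → kˣ) : E.τ c ∈ E.T := E.mem_T.2 ⟨c, rfl⟩

theorem mem_T' {t : ↥(C.group k)} : t ∈ E.T ↔ E.y⁻¹ * t * E.y ∈ X.D.T := mem_cj

theorem rt_iff (a : Fin l → ℤ) : E.D.Rt a ↔ Rt C l a := X.rt_iff a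

theorem mem_Sz {Z : Set ↥(C.group k)} {a : Fin l → ℤ} : a ∈ E.Sz Z ↔ Rt C l a ∧ ∀ z ∈ Z, E.χ a z = 1 :=
  and_congr (E.rt_iff a) Iff.rfl

theorem cen_def (Z : Set ↥(C.group k)) : E.cen Z = E.T ⊔ E.S (E.Sz Z) := rfl

theorem mem_NN {m : ↥(C.group k)} : m ∈ E.D.NN ↔ ∃ v, E.Rp v m := Iff.rfl

theorem rp_iff {v : M.Group} {m : ↥(C.group k)} : E.Rp v (E.y * m * E.y⁻¹) ↔ X.D.Rp v m :=
  X.D.conj_rp_iff (Subgroup.mem_top _) E.hF

theorem exists_rp (v : M.Group) : ∃ m, E.Rp v m :=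
  let ⟨m, h, _⟩ := E.D.exists_rp v
  ⟨m, h⟩

variable {E} in
theorem Rp.mul {v v' : M.Group} {m m' : ↥(C.group k)} (h : E.Rp v m) (h' : E.Rp v' m') : E.Rp (v * v') (m * m') :=
  Nodes.Reps.Rp.mul h h'

variable {E} in
theorem Rp.inv {v : M.Group} {m : ↥(C.group k)} (h : E.Rp v m) : E.Rp v⁻¹ m⁻¹ := Nodes.Reps.Rp.inv h

theorem rp_one_iff {m : ↥(C.group k)} : E.Rp 1 m ↔ m ∈ E.T := ⟨fun h => h.mem_of_one, fun h => rp_of_mem h⟩

theorem rp_unique {v v' : M.Group} {m : ↥(C.group k)} (h : E.Rp v m) (h' : E.Rp v' m) : v = v' := E.D.rp_unique h h'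

theorem conj_τ {v : M.Group} {m : ↥(C.group k)} (hm : E.Rp v m) (c : Fin l → kˣ) :
    m * E.τ c * m⁻¹ = E.τ (mon (wm X v) c) := by
  have h1 : X.D.Rp v (E.y⁻¹ * m * E.y) := E.rp_iff.1 (by
    rw [show E.y * (E.y⁻¹ * m * E.y) * E.y⁻¹ = m by group]
    exact hm)
  have h2 : τ0 X (mon (wm X v) c) = E.y⁻¹ * m * E.y * τ0 X c * (E.y⁻¹ * m * E.y)⁻¹ := (X.D.conj_τ h1 c).symm
  rw [τ_eq, τ_eq, h2]
  group

theorem Wm_eq (v : M.Group) : E.D.Wm v = wm X v := by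
  obtain ⟨m, hm⟩ := E.exists_rp v
  exact mon_inj (k := k) fun c => E.τ_inj ((E.D.conj_τ hm c).symm.trans (E.conj_τ hm c))

theorem F_τ (c : Fin l → kˣ) : X.F (E.τ c) = E.τ (mon E.A c) := E.D.F_τ c

theorem χ_τ (a : Fin l → ℤ) (c : Fin l → kˣ) : E.χ a (E.τ c) = (chr a c : kˣ) := E.D.χ_τ a c

theorem card_TF : Nat.card ↥(E.T ⊓ GF X.F ⊤) = (E.A - 1).det.natAbs := E.D.card_TF

theorem fix_τ {c : Fin l → kˣ} : X.F (E.τ c) = E.τ c ↔ mon E.A c = c := by rw [F_τ, E.τ_inj.eq_iff]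

theorem det_A : E.A.det ≠ 0 := E.D.det_Mx_ne_zero

theorem A_wm (v : M.Group) : E.A * wm X v = wm X (E.Fw v) * E.A := by
  have h0 : ∀ B B' : Matrix (Fin l) (Fin l) ℤ, E.D.Wm v = B → E.D.Wm (E.Fw v) = B' → E.A * B = B' * E.A := by
    rintro _ _ rfl rfl
    exact E.D.Mx_Wm v
  exact h0 _ _ (E.Wm_eq _) (E.Wm_eq _)

theorem wm_rf {a : Fin l → ℤ} (ha : Rt C l a) : wm X (E.rf a) = 1 - vecMulVec (E.cor a) a :=
  (E.Wm_eq _).symm.trans (E.D.Wm_rf ((E.rt_iff a).2 ha))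

/-- the Weyl group permutes the roots -/
theorem _root_.Cfsg.Agent.TO.X.Rt.vecMul_wm (X : XF hp r k Mx) {a : Fin l → ℤ} (ha : Rt C l a) (v : M.Group) :
    Rt C l (a ᵥ* wm X v) := by
  have h : X.D.act v⁻¹ a = a ᵥ* wm X v := X.D.wt_act' v a
  exact (X.rt_iff _).1 (h ▸ ((X.rt_iff a).2 ha).act _)

/-- the Weyl group elements which have an `F`-fixed representative -/
theorem exists_rp_fix {v : M.Group} (h : E.A * wm X v = wm X v * E.A) : ∃ m, E.Rp v m ∧ X.F m = m := by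
  refine E.D.exists_rp_fix (wm_inj X ?_)
  have h3 := congrArg (· * E.A.adjugate) ((E.A_wm v).symm.trans h)
  simp only [Matrix.mul_assoc, Matrix.mul_adjugate, Matrix.mul_smul, Matrix.mul_one] at h3
  exact smul_right_injective _ E.det_A h3

theorem comm_of_fix {v : M.Group} {m : ↥(C.group k)} (hm : E.Rp v m) (hF : X.F m = m) :
    E.A * wm X v = wm X v * E.A := by
  have h : E.Fw v = v := E.D.Fw_eq_of_fix hm hF
  rw [E.A_wm, h]

theorem cen_le {Z : Set ↥(C.group k)} (hZ : Z ⊆ E.T) : E.cen Z ≤ Subgroup.centralizer Z := E.D.cen_le_centralizer hZ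

theorem T_comm {s t : ↥(C.group k)} (hs : s ∈ E.T) (ht : t ∈ E.T) : s * t = t * s := E.D.T_comm hs ht

theorem exists_cen_form {Z : Set ↥(C.group k)} (hZ : Z ⊆ E.T) {y : ↥(C.group k)} (hc : y ∈ Subgroup.centralizer Z) :
    ∃ c ∈ E.S (E.Sz Z), ∃ v m, E.Rp v m ∧ m ∈ Subgroup.centralizer Z ∧ y = c * m :=
  let ⟨c, h1, m, ⟨v, h2⟩, h3, h4⟩ := E.D.exists_cen_form hZ (Subgroup.mem_top y) hc
  ⟨c, h1, v, m, h2, h3, h4⟩

theorem cen_eq_T {Z : Set ↥(C.group k)} (h : E.Sz Z = ∅) : E.cen Z = E.T := by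
  refine sup_eq_left.2 (BNOf.RGD.Sup_le fun a ha => ?_)
  have h1 : a ∈ E.Sz Z := ha
  rw [h] at h1
  exact h1.elim

/-! ### change of coordinates -/

/-- the torus conjugated by `c` -/
def cnj (c : ↥(C.group k)) (h : c⁻¹ * X.F c ∈ E.D.NN) : Tor X where
  y := c * E.y
  hF := by
    obtain ⟨v, hv⟩ := E.mem_NN.1 h
    have h1 : X.D.Rp v (E.y⁻¹ * (c⁻¹ * X.F c) * E.y) := E.rp_iff.1 (by
      rw [show E.y * (E.y⁻¹ * (c⁻¹ * X.F c) * E.y) * E.y⁻¹ = c⁻¹ * X.F c by group]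
      exact hv)
    have h2 := mul_mem (show _ ∈ X.D.NN from ⟨v, h1⟩) E.hF
    rw [map_mul, show (c * E.y)⁻¹ * (X.F c * X.F E.y) = E.y⁻¹ * (c⁻¹ * X.F c) * E.y * (E.y⁻¹ * X.F E.y) by group]
    exact h2

theorem cnj_τ (c : ↥(C.group k)) (h : c⁻¹ * X.F c ∈ E.D.NN) (x : Fin l → kˣ) :
    (E.cnj c h).τ x = c * E.τ x * c⁻¹ := by
  rw [τ_eq, τ_eq]
  show c * E.y * _ * (c * E.y)⁻¹ = _
  group

theorem cnj_A (c : ↥(C.group k)) {v : M.Group} (h : E.Rp v (c⁻¹ * X.F c)) :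
    (E.cnj c (E.mem_NN.2 ⟨v, h⟩)).A = wm X v * E.A := by
  refine mon_inj (k := k) fun x => (E.cnj c (E.mem_NN.2 ⟨v, h⟩)).τ_inj ?_
  rw [← F_τ, cnj_τ, cnj_τ, mon_mul, ← E.conj_τ h, map_mul, map_mul, map_inv, F_τ]
  group

/-- the same torus in other coordinates -/
theorem exists_move (v : M.Group) : ∃ E' : Tor X, E'.T = E.T ∧ (∀ x, E'.τ x = E.τ (mon (wm X v) x)) ∧
    wm X v * E'.A = E.A * wm X v := by
  obtain ⟨m, hm⟩ := E.exists_rp v
  have hN : m ∈ E.D.NN := ⟨v, hm⟩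
  have h1 : ∀ x, (E.cnj m (mul_mem (inv_mem hN) (E.D.F_mem_NN hN))).τ x = E.τ (mon (wm X v) x) := fun x => by
    rw [cnj_τ, E.conj_τ hm]
  refine ⟨_, ?_, h1, mon_inj (k := k) fun x => E.τ_inj ?_⟩
  · ext t
    rw [mem_T, mem_T]
    refine ⟨fun ⟨x, hx⟩ => ⟨_, (h1 x).symm.trans hx⟩, fun ⟨x, hx⟩ => ⟨mon (wm X v⁻¹) x, ?_⟩⟩
    rw [h1, ← mon_mul, ← map_mul, mul_inv_cancel, map_one, mon_one, hx]
  · rw [mon_mul, ← h1, ← F_τ, h1, F_τ, mon_mul]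

/-- **Twisting by Lang's theorem** in the connected centraliser of `Z`. -/
theorem exists_twist {Z : Set ↥(C.group k)} (hZ : Z ⊆ E.T) (hF : ∀ z ∈ Z, X.F z ∈ Z) {v : M.Group} {m : ↥(C.group k)}
    (hm : E.Rp v m) (hc : m ∈ E.cen Z) : ∃ c ∈ E.cen Z, ∃ E' : Tor X, (∀ x, E'.τ x = c * E.τ x * c⁻¹) ∧
      E'.A = wm X v * E.A := by
  obtain ⟨c, h1, h2⟩ := E.D.lang_TS (A := E.D.Sz Z) E.D.Sz_root (fun a ha => E.D.g_mem_Sz hZ hF ha) hc
  have h3 : E.Rp v (c⁻¹ * X.F c) := h2 ▸ hm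
  exact ⟨c, h1, E.cnj c (E.mem_NN.2 ⟨v, h3⟩), E.cnj_τ _ _, E.cnj_A c h3⟩

/-- a representative in the connected centraliser -/
theorem exists_rp_cen {Z : Set ↥(C.group k)} {v : M.Group} (hv : v ∈ Subgroup.closure (E.rf '' E.Sz Z)) :
    ∃ m ∈ E.cen Z, E.Rp v m := by
  induction hv using Subgroup.closure_induction with
  | mem x hx =>
    obtain ⟨a, ha, rfl⟩ := hx
    obtain ⟨m, h1, h2⟩ := E.D.exists_rp_rf (a := a) ha.1
    refine ⟨m, (sup_le (E.D.T_le_cen Z) (sup_le ?_ ?_)) h1, h2⟩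
    · exact le_trans (BNOf.RGD.le_Sup (S := E.D.Sz Z) ha) (E.D.S_le_cen Z)
    · exact le_trans (BNOf.RGD.le_Sup (S := E.D.Sz Z) (E.D.Sz_neg ha)) (E.D.S_le_cen Z)
  | one => exact ⟨1, one_mem _, E.rp_one_iff.2 (one_mem _)⟩
  | mul x y _ _ h1 h2 =>
    obtain ⟨a, a1, a2⟩ := h1
    obtain ⟨b, b1, b2⟩ := h2
    exact ⟨a * b, mul_mem a1 b1, a2.mul b2⟩
  | inv x _ h1 =>
    obtain ⟨a, a1, a2⟩ := h1
    exact ⟨a⁻¹, inv_mem a1, a2.inv⟩

/-! ### the elements of order `p` -/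

variable {p : ℕ} [Fact p.Prime] (ζ : kˣ)

/-- the element with the coordinates `ζ ^ v i` -/
noncomputable def e (v : Fin l → ZMod p) : ↥(C.group k) := E.τ (coch (fun i => ((v i).val : ℤ)) ζ)

theorem e_mem (v : Fin l → ZMod p) : E.e ζ v ∈ E.T := E.τ_mem _

variable {ζ} (hζ : IsPrimitiveRoot ζ p)
include hζ

omit E in
theorem zpow_eq {a b : ℤ} : ζ ^ a = ζ ^ b ↔ (a : ZMod p) = b := by
  rw [← mul_inv_eq_one, ← _root_.zpow_sub, hζ.zpow_eq_one_iff_dvd, ← ZMod.intCast_zmod_eq_zero_iff_dvd, Int.cast_sub,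
    sub_eq_zero]

theorem τ_coch (m : Fin l → ℤ) : E.τ (coch m ζ) = E.e ζ (fun i => (m i : ZMod p)) :=
  congrArg E.τ (funext fun i => (zpow_eq hζ).2 (by rw [Int.cast_natCast, ZMod.natCast_zmod_val]))

theorem e_add (u v : Fin l → ZMod p) : E.e ζ (u + v) = E.e ζ u * E.e ζ v := by
  rw [e, e, e, ← map_mul, ← coch_add, E.τ_coch hζ, E.τ_coch hζ]
  congr 1
  funext i
  simp

theorem e_zero : E.e ζ (0 : Fin l → ZMod p) = 1 := by
  have h := E.e_add hζ 0 0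
  rw [add_zero] at h
  exact left_eq_mul.1 h

theorem e_inj : Function.Injective (E.e ζ : (Fin l → ZMod p) → _) := fun u v h => funext fun i => by
  have h1 := (zpow_eq hζ).1 (congrFun (E.τ_inj h) i)
  simpa using h1

theorem e_eq_one {v : Fin l → ZMod p} : E.e ζ v = 1 ↔ v = 0 := by
  rw [← E.e_zero hζ, (E.e_inj hζ).eq_iff]

theorem e_nsmul (n : ℕ) (v : Fin l → ZMod p) : E.e ζ (n • v) = E.e ζ v ^ n := by
  induction n with
  | zero => rw [zero_smul, pow_zero, E.e_zero hζ]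
  | succ n ih => rw [succ_nsmul, E.e_add hζ, ih, pow_succ]

theorem e_smul (c : ZMod p) (v : Fin l → ZMod p) : E.e ζ (c • v) = E.e ζ v ^ c.val := by
  rw [← E.e_nsmul hζ, ← Nat.cast_smul_eq_nsmul (ZMod p), ZMod.natCast_zmod_val]

theorem e_neg (v : Fin l → ZMod p) : E.e ζ (-v) = (E.e ζ v)⁻¹ :=
  eq_inv_of_mul_eq_one_left (by rw [← E.e_add hζ, neg_add_cancel, E.e_zero hζ])

theorem e_pow (v : Fin l → ZMod p) : E.e ζ v ^ p = 1 := by
  rw [← E.e_nsmul hζ, ← Nat.cast_smul_eq_nsmul (ZMod p), ZMod.natCast_self, zero_smul, E.e_zero hζ]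

theorem exists_e {t : ↥(C.group k)} (ht : t ∈ E.T) (h : t ^ p = 1) : ∃ v : Fin l → ZMod p, E.e ζ v = t := by
  obtain ⟨c, rfl⟩ := E.mem_T.1 ht
  have h1 : c ^ p = 1 := E.τ_inj (by rw [map_pow, h, map_one])
  have h2 : ∀ i, ∃ n : ℕ, ζ ^ n = c i := fun i => by
    obtain ⟨n, -, hn⟩ := hζ.eq_pow_of_mem_rootsOfUnity (ξ := c i) ((mem_rootsOfUnity _ _).2 (congrFun h1 i))
    exact ⟨n, hn⟩
  choose n hn using h2
  refine ⟨fun i => ((n i : ℤ) : ZMod p), (E.τ_coch hζ _).symm.trans (congrArg _ (funext fun i => ?_))⟩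
  rw [coch_apply, zpow_natCast, hn]

theorem τ_mon (B : Matrix (Fin l) (Fin l) ℤ) (v : Fin l → ZMod p) :
    E.τ (mon B (coch (fun i => ((v i).val : ℤ)) ζ)) = E.e ζ (mv B v) := by
  rw [mon_coch, E.τ_coch hζ]
  congr 1
  funext i
  simp [mv, mulVec, dotProduct]

theorem F_e (v : Fin l → ZMod p) : X.F (E.e ζ v) = E.e ζ (mv E.A v) := (E.F_τ _).trans (E.τ_mon hζ _ v)

theorem fix_iff {v : Fin l → ZMod p} : X.F (E.e ζ v) = E.e ζ v ↔ mv E.A v = v := by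
  rw [E.F_e hζ, (E.e_inj hζ).eq_iff]

theorem conj_e {w : M.Group} {m : ↥(C.group k)} (hm : E.Rp w m) (v : Fin l → ZMod p) :
    m * E.e ζ v * m⁻¹ = E.e ζ (mv (wm X w) v) := (E.conj_τ hm _).trans (E.τ_mon hζ _ v)

theorem χ_e (a : Fin l → ℤ) (v : Fin l → ZMod p) : E.χ a (E.e ζ v) = ((ζ ^ (vl a v).val : kˣ) : k) := by
  rw [e, χ_τ, chr_coch, ← zpow_natCast]
  congr 1
  refine (zpow_eq hζ).2 ?_
  simp [vl]

theorem χ_e_eq_one {a : Fin l → ℤ} {v : Fin l → ZMod p} : E.χ a (E.e ζ v) = 1 ↔ vl a v = 0 := by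
  rw [E.χ_e hζ, Units.val_eq_one, hζ.pow_eq_one_iff_dvd, ← ZMod.natCast_eq_zero_iff, ZMod.natCast_zmod_val]

theorem mem_Sz_e {B : Set (Fin l → ZMod p)} {a : Fin l → ℤ} :
    a ∈ E.Sz (E.e ζ '' B) ↔ Rt C l a ∧ ∀ v ∈ B, vl a v = 0 :=
  E.mem_Sz.trans <| and_congr Iff.rfl ⟨fun h v hv => (E.χ_e_eq_one hζ).1 (h _ ⟨v, hv, rfl⟩), by
    rintro h _ ⟨v, hv, rfl⟩
    exact (E.χ_e_eq_one hζ).2 (h v hv)⟩

/-- change of coordinates for the elements of order `p` -/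
theorem exists_move_e {W : Matrix (Fin l) (Fin l) ℤ} (hW : WM C l W) :
    ∃ E' : Tor X, E'.T = E.T ∧ ∀ v : Fin l → ZMod p, E'.e ζ (mv W v) = E.e ζ v := by
  obtain ⟨w, rfl⟩ := hW.exists_w X
  obtain ⟨E', h1, h2, -⟩ := E.exists_move w⁻¹
  refine ⟨E', h1, fun v => ?_⟩
  rw [e, h2, E.τ_mon hζ, ← mv_mul, ← map_mul, inv_mul_cancel, map_one, mv_one]

end Tor

/-! ### existence of tori -/

section Ex

variable (X : XF hp r k Mx)

/-- the quasi-split torus -/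
def tor0 : Tor X := ⟨1, by rw [map_one, mul_one, inv_one]; exact one_mem _⟩

theorem exists_tor_of_mem {T : Subgroup ↥(C.group k)} (hT : T ∈ tori X.D) : ∃ E : Tor X, E.T = T := by
  obtain ⟨V, hV⟩ := mem_tori.1 hT
  obtain ⟨y, _, hF, h1, -⟩ := X.D.exists_of_pair hV
  exact ⟨⟨y, hF⟩, h1⟩

/-- a semisimple element of `G ^ F` lies in an `F`-stable torus -/
theorem exists_tor {t : ↥(C.group k)} (hF : X.F t = t) (ht : ¬ r ∣ orderOf t) : ∃ E : Tor X, t ∈ E.T := by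
  obtain ⟨T, h1, h2⟩ := (Asm.sys' X.D).toral (s := t) ⟨Subgroup.mem_top t, hF⟩ ht
  obtain ⟨E, rfl⟩ := exists_tor_of_mem X h1
  exact ⟨E, h2⟩

/-- an `F`-stable toral set lies in an `F`-stable torus -/
theorem exists_tor_of_conj {Z : Set ↥(C.group k)} (hF : ∀ z ∈ Z, X.F z ∈ Z) {x : ↥(C.group k)}
    (hZ : ∀ z ∈ Z, x⁻¹ * z * x ∈ X.D.T) : ∃ E : Tor X, Z ⊆ E.T := by
  obtain ⟨y, _, hy, h, -⟩ := SB.Exc.Max.exists_conj_le_T X.D hF (Subgroup.mem_top x) hZ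
  exact ⟨⟨y, hy⟩, h⟩

variable {X}

/-- a semisimple element of the connected centraliser of `Z` lies in a torus together with `Z` -/
theorem Tor.exists_tor_cen (E : Tor X) {Z : Set ↥(C.group k)} (hZ : Z ⊆ E.T) (hFZ : ∀ z ∈ Z, X.F z ∈ Z)
    {t : ↥(C.group k)} (hc : t ∈ E.cen Z) (hF : X.F t = t) (ht : ¬ r ∣ orderOf t) :
    ∃ E' : Tor X, Z ⊆ E'.T ∧ t ∈ E'.T := by
  obtain ⟨T, h1, h2⟩ := (Asm.sys' (E.D.sub hZ (fun a ha => E.D.g_mem_Sz hZ hFZ ha) rfl)).toral (s := t) ⟨hc, hF⟩ ht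
  rw [Datum.tori_sub] at h1
  obtain ⟨E', rfl⟩ := exists_tor_of_mem X (X.D.tori_conj (Subgroup.mem_top _) E.hF ▸ h1.1)
  exact ⟨E', h1.2, h2⟩

/-- the connected centraliser does not depend on the torus -/
theorem Tor.cen_eq (E E' : Tor X) {Z : Set ↥(C.group k)} (hZ : Z ⊆ E.T) (hZ' : Z ⊆ E'.T) :
    E.cen Z = E'.cen Z := (E.D.conn_eq_cen hZ).symm.trans (E'.D.conn_eq_cen hZ')

end Ex

/-! ### lifted automorphisms -/

variable {X : XF hp r k Mx} {Adm : Matrix (Fin l) (Fin l) ℤ → Prop} {d : ℕ} {S : Type} [Group S]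

/-- `β` is a lift of `α` -/
structure Lift (s : XS X Adm d S) (α : MulAut S) (β : MulAut ↥(C.group k)) : Prop where
  ι : ∀ x, s.ι (α x) = β (s.ι x)
  comm : ∀ y, β (X.F y) = X.F (β y)
  frm : ∃ g α₀, ∃ A : Matrix (Fin l) (Fin l) ℤ, Au X.D α₀ A ∧ Adm A ∧ β = MulAut.conj g * α₀

theorem exists_lift (s : XS X Adm d S) (α : MulAut S) : ∃ β, Lift s α β := by
  obtain ⟨g, hg, α₀, A, h1, h2, h3⟩ := s.aut α
  refine ⟨MulAut.conj g * α₀, h3, fun y => ?_, g, α₀, A, h1, h2, rfl⟩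
  show g * α₀ (X.F y) * g⁻¹ = X.F (g * α₀ y * g⁻¹)
  rw [map_mul, map_mul, map_inv, show X.F g = g from hg.2, h1.comm]

/-- **The form of a lift between two tori.** -/
theorem Lift.form {s : XS X Adm d S} {α : MulAut S} {β : MulAut ↥(C.group k)} (L : Lift s α β) (E E' : Tor X)
    {I : Type*} {t : I → ↥(C.group k)} (ht : ∀ i, t i ∈ E.T) (ht' : ∀ i, β (t i) ∈ E'.T) :
    ∃ c ∈ E'.S (E'.Sz (Set.range fun i => β (t i))), ∃ (w : M.Group) (A : Matrix (Fin l) (Fin l) ℤ), Adm A ∧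
      ∀ x, β (E.τ x) = c * E'.τ (mon (wm X w * A) x) * c⁻¹ := by
  obtain ⟨g, α₀, A, h1, h2, rfl⟩ := L.frm
  obtain ⟨c, hc, m, ⟨w, hm⟩, -, e⟩ := E'.D.exists_conj_form (s := fun i => E'.y * α₀ (E.y⁻¹ * t i * E.y) * E'.y⁻¹)
    (t := fun i => (MulAut.conj g * α₀) (t i)) (fun i => conj_mem_cj.2 ((h1.memT _).2 (E.mem_T'.1 (ht i)))) ht'
    (Subgroup.mem_top (g * α₀ E.y * E'.y⁻¹)) (fun i => by
      rw [MulAut.mul_apply, MulAut.conj_apply, map_mul, map_mul, map_inv]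
      group)
  refine ⟨c, hc, w, A, h2, fun x => ?_⟩
  have h3 : (MulAut.conj g * α₀) (E.τ x) =
      (g * α₀ E.y * E'.y⁻¹) * E'.τ (mon A x) * (g * α₀ E.y * E'.y⁻¹)⁻¹ := by
    have h4 : α₀ (τ0 X x) = τ0 X (mon A x) := h1.tau x
    rw [E.τ_eq, E'.τ_eq, MulAut.mul_apply, MulAut.conj_apply, map_mul, map_mul, map_inv, h4]
    group
  rw [h3, e, mon_mul, ← E'.conj_τ (v := w) hm]
  group

/-- the action on the toral elements themselves -/
theorem Lift.form_e {s : XS X Adm d S} {α : MulAut S} {β : MulAut ↥(C.group k)} (L : Lift s α β) (E E' : Tor X)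
    {p : ℕ} [Fact p.Prime] {ζ : kˣ} (hζ : IsPrimitiveRoot ζ p) {B : Set (Fin l → ZMod p)}
    (hB : ∀ v ∈ B, β (E.e ζ v) ∈ E'.T) : ∃ (w : M.Group) (A : Matrix (Fin l) (Fin l) ℤ), Adm A ∧
      ∀ v ∈ B, β (E.e ζ v) = E'.e ζ (mv (wm X w * A) v) := by
  obtain ⟨c, hc, w, A, h1, h2⟩ := L.form E E' (t := fun v : B => E.e ζ v.1) (fun v => E.e_mem ζ _) fun v => hB v v.2
  refine ⟨w, A, h1, fun v hv => ?_⟩
  have h3 := E'.D.cen_le_centralizer (by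
    rintro _ ⟨u, rfl⟩
    exact hB u u.2) (E'.D.S_le_cen _ hc) _ ⟨⟨v, hv⟩, rfl⟩
  have h4 : β (E.e ζ v) = c * E'.e ζ (mv (wm X w * A) v) * c⁻¹ := (h2 _).trans (by rw [E'.τ_mon hζ])
  have h5 : β (E.e ζ v) * c = c * β (E.e ζ v) := h3
  rw [← mul_left_cancel_iff (a := c), ← h5, h4, inv_mul_cancel_right]

/-! ### `Pure` in coordinates -/

section Pure

variable (s : XS X Adm d S) {p : ℕ} [Fact p.Prime] {ζ : kˣ} (hζ : IsPrimitiveRoot ζ p) {Γ : Subgroup (MulAut S)}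
  {Q : Subgroup S}

theorem ι_inj : Function.Injective s.ι := s.ov.inj

theorem F_ι (a : S) : X.F (s.ι a) = s.ι a := (s.ov.mem a).2

/-- fixed elements of order prime to `d` lie in `S` -/
theorem exists_ι {y : ↥(C.group k)} (hF : X.F y = y) {n : ℕ} (hn : y ^ n = 1) (hd : d.Coprime n) : ∃ a, s.ι a = y := by
  have h1 : y ^ d ∈ s.ι.range := s.pow_mem ⟨Subgroup.mem_top y, hF⟩
  obtain ⟨m, hm⟩ := exists_pow_eq_self_of_coprime (x := y) (n := d)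
    (hd.coprime_dvd_right (orderOf_dvd_of_pow_eq_one hn))
  rw [← hm]
  exact pow_mem h1 m

include hζ

theorem pElt_of_e (E : Tor X) {a : S} {u : Fin l → ZMod p} (ha : s.ι a = E.e ζ u) : PElt p a := by
  have h : a ^ p = 1 := ι_inj s (by rw [map_pow, ha, E.e_pow hζ, map_one])
  obtain ⟨j, -, hj⟩ := (Nat.dvd_prime_pow (Fact.out : p.Prime) (m := 1) (i := orderOf a)).1
    (by rw [pow_one]; exact orderOf_dvd_of_pow_eq_one h)
  exact ⟨j, hj⟩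

theorem ne_one_of_e (E : Tor X) {a : S} {u : Fin l → ZMod p} (ha : s.ι a = E.e ζ u) (hu : u ≠ 0) : a ≠ 1 := fun h =>
  hu ((E.e_eq_one hζ).1 (by rw [← ha, h, map_one]))

/-- `Pure.conj` in coordinates -/
theorem cj_of_pure (P : Pure p S Γ Q) (E E' : Tor X) {a b : S} (ha : a ∈ KK p Q) (hb : b ∈ KK p Q)
    {u v : Fin l → ZMod p} (hu : s.ι a = E.e ζ u) (hv : s.ι b = E'.e ζ v) (u0 : u ≠ 0) (v0 : v ≠ 0) : Cj C Adm u v := by
  obtain ⟨α, -, h⟩ := P.conj a ha b hb (pElt_of_e s hζ E hu) (pElt_of_e s hζ E' hv) (ne_one_of_e s hζ E hu u0)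
    (ne_one_of_e s hζ E' hv v0)
  obtain ⟨β, L⟩ := exists_lift s α
  have h1 : β (E.e ζ u) = E'.e ζ v := by rw [← hu, ← L.ι, h, hv]
  obtain ⟨w, A, h2, h3⟩ := L.form_e E E' hζ (B := {u}) (by
    rintro _ rfl
    rw [h1]
    exact E'.e_mem ζ v)
  exact ⟨_, A, WM_wm X w, h2, E'.e_inj hζ (h1.symm.trans (h3 u rfl))⟩

/-- the vectors of the elements of a subgroup `K` of `S` -/
def vs (E : Tor X) (K : Subgroup S) : Submodule (ZMod p) (Fin l → ZMod p) where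
  carrier := {v | ∃ a ∈ K, s.ι a = E.e ζ v}
  zero_mem' := ⟨1, one_mem _, by rw [map_one, E.e_zero hζ]⟩
  add_mem' := fun ⟨a, a1, a2⟩ ⟨b, b1, b2⟩ => ⟨a * b, mul_mem a1 b1, by rw [map_mul, a2, b2, E.e_add hζ]⟩
  smul_mem' := fun c _ ⟨a, a1, a2⟩ => ⟨a ^ c.val, pow_mem a1 _, by rw [map_pow, a2, E.e_smul hζ]⟩

theorem mem_vs {E : Tor X} {K : Subgroup S} {v : Fin l → ZMod p} : v ∈ vs s hζ E K ↔ ∃ a ∈ K, s.ι a = E.e ζ v :=
  Iff.rfl

theorem fix_of_mem_vs {E : Tor X} {K : Subgroup S} {v : Fin l → ZMod p} (h : v ∈ vs s hζ E K) : mv E.A v = v := by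
  obtain ⟨a, -, h⟩ := h
  rw [← E.fix_iff hζ, ← h, F_ι]

/-- the part of `K(Q)` in a torus is pure -/
theorem pureSp (P : Pure p S Γ Q) (E : Tor X) : PureSp C Adm (vs s hζ E (KK p Q)) :=
  fun _ ⟨_, a1, a2⟩ _ ⟨_, b1, b2⟩ u0 v0 => cj_of_pure s hζ P E E a1 b1 a2 b2 u0 v0

/-- `Pure.abel` in coordinates -/
theorem norm_of_pure (P : Pure p S Γ Q) (hab : Q ≤ Ce Q) (E : Tor X) (hQ : ∀ a ∈ Q, s.ι a ∈ E.T)
    {u v : Fin l → ZMod p} (hu : u ∈ vs s hζ E Q) (hv : v ∈ vs s hζ E Q) (u0 : u ≠ 0) (v0 : v ≠ 0) :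
    ∃ (w : M.Group) (A : Matrix (Fin l) (Fin l) ℤ), Adm A ∧ (∀ x ∈ vs s hζ E Q, mv (wm X w * A) x ∈ vs s hζ E Q) ∧
      mv (wm X w * A) u = v := by
  obtain ⟨a, a1, a2⟩ := hu
  obtain ⟨b, b1, b2⟩ := hv
  obtain ⟨α, -, h1, h2⟩ := P.abel hab a a1 b b1 (ne_one_of_e s hζ E a2 u0) (ne_one_of_e s hζ E b2 v0)
  obtain ⟨β, L⟩ := exists_lift s α
  obtain ⟨w, A, h3, h4⟩ := L.form_e E E hζ (B := vs s hζ E Q) (by
    rintro x ⟨c, c1, c2⟩
    rw [← c2, ← L.ι]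
    exact hQ _ ((h1 c).2 c1))
  refine ⟨w, A, h3, fun x hx => ?_, E.e_inj hζ ?_⟩
  · obtain ⟨c, c1, c2⟩ := hx
    exact ⟨α c, (h1 c).2 c1, by rw [L.ι, c2, h4 x ⟨c, c1, c2⟩]⟩
  · rw [← h4 u ⟨a, a1, a2⟩, ← a2, ← L.ι, h2, b2]

end Pure

/-! ### the closure principle -/

theorem le_KK {p : ℕ} {Q : Subgroup S} : Q ≤ KK p Q := fun a ha =>
  Subgroup.mem_centralizer_iff.2 fun y hy => by
    have h : RR p Q ≤ Subgroup.centralizer (Q : Set S) := (Subgroup.closure_le _).2 fun _ h => h.1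
    exact (h hy a ha).symm

/-- if the `p'`-elements of `C(Q)` commute with `a` then `a ∈ K(Q)` -/
theorem mem_KK_of {p : ℕ} {Q : Subgroup S} {a : S} (h : ∀ y ∈ Ce Q, ¬ p ∣ orderOf y → y * a = a * y) : a ∈ KK p Q :=
  Subgroup.mem_centralizer_iff.2 fun y hy => by
    have h1 : RR p Q ≤ Subgroup.centralizer {a} := (Subgroup.closure_le _).2 fun z hz =>
      Subgroup.mem_centralizer_singleton_iff.2 (h z hz.1 hz.2)
    exact Subgroup.mem_centralizer_singleton_iff.1 (h1 hy)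

theorem KK_mono {p : ℕ} {B Q : Subgroup S} (h : B ≤ Q) : KK p B ≤ KK p Q :=
  Subgroup.centralizer_le (Subgroup.closure_mono fun _ hy => ⟨Subgroup.centralizer_le h hy.1, hy.2⟩)

/-- the `p'`-elements which centralise `Z` lie in the connected centraliser -/
def PPr (E : Tor X) (p : ℕ) (Z : Set ↥(C.group k)) : Prop :=
  ∀ y ∈ Subgroup.centralizer Z, ¬ p ∣ orderOf y → y ∈ E.cen Z

/-- **The closure principle**: the elements of the torus on which the roots of `Z ⊆ Q` are trivial lie in `K(Q)`. -/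
theorem mem_KK (s : XS X Adm d S) {p : ℕ} {Q : Subgroup S} (E : Tor X) {Z : Set ↥(C.group k)}
    (hQ : ∀ z ∈ Z, ∃ b ∈ Q, s.ι b = z) (hP : PPr E p Z) {a : S} (ha : s.ι a ∈ E.T)
    (h : ∀ x ∈ E.Sz Z, E.χ x (s.ι a) = 1) : a ∈ KK p Q := by
  refine mem_KK_of fun y hy ho => ι_inj s ?_
  have h1 : s.ι y ∈ E.cen Z := hP _ (fun z hz => by
    obtain ⟨b, b1, rfl⟩ := hQ z hz
    rw [← map_mul, ← map_mul, hy b b1]) (by rwa [orderOf_injective _ (ι_inj s)])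
  have h2 : E.cen Z ≤ E.cen {s.ι a} :=
    sup_le_sup_left (BNOf.RGD.Sup_mono (S := E.D.Sz Z) (S' := E.D.Sz {s.ι a}) fun x hx => ⟨hx.1, by
      rintro _ rfl
      exact h x hx⟩) _
  rw [map_mul, map_mul]
  exact (E.D.cen_le_centralizer (Set.singleton_subset_iff.2 ha) (h2 h1) _ rfl).symm

end Cfsg.Agent.TO.X
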