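import Cfsg.Agent.TO.X.PlC

/-!
# S4817, exceptional groups: pure planes, `p = 5` (helper61)
-/

set_option autoImplicit false
set_option maxRecDepth 100000
set_option maxHeartbeats 400000
set_option Elab.async false

namespace Cfsg.Agent.TO.X.Pl

open Cfsg Cfsg.Lie Matrix Cfsg.Agent.KZ.DatX Cfsg.Agent.TO.X

/-- the search for F4, `p = 5` -/
abbrev jF45 : Job 4 := ⟨5, false, rowsF4, gF4, pF4, fun u => [u], [([1, 0, 0, 1], [1, 2, 4, 4])], [2, 4, 3, 2], 1, 0⟩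

/-- certificates -/
def cF45a : List (Ent 4) := [([1, 0, 0, 0], 0, [[0, 2, 2, 1]], []), ([2, 0, 0, 0], 0, [[0, 2, 2, 1]], []), ([0, 1, 0,
  0], 1, [[0, 0, 1, 1], [1, 0, 0, 0]], []), ([0, 0, 1, 0], 2, [[1, 1, 0, 0], [0, 0, 0, 1]], []), ([1, 0, 1, 0], 2,
  [[0, 1, 0, 0], [0, 0, 0, 1]], []), ([0, 0, 0, 1], 3, [[2, 2, 1, 0]], []), ([1, 0, 0, 1], 3, [[0, 2, 1, 0]], [([3, 1,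
  1, 0], [1, 2, 1]), ([1, 1, 2, 0], [1, 0, 2, 1, 2, 3, 2, 1, 0, 2, 1, 3, 2, 1])]), ([0, 0, 1, 1], 3, [[1, 1, 0, 0]],
  []), ([0, 0, 0, 2], 3, [[2, 2, 1, 0]], [])]

theorem twoF45a : (cF45a.all jF45.chk2) = true := by decide +kernel

theorem oneF45 : jF45.chk1 ((cF45a).map Prod.fst) = true := by decide +kernel

theorem twoF45 : ∀ e ∈ cF45a, jF45.chk2 e = true := List.all_eq_true.1 (by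
  simp only [twoF45a])

theorem okF45 : jF45.Ok chevF4 [1] := ⟨tyF4, Nm.one, alt_one, fun h => absurd h Bool.false_ne_true⟩

/-- **the pure planes** -/
theorem plF45 {u x : Fin 4 → ZMod 5} (H : PurePl chevF4 (AdmS 5 [1]) u x) :
    Std chevF4 u x ![1, 0, 0, 1] ![1, 2, 4, 4] := by
  obtain ⟨s, hs, W, h1, h2⟩ := @Job.Ok.plane _ _ _ _ ⟨pr5⟩ okF45 _ oneF45 twoF45 _ _ H
  obtain rfl := List.mem_singleton.1 hs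
  exact ⟨W, h1, h2.trans (by
      rw [sp2, show cv 5 4 [1, 0, 0, 1] = ![1, 0, 0, 1] by decide,
        show cv 5 4 [1, 2, 4, 4] = ![1, 2, 4, 4] by decide])⟩

theorem threeF45 : (jF45.std.all jF45.chk3) = true := by decide +kernel

/-- **the rank** -/
theorem rkF45 {B : Submodule (ZMod 5) (Fin 4 → ZMod 5)} (H : PureSp chevF4 (AdmS 5 [1]) B) :
    Module.finrank (ZMod 5) B ≤ 2 :=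
  @Job.Ok.rank _ _ _ _ ⟨pr5⟩ okF45 _ oneF45 twoF45 (by decide) (List.all_eq_true.1 threeF45) _ H

/-- the search for F4, `p = 5` -/
abbrev jG45 : Job 4 := ⟨5, false, rowsF4, gF4, pF4, altF, [([1, 0, 0, 1], [1, 2, 4, 4]), ([0, 1, 0, 0], [1, 0, 1,
  2])], [2, 4, 3, 2], 1, 0⟩

/-- certificates -/
def cG45a : List (Ent 4) := [([1, 0, 0, 0], 0, [[0, 2, 2, 1]], []), ([2, 0, 0, 0], 0, [[0, 2, 2, 1]], []), ([0, 1, 0,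
  0], 1, [[0, 0, 1, 1], [1, 0, 0, 0]], [([2, 0, 1, 1], [3]), ([3, 0, 1, 1], [2, 3]), ([1, 0, 2, 1], [3, 2]), ([4, 0,
  2, 1], [0, 1, 0, 2, 1, 0, 2, 1, 3, 2, 1, 0, 2, 1, 2, 3, 2, 1, 0, 2, 1]), ([2, 0, 3, 1], [0]), ([3, 0, 3, 1], []),
  ([1, 0, 1, 2], []), ([4, 0, 1, 2], [0]), ([1, 0, 2, 2], [2, 3]), ([4, 0, 2, 2], [3]), ([2, 0, 1, 3], [0, 1, 0, 2, 1,
  0, 2, 1, 3, 2, 1, 0, 2, 1, 2, 3, 2, 1, 0, 2, 1]), ([3, 0, 1, 3], [3, 2])]), ([0, 0, 1, 0], 2, [[1, 1, 0, 0], [0, 0,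
  0, 1]], [([1, 1, 0, 1], [3, 2, 1, 0, 2, 1, 2, 3, 2, 1]), ([3, 1, 0, 1], [0, 1, 0, 2, 1, 0, 2, 1, 2, 3, 2, 1, 0, 2,
  1, 3]), ([1, 3, 0, 1], [1, 3, 2, 1, 0, 2, 1, 2, 3, 2, 1, 0]), ([2, 1, 0, 2], [1, 3, 2, 1, 0, 2, 1, 2, 3, 2, 1, 0]),
  ([1, 2, 0, 2], [0, 1, 0, 2, 1, 0, 2, 1, 2, 3, 2, 1, 0, 2, 1, 3]), ([2, 2, 0, 2], [3, 2, 1, 0, 2, 1, 2, 3, 2, 1]),
  ([2, 1, 0, 3], [3, 2, 1, 0, 2, 1, 2, 3, 2, 1, 0]), ([1, 2, 0, 3], [0, 1, 2, 1, 0, 2, 1, 2, 3, 2, 1, 0, 2, 1, 3]),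
  ([2, 2, 0, 3], [0, 1, 2, 1, 0, 2, 1, 3, 2, 1, 0, 2, 1, 2, 3]), ([1, 1, 0, 4], [0, 1, 2, 1, 0, 2, 1, 3, 2, 1, 0, 2,
  1, 2, 3]), ([3, 1, 0, 4], [0, 1, 2, 1, 0, 2, 1, 2, 3, 2, 1, 0, 2, 1, 3]), ([1, 3, 0, 4], [3, 2, 1, 0, 2, 1, 2, 3, 2,
  1, 0])]), ([1, 0, 1, 0], 2, [[0, 1, 0, 0], [0, 0, 0, 1]], [([1, 1, 0, 1], [3, 2, 1, 0, 2, 1, 2, 3, 2, 1, 2]), ([1,
  2, 0, 1], [0, 2, 1, 0, 3, 2, 1, 0, 2, 1, 3, 2, 1, 0]), ([2, 2, 0, 1], [0, 1, 2, 1, 0, 2, 1, 3, 2, 1, 0, 2, 1, 2, 3,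
  2, 1, 0, 2, 1]), ([0, 3, 0, 1], [0, 1, 3, 2, 1, 0, 2, 1, 3]), ([4, 3, 0, 1], [2, 1, 0, 2, 1, 2, 3, 2, 1, 2, 3]),
  ([0, 4, 0, 1], [0, 3, 2, 1, 0, 2, 1, 2, 3, 2, 1, 2]), ([0, 1, 0, 2], [0, 1, 3, 2, 1, 0, 2, 1, 3]), ([3, 1, 0, 2],
  [2, 1, 0, 2, 1, 2, 3, 2, 1, 2, 3]), ([2, 2, 0, 2], [3, 2, 1, 0, 2, 1, 2, 3, 2, 1, 2]), ([0, 3, 0, 2], [0, 3, 2, 1,
  0, 2, 1, 2, 3, 2, 1, 2]), ([2, 4, 0, 2], [0, 2, 1, 0, 3, 2, 1, 0, 2, 1, 3, 2, 1, 0]), ([4, 4, 0, 2], [0, 1, 2, 1, 0,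
  2, 1, 3, 2, 1, 0, 2, 1, 2, 3, 2, 1, 0, 2, 1]), ([1, 1, 0, 3], [0, 1, 2, 1, 0, 2, 1, 3, 2, 1, 0, 2, 1, 2, 3, 2, 1, 0,
  2, 1]), ([3, 1, 0, 3], [0, 2, 1, 0, 3, 2, 1, 0, 2, 1, 3, 2, 1, 0]), ([0, 2, 0, 3], [0, 3, 2, 1, 0, 2, 1, 2, 3, 2, 1,
  2]), ([3, 3, 0, 3], [3, 2, 1, 0, 2, 1, 2, 3, 2, 1, 2]), ([0, 4, 0, 3], [0, 1, 3, 2, 1, 0, 2, 1, 3]), ([2, 4, 0, 3],
  [2, 1, 0, 2, 1, 2, 3, 2, 1, 2, 3]), ([0, 1, 0, 4], [0, 3, 2, 1, 0, 2, 1, 2, 3, 2, 1, 2]), ([0, 2, 0, 4], [0, 1, 3,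
  2, 1, 0, 2, 1, 3]), ([1, 2, 0, 4], [2, 1, 0, 2, 1, 2, 3, 2, 1, 2, 3]), ([3, 3, 0, 4], [0, 1, 2, 1, 0, 2, 1, 3, 2, 1,
  0, 2, 1, 2, 3, 2, 1, 0, 2, 1]), ([4, 3, 0, 4], [0, 2, 1, 0, 3, 2, 1, 0, 2, 1, 3, 2, 1, 0]), ([4, 4, 0, 4], [3, 2, 1,
  0, 2, 1, 2, 3, 2, 1, 2])]), ([0, 0, 0, 1], 3, [[2, 2, 1, 0]], []), ([1, 0, 0, 1], 3, [[0, 2, 1, 0]], [([3, 1, 1, 0],
  [1, 2, 1]), ([1, 1, 2, 0], [1, 0, 2, 1, 2, 3, 2, 1, 0, 2, 1, 3, 2, 1])]), ([0, 0, 1, 1], 3, [[1, 1, 0, 0]], [([1, 1,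
  0, 0], [0, 1, 2, 1, 0, 2, 1]), ([2, 1, 0, 0], [1, 2, 1, 0, 2, 1, 3, 2, 1, 0]), ([2, 2, 0, 0], [0, 1, 2, 1, 0, 2,
  1]), ([1, 3, 0, 0], [1, 2, 1, 0, 2, 1, 3, 2, 1, 0]), ([1, 1, 1, 0], [2, 1, 0, 2, 1, 3, 2, 1]), ([1, 2, 1, 0], [1, 2,
  1, 2, 3, 2, 1, 0, 2, 1]), ([3, 1, 2, 0], [2, 1, 2, 3, 2, 1, 0, 2, 1]), ([2, 2, 2, 0], [2, 1, 0, 2, 1, 3, 2, 1]),
  ([2, 1, 3, 0], [2, 1, 0, 2, 1, 3, 2, 1, 0]), ([3, 1, 3, 0], [1, 2, 1, 2, 3, 2, 1, 0, 2, 1]), ([1, 2, 4, 0], [2, 1,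
  2, 3, 2, 1, 0, 2, 1]), ([1, 3, 4, 0], [2, 1, 0, 2, 1, 3, 2, 1, 0])]), ([0, 0, 0, 2], 3, [[2, 2, 1, 0]], [])]

theorem twoG45a : (cG45a.all jG45.chk2) = true := by decide +kernel

theorem oneG45 : jG45.chk1 ((cG45a).map Prod.fst) = true := by decide +kernel

theorem twoG45 : ∀ e ∈ cG45a, jG45.chk2 e = true := List.all_eq_true.1 (by
  simp only [twoG45a])

theorem okG45 : jG45.Ok chevF4 [1, GamF] := ⟨tyF4, nm_gam, alt_gam, fun h => absurd h Bool.false_ne_true⟩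

/-- **the pure planes** -/
theorem plG45 {u x : Fin 4 → ZMod 5} (H : PurePl chevF4 (AdmS 5 [1, GamF]) u x) :
    Std chevF4 u x ![1, 0, 0, 1] ![1, 2, 4, 4] ∨
      Std chevF4 u x ![0, 1, 0, 0] ![1, 0, 1, 2] := by
  obtain ⟨s, hs, W, h1, h2⟩ := @Job.Ok.plane _ _ _ _ ⟨pr5⟩ okG45 _ oneG45 twoG45 _ _ H
  rcases List.mem_pair.1 hs with rfl | rfl
  · exact Or.inl ⟨W, h1, h2.trans (by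
      rw [sp2, show cv 5 4 [1, 0, 0, 1] = ![1, 0, 0, 1] by decide,
        show cv 5 4 [1, 2, 4, 4] = ![1, 2, 4, 4] by decide])⟩
  · exact Or.inr ⟨W, h1, h2.trans (by
      rw [sp2, show cv 5 4 [0, 1, 0, 0] = ![0, 1, 0, 0] by decide,
        show cv 5 4 [1, 0, 1, 2] = ![1, 0, 1, 2] by decide])⟩

theorem threeG45 : (jG45.std.all jG45.chk3) = true := by decide +kernel

/-- **the rank** -/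
theorem rkG45 {B : Submodule (ZMod 5) (Fin 4 → ZMod 5)} (H : PureSp chevF4 (AdmS 5 [1, GamF]) B) :
    Module.finrank (ZMod 5) B ≤ 2 :=
  @Job.Ok.rank _ _ _ _ ⟨pr5⟩ okG45 _ oneG45 twoG45 (by decide) (List.all_eq_true.1 threeG45) _ H

/-- the search for E6, `p = 5` -/
abbrev jE65 : Job 6 := ⟨5, true, rowsE6, gE6, pE6, fun u => [u], [([4, 0, 4, 2, 0, 1], [0, 3, 0, 4, 4, 3])], [1, 2, 2,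
  3, 2, 1], 0, 1⟩

/-- certificates -/
def cE65a : List (Ent 6) := [([3, 1, 0, 0, 0, 0], 1, [[0, 0, 1, 1, 1, 1]], []), ([1, 2, 0, 0, 0, 0], 1, [[0, 0, 1, 1,
  1, 1]], []), ([0, 0, 1, 0, 0, 0], 2, [[0, 1, 0, 1, 1, 1], [1, 0, 0, 0, 0, 0]], []), ([0, 0, 2, 0, 0, 0], 2, [[0, 1,
  0, 1, 1, 1], [1, 0, 0, 0, 0, 0]], []), ([0, 0, 0, 0, 1, 0], 4, [[1, 1, 1, 1, 0, 0], [0, 0, 0, 0, 0, 1]], []), ([3,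
  0, 0, 0, 1, 0], 4, [[0, 1, 1, 1, 0, 0], [0, 0, 0, 0, 0, 1]], []), ([0, 0, 0, 0, 2, 0], 4, [[1, 1, 1, 1, 0, 0], [0,
  0, 0, 0, 0, 1]], []), ([1, 0, 0, 0, 2, 0], 4, [[0, 1, 1, 1, 0, 0], [0, 0, 0, 0, 0, 1]], []), ([1, 1, 0, 0, 0, 1], 5,
  [[0, 0, 1, 1, 1, 0]], [([0, 2, 1, 1, 1, 0], [1, 3, 1, 2, 0, 3, 2, 4, 3, 1, 5, 4, 3, 1, 2, 3, 4, 5]), ([2, 3, 2, 1,
  1, 0], [0, 2, 3, 2, 0, 4, 3, 1, 2, 3, 4, 5, 4, 3, 1, 2, 3, 4, 5]), ([0, 4, 1, 2, 1, 0], [1, 2, 3, 1, 2, 0, 3, 2, 4,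
  3, 1, 5, 4, 3, 1, 2, 3, 4, 5]), ([3, 1, 1, 1, 2, 0], [0, 1, 2, 3, 1, 2, 0, 3, 2, 4, 3, 1, 5, 4, 3, 1, 2, 3, 4,
  5])]), ([0, 2, 0, 0, 0, 1], 5, [[1, 0, 1, 1, 1, 0]], []), ([1, 0, 1, 0, 0, 1], 5, [[0, 1, 0, 1, 1, 0]], [([4, 1, 2,
  1, 1, 0], [3, 2, 0, 4, 3, 1, 2, 0, 3, 4]), ([3, 2, 3, 1, 1, 0], [0, 1, 2, 0, 3, 1, 4, 3]), ([2, 1, 4, 2, 1, 0], [2,
  3, 2, 0, 4, 3, 1, 2, 0, 3, 4]), ([1, 1, 1, 1, 2, 0], [0, 2, 0, 3, 1, 4, 3])]), ([0, 0, 2, 0, 0, 1], 5, [[0, 1, 0, 1,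
  1, 0], [1, 0, 0, 0, 0, 0]], []), ([1, 0, 0, 0, 1, 1], 5, [[0, 1, 1, 1, 0, 0]], [([2, 2, 1, 1, 0, 0], [0, 2, 3, 1, 2,
  0, 3, 2, 4, 3, 1, 5, 4, 3, 1, 2, 0, 3, 2, 4, 3, 1, 5, 4, 3, 2, 0]), ([4, 1, 2, 1, 0, 0], [0, 1, 2, 3, 2, 0, 4, 3, 1,
  2, 3, 4, 5, 4, 3, 1, 2, 0, 3, 2, 4, 3, 1, 5, 4, 3, 2, 0]), ([3, 1, 1, 2, 2, 0], [2, 3, 2, 0, 4, 3, 1, 2, 0, 3, 4, 5,
  4, 3, 1, 2, 0, 3, 2, 4, 3, 1, 5, 4, 3, 2, 0]), ([1, 1, 1, 1, 3, 0], [3, 2, 0, 4, 3, 1, 2, 0, 3, 4, 5, 4, 3, 1, 2, 0,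
  3, 2, 4, 3, 1, 5, 4, 3, 2, 0])]), ([0, 1, 0, 0, 0, 3], 5, [[1, 0, 1, 1, 1, 0]], []), ([0, 0, 1, 0, 0, 3], 5, [[0, 1,
  0, 1, 1, 0], [1, 0, 0, 0, 0, 0]], [])]

theorem twoE65a : (cE65a.all jE65.chk2) = true := by decide +kernel

theorem oneE65 : jE65.chk1 ((cE65a).map Prod.fst) = true := by decide +kernel

theorem twoE65 : ∀ e ∈ cE65a, jE65.chk2 e = true := List.all_eq_true.1 (by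
  simp only [twoE65a])

theorem okE65 : jE65.Ok chevE6 [1] := ⟨tyE6, Nm.one, alt_one, fun _ => ⟨rfl, sq5⟩⟩

/-- **the pure planes** -/
theorem plE65 {u x : Fin 6 → ZMod 5} (H : PurePl chevE6 (AdmS 5 [1, P6]) u x) :
    Std chevE6 u x ![4, 0, 4, 2, 0, 1] ![0, 3, 0, 4, 4, 3] := by
  obtain ⟨s, hs, W, h1, h2⟩ := @Job.Ok.plane _ _ _ _ ⟨pr5⟩ okE65 _ oneE65 twoE65 _ _ (pl_P6 H)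
  obtain rfl := List.mem_singleton.1 hs
  exact ⟨W, h1, h2.trans (by
      rw [sp2, show cv 5 6 [4, 0, 4, 2, 0, 1] = ![4, 0, 4, 2, 0, 1] by decide,
        show cv 5 6 [0, 3, 0, 4, 4, 3] = ![0, 3, 0, 4, 4, 3] by decide])⟩

theorem threeE65 : (jE65.std.all jE65.chk3) = true := by decide +kernel

/-- **the rank** -/
theorem rkE65 {B : Submodule (ZMod 5) (Fin 6 → ZMod 5)} (H : PureSp chevE6 (AdmS 5 [1, P6]) B) :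
    Module.finrank (ZMod 5) B ≤ 2 :=
  @Job.Ok.rank _ _ _ _ ⟨pr5⟩ okE65 _ oneE65 twoE65 (by decide) (List.all_eq_true.1 threeE65) _ (sp_P6 H)

/-- the search for E7, `p = 5` -/
abbrev jE75 : Job 7 := ⟨5, true, rowsE7, gE7, pE7, fun u => [u], [([4, 0, 4, 2, 0, 1, 0], [0, 3, 0, 4, 4, 3, 0])], [2,
  2, 3, 4, 3, 2, 1], 0, 1⟩

/-- certificates -/
def cE75a : List (Ent 7) := [([0, 1, 1, 0, 0, 0, 0], 2, [[0, 0, 0, 1, 1, 1, 1], [1, 0, 0, 0, 0, 0, 0]], []), ([0, 0,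
  0, 0, 1, 0, 0], 4, [[1, 1, 1, 1, 0, 0, 0], [0, 0, 0, 0, 0, 1, 1]], []), ([0, 1, 0, 0, 1, 0, 0], 4, [[1, 0, 1, 1, 0,
  0, 0], [0, 0, 0, 0, 0, 1, 1]], []), ([1, 0, 0, 0, 0, 1, 0], 5, [[0, 1, 1, 2, 1, 0, 0], [0, 0, 0, 0, 0, 0, 1]], [([2,
  0, 1, 1, 0, 0, 0], [0, 1, 3, 1, 2, 0, 3, 2, 4, 5, 4, 3, 1, 2, 3, 4, 5, 6, 5, 4, 3, 1, 2, 0, 3, 2, 4, 3, 5]), ([4, 0,
  2, 1, 0, 0, 0], [1, 2, 3, 1, 2, 0, 3, 2, 4, 3, 1, 5, 4, 3, 1, 2, 3, 4, 5, 6, 5, 4, 3, 1, 2, 0, 3, 2, 4, 3, 1, 5,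
  4]), ([3, 2, 0, 1, 1, 0, 0], [0, 2, 0, 3, 2, 4, 3, 2, 0, 5, 4, 3, 1, 2, 0, 3, 2, 4, 3, 6, 5, 4, 3, 1, 2, 0, 3, 2, 4,
  3, 1, 5, 4, 3, 6]), ([1, 1, 0, 1, 2, 0, 0], [0, 1, 2, 3, 2, 0, 4, 3, 1, 2, 0, 3, 4, 5, 4, 3, 1, 2, 3, 4, 5, 6, 5, 4,
  3, 1, 2, 0, 3, 2, 4, 3, 1, 5, 4, 3, 2])]), ([1, 0, 0, 0, 0, 1, 1], 6, [[0, 1, 1, 2, 1, 0, 0]], [([2, 2, 1, 1, 0, 0,
  0], [0, 2, 3, 2, 0, 4, 3, 1, 2, 0, 3, 4, 6, 5, 4, 3, 1, 2, 0, 3, 2, 4, 3, 1, 5, 4, 3, 2, 0, 6, 5, 4, 3, 1, 2, 3,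
  4]), ([4, 1, 2, 1, 0, 0, 0], [0, 2, 0, 3, 1, 4, 3, 5, 4, 3, 1, 2, 0, 3, 2, 4, 3, 1, 5, 4, 3, 2, 0, 6, 5, 4, 3, 1, 2,
  3, 4]), ([3, 0, 0, 1, 2, 2, 0], [2, 3, 2, 0, 4, 3, 1, 2, 0, 3, 4, 6, 5, 4, 3, 1, 2, 0, 3, 2, 4, 3, 1, 5, 4, 3, 2, 0,
  6, 5, 4, 3, 1, 2]), ([1, 0, 0, 1, 1, 3, 0], [0, 3, 2, 0, 4, 3, 1, 2, 0, 6, 5, 4, 3, 1, 2, 0, 3, 2, 4, 3, 1, 5, 4, 3,
  2, 0, 6, 5, 4, 3])]), ([0, 0, 1, 0, 0, 0, 2], 6, [[0, 1, 0, 1, 1, 1, 0], [1, 0, 0, 0, 0, 0, 0]], [])]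

theorem twoE75a : (cE75a.all jE75.chk2) = true := by decide +kernel

theorem oneE75 : jE75.chk1 ((cE75a).map Prod.fst) = true := by decide +kernel

theorem twoE75 : ∀ e ∈ cE75a, jE75.chk2 e = true := List.all_eq_true.1 (by
  simp only [twoE75a])

theorem okE75 : jE75.Ok chevE7 [1] := ⟨tyE7, Nm.one, alt_one, fun _ => ⟨rfl, sq5⟩⟩

/-- **the pure planes** -/
theorem plE75 {u x : Fin 7 → ZMod 5} (H : PurePl chevE7 (AdmS 5 [1]) u x) :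
    Std chevE7 u x ![4, 0, 4, 2, 0, 1, 0] ![0, 3, 0, 4, 4, 3, 0] := by
  obtain ⟨s, hs, W, h1, h2⟩ := @Job.Ok.plane _ _ _ _ ⟨pr5⟩ okE75 _ oneE75 twoE75 _ _ H
  obtain rfl := List.mem_singleton.1 hs
  exact ⟨W, h1, h2.trans (by
      rw [sp2, show cv 5 7 [4, 0, 4, 2, 0, 1, 0] = ![4, 0, 4, 2, 0, 1, 0] by decide,
        show cv 5 7 [0, 3, 0, 4, 4, 3, 0] = ![0, 3, 0, 4, 4, 3, 0] by decide])⟩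

theorem threeE75 : (jE75.std.all jE75.chk3) = true := by decide +kernel

/-- **the rank** -/
theorem rkE75 {B : Submodule (ZMod 5) (Fin 7 → ZMod 5)} (H : PureSp chevE7 (AdmS 5 [1]) B) :
    Module.finrank (ZMod 5) B ≤ 2 :=
  @Job.Ok.rank _ _ _ _ ⟨pr5⟩ okE75 _ oneE75 twoE75 (by decide) (List.all_eq_true.1 threeE75) _ H

/-- the search for E8, `p = 5` -/
abbrev jE85 : Job 8 := ⟨5, true, rowsE8, gE8, pE8, fun u => [u], [([4, 0, 4, 2, 0, 1, 0, 0], [0, 3, 0, 4, 4, 3, 0,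
  0]), ([0, 0, 0, 0, 1, 0, 0, 0], [1, 1, 1, 1, 0, 1, 1, 1])], [2, 3, 4, 6, 5, 4, 3, 2], 4, 0⟩

/-- certificates -/
def cE85a : List (Ent 8) := [([0, 0, 0, 0, 1, 0, 0, 0], 4, [[1, 1, 1, 1, 0, 0, 0, 0], [0, 0, 0, 0, 0, 1, 1, 1]], [([1,
  1, 1, 1, 0, 1, 1, 1], [2, 0, 3, 1, 2, 3, 4, 3, 1, 2, 0, 3, 2, 4, 5, 4, 3, 1, 2, 0, 3, 2, 4, 5, 6, 5, 4, 3, 1, 2, 0,
  3, 2, 4, 5, 6, 7, 6, 5, 4, 3, 1, 2, 0, 3, 2]), ([1, 1, 1, 1, 0, 2, 1, 1], [7, 6, 5]), ([1, 1, 1, 1, 0, 1, 2, 1], [6,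
  5, 7, 6]), ([1, 1, 1, 1, 0, 1, 1, 2], [0, 1, 2, 0, 4, 3, 1, 2, 0, 3, 2, 4, 3, 5, 4, 3, 1, 2, 6, 5, 4, 3, 1, 2, 0, 3,
  2, 4, 5, 7, 6, 5, 4, 3, 1, 2, 0, 3, 2, 4, 3, 1, 5, 4, 3, 2, 0, 6, 5, 4, 3, 1, 2, 3, 7, 6, 5])]), ([1, 0, 0, 0, 0, 0,
  0, 1], 7, [[0, 1, 1, 2, 2, 2, 1, 0]], [([2, 2, 1, 1, 0, 0, 0, 0], [0, 1, 2, 3, 2, 0, 4, 3, 1, 2, 0, 3, 4, 5, 4, 3,
  1, 2, 3, 4, 5, 6, 5, 4, 3, 1, 2, 0, 3, 2, 4, 3, 1, 5, 4, 3, 2, 7, 6, 5, 4, 3, 1, 2, 0, 3, 2, 4, 3, 1, 5, 4, 3, 2, 0,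
  6, 5, 4, 3, 1, 2, 3, 4, 7, 6, 5, 4, 3, 1, 2, 3, 4]), ([4, 1, 2, 1, 0, 0, 0, 0], [0, 1, 2, 3, 1, 2, 0, 3, 2, 4, 3, 1,
  5, 4, 3, 1, 2, 3, 4, 5, 6, 5, 4, 3, 1, 2, 0, 3, 2, 4, 3, 1, 5, 4, 3, 2, 7, 6, 5, 4, 3, 1, 2, 0, 3, 2, 4, 3, 1, 5, 4,
  3, 2, 0, 6, 5, 4, 3, 1, 2, 3, 4, 7, 6, 5, 4, 3, 1, 2, 3, 4]), ([3, 0, 0, 0, 0, 1, 1, 0], [0, 1, 2, 0, 4, 3, 1, 2, 0,
  5, 4, 3, 1, 2, 0, 3, 4, 6, 5, 4, 3, 1, 2, 0, 3, 2, 4, 3, 1, 5, 7, 6, 5, 4, 3, 1, 2, 0, 3, 2, 4, 3, 1, 5, 4, 3, 2, 0,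
  6, 5, 4, 3, 1, 7, 6, 5, 4, 3, 2]), ([1, 0, 0, 0, 0, 1, 2, 0], [0, 1, 2, 0, 4, 3, 1, 2, 3, 5, 4, 3, 1, 2, 0, 3, 2, 6,
  5, 4, 3, 1, 2, 0, 3, 2, 4, 3, 5, 4, 7, 6, 5, 4, 3, 1, 2, 0, 3, 2, 4, 3, 1, 5, 4, 3, 2, 0, 6, 5, 4, 3, 2, 7, 6, 5, 4,
  3, 1])])]

theorem twoE85a : (cE85a.all jE85.chk2) = true := by decide +kernel

theorem oneE85 : jE85.chk1 ((cE85a).map Prod.fst) = true := by decide +kernel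

theorem twoE85 : ∀ e ∈ cE85a, jE85.chk2 e = true := List.all_eq_true.1 (by
  simp only [twoE85a])

theorem okE85 : jE85.Ok chevE8 [1] := ⟨tyE8, Nm.one, alt_one, fun _ => ⟨rfl, sq5⟩⟩

/-- **the pure planes** -/
theorem plE85 {u x : Fin 8 → ZMod 5} (H : PurePl chevE8 (AdmS 5 [1]) u x) :
    Std chevE8 u x ![4, 0, 4, 2, 0, 1, 0, 0] ![0, 3, 0, 4, 4, 3, 0, 0] ∨
      Std chevE8 u x ![0, 0, 0, 0, 1, 0, 0, 0] ![1, 1, 1, 1, 0, 1, 1, 1] := by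
  obtain ⟨s, hs, W, h1, h2⟩ := @Job.Ok.plane _ _ _ _ ⟨pr5⟩ okE85 _ oneE85 twoE85 _ _ H
  rcases List.mem_pair.1 hs with rfl | rfl
  · exact Or.inl ⟨W, h1, h2.trans (by
      rw [sp2, show cv 5 8 [4, 0, 4, 2, 0, 1, 0, 0] = ![4, 0, 4, 2, 0, 1, 0, 0] by decide,
        show cv 5 8 [0, 3, 0, 4, 4, 3, 0, 0] = ![0, 3, 0, 4, 4, 3, 0, 0] by decide])⟩
  · exact Or.inr ⟨W, h1, h2.trans (by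
      rw [sp2, show cv 5 8 [0, 0, 0, 0, 1, 0, 0, 0] = ![0, 0, 0, 0, 1, 0, 0, 0] by decide,
        show cv 5 8 [1, 1, 1, 1, 0, 1, 1, 1] = ![1, 1, 1, 1, 0, 1, 1, 1] by decide])⟩

theorem threeE85 : (jE85.std.all jE85.chk3) = true := by decide +kernel

/-- **the rank** -/
theorem rkE85 {B : Submodule (ZMod 5) (Fin 8 → ZMod 5)} (H : PureSp chevE8 (AdmS 5 [1]) B) :
    Module.finrank (ZMod 5) B ≤ 2 :=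
  @Job.Ok.rank _ _ _ _ ⟨pr5⟩ okE85 _ oneE85 twoE85 (by decide) (List.all_eq_true.1 threeE85) _ H

end Cfsg.Agent.TO.X.Pl
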