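import Cfsg.Agent.TO.X.PlB

/-!
# S4817, exceptional groups: pure planes, the tables (helper61)
-/

set_option autoImplicit false
set_option maxRecDepth 100000
set_option maxHeartbeats 400000
set_option Elab.async false

namespace Cfsg.Agent.TO.X.Pl

open Cfsg Cfsg.Lie Matrix Cfsg.Agent.KZ.DatX Cfsg.Agent.TO.X

/-- the positive roots -/
def pF4 : List (ℕ × List ℕ) := [(0, [0, 0, 0, 1]), (0, [0, 0, 1, 0]), (0, [0, 0, 1, 1]), (8, [0, 1, 0, 0]), (8, [0, 1,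
  1, 0]), (8, [0, 1, 1, 1]), (0, [0, 2, 1, 0]), (0, [0, 2, 1, 1]), (0, [0, 2, 2, 1]), (8, [1, 0, 0, 0]), (8, [1, 1, 0,
  0]), (8, [1, 1, 1, 0]), (8, [1, 1, 1, 1]), (8, [1, 2, 1, 0]), (8, [1, 2, 1, 1]), (8, [1, 2, 2, 1]), (8, [1, 3, 2,
  1]), (0, [2, 2, 1, 0]), (0, [2, 2, 1, 1]), (0, [2, 2, 2, 1]), (8, [2, 3, 2, 1]), (0, [2, 4, 2, 1]), (0, [2, 4, 3,
  1]), (0, [2, 4, 3, 2])]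

/-- the form -/
def gF4 : List (List ℕ) := [[4, 6, 4, 2], [6, 12, 8, 4], [4, 8, 6, 3], [2, 4, 3, 2]]

theorem tyF4 : Ty chevF4 4 rowsF4 gF4 pF4 := ty_of 9 isRows_F4
  (by decide +kernel) (by decide +kernel) (by decide +kernel) (by decide +kernel) (by decide +kernel) (by decide +kernel)

/-- the positive roots -/
def pE6 : List (ℕ × List ℕ) := [(0, [0, 0, 0, 0, 0, 1]), (0, [0, 0, 0, 0, 1, 0]), (0, [0, 0, 0, 0, 1, 1]), (0, [0, 0,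
  0, 1, 0, 0]), (0, [0, 0, 0, 1, 1, 0]), (0, [0, 0, 0, 1, 1, 1]), (0, [0, 0, 1, 0, 0, 0]), (0, [0, 0, 1, 1, 0, 0]),
  (0, [0, 0, 1, 1, 1, 0]), (0, [0, 0, 1, 1, 1, 1]), (0, [0, 1, 0, 0, 0, 0]), (0, [0, 1, 0, 1, 0, 0]), (0, [0, 1, 0, 1,
  1, 0]), (0, [0, 1, 0, 1, 1, 1]), (0, [0, 1, 1, 1, 0, 0]), (0, [0, 1, 1, 1, 1, 0]), (0, [0, 1, 1, 1, 1, 1]), (0, [0,
  1, 1, 2, 1, 0]), (0, [0, 1, 1, 2, 1, 1]), (0, [0, 1, 1, 2, 2, 1]), (0, [1, 0, 0, 0, 0, 0]), (0, [1, 0, 1, 0, 0, 0]),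
  (0, [1, 0, 1, 1, 0, 0]), (0, [1, 0, 1, 1, 1, 0]), (0, [1, 0, 1, 1, 1, 1]), (0, [1, 1, 1, 1, 0, 0]), (0, [1, 1, 1, 1,
  1, 0]), (0, [1, 1, 1, 1, 1, 1]), (0, [1, 1, 1, 2, 1, 0]), (0, [1, 1, 1, 2, 1, 1]), (0, [1, 1, 1, 2, 2, 1]), (0, [1,
  1, 2, 2, 1, 0]), (0, [1, 1, 2, 2, 1, 1]), (0, [1, 1, 2, 2, 2, 1]), (0, [1, 1, 2, 3, 2, 1]), (0, [1, 2, 2, 3, 2, 1])]

/-- the form -/
def gE6 : List (List ℕ) := [[4, 3, 5, 6, 4, 2], [3, 6, 6, 9, 6, 3], [5, 6, 10, 12, 8, 4], [6, 9, 12, 18, 12, 6], [4,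
  6, 8, 12, 10, 5], [2, 3, 4, 6, 5, 4]]

theorem tyE6 : Ty chevE6 6 rowsE6 gE6 pE6 := ty_of 4 isRows_E6
  (by decide +kernel) (by decide +kernel) (by decide +kernel) (by decide +kernel) (by decide +kernel) (by decide +kernel)

/-- the positive roots -/
def pE7 : List (ℕ × List ℕ) := [(0, [0, 0, 0, 0, 0, 0, 1]), (0, [0, 0, 0, 0, 0, 1, 0]), (0, [0, 0, 0, 0, 0, 1, 1]),
  (0, [0, 0, 0, 0, 1, 0, 0]), (0, [0, 0, 0, 0, 1, 1, 0]), (0, [0, 0, 0, 0, 1, 1, 1]), (0, [0, 0, 0, 1, 0, 0, 0]), (0,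
  [0, 0, 0, 1, 1, 0, 0]), (0, [0, 0, 0, 1, 1, 1, 0]), (0, [0, 0, 0, 1, 1, 1, 1]), (0, [0, 0, 1, 0, 0, 0, 0]), (0, [0,
  0, 1, 1, 0, 0, 0]), (0, [0, 0, 1, 1, 1, 0, 0]), (0, [0, 0, 1, 1, 1, 1, 0]), (0, [0, 0, 1, 1, 1, 1, 1]), (0, [0, 1,
  0, 0, 0, 0, 0]), (0, [0, 1, 0, 1, 0, 0, 0]), (0, [0, 1, 0, 1, 1, 0, 0]), (0, [0, 1, 0, 1, 1, 1, 0]), (0, [0, 1, 0,
  1, 1, 1, 1]), (0, [0, 1, 1, 1, 0, 0, 0]), (0, [0, 1, 1, 1, 1, 0, 0]), (0, [0, 1, 1, 1, 1, 1, 0]), (0, [0, 1, 1, 1,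
  1, 1, 1]), (0, [0, 1, 1, 2, 1, 0, 0]), (0, [0, 1, 1, 2, 1, 1, 0]), (0, [0, 1, 1, 2, 1, 1, 1]), (0, [0, 1, 1, 2, 2,
  1, 0]), (0, [0, 1, 1, 2, 2, 1, 1]), (0, [0, 1, 1, 2, 2, 2, 1]), (0, [1, 0, 0, 0, 0, 0, 0]), (0, [1, 0, 1, 0, 0, 0,
  0]), (0, [1, 0, 1, 1, 0, 0, 0]), (0, [1, 0, 1, 1, 1, 0, 0]), (0, [1, 0, 1, 1, 1, 1, 0]), (0, [1, 0, 1, 1, 1, 1, 1]),
  (0, [1, 1, 1, 1, 0, 0, 0]), (0, [1, 1, 1, 1, 1, 0, 0]), (0, [1, 1, 1, 1, 1, 1, 0]), (0, [1, 1, 1, 1, 1, 1, 1]), (0,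
  [1, 1, 1, 2, 1, 0, 0]), (0, [1, 1, 1, 2, 1, 1, 0]), (0, [1, 1, 1, 2, 1, 1, 1]), (0, [1, 1, 1, 2, 2, 1, 0]), (0, [1,
  1, 1, 2, 2, 1, 1]), (0, [1, 1, 1, 2, 2, 2, 1]), (0, [1, 1, 2, 2, 1, 0, 0]), (0, [1, 1, 2, 2, 1, 1, 0]), (0, [1, 1,
  2, 2, 1, 1, 1]), (0, [1, 1, 2, 2, 2, 1, 0]), (0, [1, 1, 2, 2, 2, 1, 1]), (0, [1, 1, 2, 2, 2, 2, 1]), (0, [1, 1, 2,
  3, 2, 1, 0]), (0, [1, 1, 2, 3, 2, 1, 1]), (0, [1, 1, 2, 3, 2, 2, 1]), (0, [1, 1, 2, 3, 3, 2, 1]), (0, [1, 2, 2, 3,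
  2, 1, 0]), (0, [1, 2, 2, 3, 2, 1, 1]), (0, [1, 2, 2, 3, 2, 2, 1]), (0, [1, 2, 2, 3, 3, 2, 1]), (0, [1, 2, 2, 4, 3,
  2, 1]), (0, [1, 2, 3, 4, 3, 2, 1]), (0, [2, 2, 3, 4, 3, 2, 1])]

/-- the form -/
def gE7 : List (List ℕ) := [[4, 4, 6, 8, 6, 4, 2], [4, 7, 8, 12, 9, 6, 3], [6, 8, 12, 16, 12, 8, 4], [8, 12, 16, 24,
  18, 12, 6], [6, 9, 12, 18, 15, 10, 5], [4, 6, 8, 12, 10, 8, 4], [2, 3, 4, 6, 5, 4, 3]]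

theorem tyE7 : Ty chevE7 7 rowsE7 gE7 pE7 := ty_of 9 isRows_E7
  (by decide +kernel) (by decide +kernel) (by decide +kernel) (by decide +kernel) (by decide +kernel) (by decide +kernel)

/-- the positive roots -/
def pE8 : List (ℕ × List ℕ) := [(0, [0, 0, 0, 0, 0, 0, 0, 1]), (0, [0, 0, 0, 0, 0, 0, 1, 0]), (0, [0, 0, 0, 0, 0, 0,
  1, 1]), (0, [0, 0, 0, 0, 0, 1, 0, 0]), (0, [0, 0, 0, 0, 0, 1, 1, 0]), (0, [0, 0, 0, 0, 0, 1, 1, 1]), (0, [0, 0, 0,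
  0, 1, 0, 0, 0]), (0, [0, 0, 0, 0, 1, 1, 0, 0]), (0, [0, 0, 0, 0, 1, 1, 1, 0]), (0, [0, 0, 0, 0, 1, 1, 1, 1]), (0,
  [0, 0, 0, 1, 0, 0, 0, 0]), (0, [0, 0, 0, 1, 1, 0, 0, 0]), (0, [0, 0, 0, 1, 1, 1, 0, 0]), (0, [0, 0, 0, 1, 1, 1, 1,
  0]), (0, [0, 0, 0, 1, 1, 1, 1, 1]), (0, [0, 0, 1, 0, 0, 0, 0, 0]), (0, [0, 0, 1, 1, 0, 0, 0, 0]), (0, [0, 0, 1, 1,
  1, 0, 0, 0]), (0, [0, 0, 1, 1, 1, 1, 0, 0]), (0, [0, 0, 1, 1, 1, 1, 1, 0]), (0, [0, 0, 1, 1, 1, 1, 1, 1]), (0, [0,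
  1, 0, 0, 0, 0, 0, 0]), (0, [0, 1, 0, 1, 0, 0, 0, 0]), (0, [0, 1, 0, 1, 1, 0, 0, 0]), (0, [0, 1, 0, 1, 1, 1, 0, 0]),
  (0, [0, 1, 0, 1, 1, 1, 1, 0]), (0, [0, 1, 0, 1, 1, 1, 1, 1]), (0, [0, 1, 1, 1, 0, 0, 0, 0]), (0, [0, 1, 1, 1, 1, 0,
  0, 0]), (0, [0, 1, 1, 1, 1, 1, 0, 0]), (0, [0, 1, 1, 1, 1, 1, 1, 0]), (0, [0, 1, 1, 1, 1, 1, 1, 1]), (0, [0, 1, 1,
  2, 1, 0, 0, 0]), (0, [0, 1, 1, 2, 1, 1, 0, 0]), (0, [0, 1, 1, 2, 1, 1, 1, 0]), (0, [0, 1, 1, 2, 1, 1, 1, 1]), (0,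
  [0, 1, 1, 2, 2, 1, 0, 0]), (0, [0, 1, 1, 2, 2, 1, 1, 0]), (0, [0, 1, 1, 2, 2, 1, 1, 1]), (0, [0, 1, 1, 2, 2, 2, 1,
  0]), (0, [0, 1, 1, 2, 2, 2, 1, 1]), (0, [0, 1, 1, 2, 2, 2, 2, 1]), (0, [1, 0, 0, 0, 0, 0, 0, 0]), (0, [1, 0, 1, 0,
  0, 0, 0, 0]), (0, [1, 0, 1, 1, 0, 0, 0, 0]), (0, [1, 0, 1, 1, 1, 0, 0, 0]), (0, [1, 0, 1, 1, 1, 1, 0, 0]), (0, [1,
  0, 1, 1, 1, 1, 1, 0]), (0, [1, 0, 1, 1, 1, 1, 1, 1]), (0, [1, 1, 1, 1, 0, 0, 0, 0]), (0, [1, 1, 1, 1, 1, 0, 0, 0]),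
  (0, [1, 1, 1, 1, 1, 1, 0, 0]), (0, [1, 1, 1, 1, 1, 1, 1, 0]), (0, [1, 1, 1, 1, 1, 1, 1, 1]), (0, [1, 1, 1, 2, 1, 0,
  0, 0]), (0, [1, 1, 1, 2, 1, 1, 0, 0]), (0, [1, 1, 1, 2, 1, 1, 1, 0]), (0, [1, 1, 1, 2, 1, 1, 1, 1]), (0, [1, 1, 1,
  2, 2, 1, 0, 0]), (0, [1, 1, 1, 2, 2, 1, 1, 0]), (0, [1, 1, 1, 2, 2, 1, 1, 1]), (0, [1, 1, 1, 2, 2, 2, 1, 0]), (0,
  [1, 1, 1, 2, 2, 2, 1, 1]), (0, [1, 1, 1, 2, 2, 2, 2, 1]), (0, [1, 1, 2, 2, 1, 0, 0, 0]), (0, [1, 1, 2, 2, 1, 1, 0,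
  0]), (0, [1, 1, 2, 2, 1, 1, 1, 0]), (0, [1, 1, 2, 2, 1, 1, 1, 1]), (0, [1, 1, 2, 2, 2, 1, 0, 0]), (0, [1, 1, 2, 2,
  2, 1, 1, 0]), (0, [1, 1, 2, 2, 2, 1, 1, 1]), (0, [1, 1, 2, 2, 2, 2, 1, 0]), (0, [1, 1, 2, 2, 2, 2, 1, 1]), (0, [1,
  1, 2, 2, 2, 2, 2, 1]), (0, [1, 1, 2, 3, 2, 1, 0, 0]), (0, [1, 1, 2, 3, 2, 1, 1, 0]), (0, [1, 1, 2, 3, 2, 1, 1, 1]),
  (0, [1, 1, 2, 3, 2, 2, 1, 0]), (0, [1, 1, 2, 3, 2, 2, 1, 1]), (0, [1, 1, 2, 3, 2, 2, 2, 1]), (0, [1, 1, 2, 3, 3, 2,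
  1, 0]), (0, [1, 1, 2, 3, 3, 2, 1, 1]), (0, [1, 1, 2, 3, 3, 2, 2, 1]), (0, [1, 1, 2, 3, 3, 3, 2, 1]), (0, [1, 2, 2,
  3, 2, 1, 0, 0]), (0, [1, 2, 2, 3, 2, 1, 1, 0]), (0, [1, 2, 2, 3, 2, 1, 1, 1]), (0, [1, 2, 2, 3, 2, 2, 1, 0]), (0,
  [1, 2, 2, 3, 2, 2, 1, 1]), (0, [1, 2, 2, 3, 2, 2, 2, 1]), (0, [1, 2, 2, 3, 3, 2, 1, 0]), (0, [1, 2, 2, 3, 3, 2, 1,
  1]), (0, [1, 2, 2, 3, 3, 2, 2, 1]), (0, [1, 2, 2, 3, 3, 3, 2, 1]), (0, [1, 2, 2, 4, 3, 2, 1, 0]), (0, [1, 2, 2, 4,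
  3, 2, 1, 1]), (0, [1, 2, 2, 4, 3, 2, 2, 1]), (0, [1, 2, 2, 4, 3, 3, 2, 1]), (0, [1, 2, 2, 4, 4, 3, 2, 1]), (0, [1,
  2, 3, 4, 3, 2, 1, 0]), (0, [1, 2, 3, 4, 3, 2, 1, 1]), (0, [1, 2, 3, 4, 3, 2, 2, 1]), (0, [1, 2, 3, 4, 3, 3, 2, 1]),
  (0, [1, 2, 3, 4, 4, 3, 2, 1]), (0, [1, 2, 3, 5, 4, 3, 2, 1]), (0, [1, 3, 3, 5, 4, 3, 2, 1]), (0, [2, 2, 3, 4, 3, 2,
  1, 0]), (0, [2, 2, 3, 4, 3, 2, 1, 1]), (0, [2, 2, 3, 4, 3, 2, 2, 1]), (0, [2, 2, 3, 4, 3, 3, 2, 1]), (0, [2, 2, 3,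
  4, 4, 3, 2, 1]), (0, [2, 2, 3, 5, 4, 3, 2, 1]), (0, [2, 2, 4, 5, 4, 3, 2, 1]), (0, [2, 3, 3, 5, 4, 3, 2, 1]), (0,
  [2, 3, 4, 5, 4, 3, 2, 1]), (0, [2, 3, 4, 6, 4, 3, 2, 1]), (0, [2, 3, 4, 6, 5, 3, 2, 1]), (0, [2, 3, 4, 6, 5, 4, 2,
  1]), (0, [2, 3, 4, 6, 5, 4, 3, 1]), (0, [2, 3, 4, 6, 5, 4, 3, 2])]

/-- the form -/
def gE8 : List (List ℕ) := [[4, 5, 7, 10, 8, 6, 4, 2], [5, 8, 10, 15, 12, 9, 6, 3], [7, 10, 14, 20, 16, 12, 8, 4],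
  [10, 15, 20, 30, 24, 18, 12, 6], [8, 12, 16, 24, 20, 15, 10, 5], [6, 9, 12, 18, 15, 12, 8, 4], [4, 6, 8, 12, 10, 8,
  6, 3], [2, 3, 4, 6, 5, 4, 3, 2]]

theorem tyE8 : Ty chevE8 8 rowsE8 gE8 pE8 := ty_of 30 isRows_E8
  (by decide +kernel) (by decide +kernel) (by decide +kernel) (by decide +kernel) (by decide +kernel) (by decide +kernel)

/-- the standard form of a plane -/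
def Std (C : ChevalleyDatum) {l p : ℕ} (u x u0 x0 : Fin l → ZMod p) : Prop :=
  ∃ W, WM C l W ∧ Submodule.span (ZMod p) {mv W u, mv W x} = Submodule.span (ZMod p) {u0, x0}

theorem alt_one {l p : ℕ} : ∀ B ∈ [(1 : Matrix (Fin l) (Fin l) ℤ)], ∀ u, ∃ w ∈ [u], cv p l w = mv B (cv p l u) :=
  fun B hB u => ⟨u, List.mem_singleton_self _, by rw [List.mem_singleton.1 hB, mv_one]⟩

theorem pr5 : Nat.Prime 5 := by norm_num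

theorem pr7 : Nat.Prime 7 := by norm_num

theorem sq5 : (2 : ZMod 5) ≠ 0 ∧ ∀ b c : ZMod 5, ∃ i, ∀ s, s ≠ 0 → i ^ 2 + b * i + c ≠ s ^ 2 := by decide +kernel

theorem sq7 : (2 : ZMod 7) ≠ 0 ∧ ∀ b c : ZMod 7, ∃ i, ∀ s, s ≠ 0 → i ^ 2 + b * i + c ≠ s ^ 2 := by decide +kernel

theorem rank_one {C : ChevalleyDatum} {l p : ℕ} [Fact p.Prime] {Adm : Matrix (Fin l) (Fin l) ℤ → Prop}
    (h : ∀ u x : Fin l → ZMod p, ¬ PurePl C Adm u x) {B : Submodule (ZMod p) (Fin l → ZMod p)} (H : PureSp C Adm B) :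
    Module.finrank (ZMod p) B ≤ 1 := by
  by_contra hB
  obtain ⟨u, hu⟩ := (Module.finrank_pos_iff_exists_ne_zero (R := ZMod p) (M := B)).1 (by omega)
  obtain ⟨x, hx⟩ := exists_linearIndependent_pair_of_one_lt_finrank (R := ZMod p) (by omega) hu
  exact h _ _ (H.pl u.2 x.2 fun i j e => LinearIndependent.pair_iff.1 hx i j (Subtype.ext e))

theorem cj_P6 {p : ℕ} {u v : Fin 6 → ZMod p} (H : Cj chevE6 (AdmS p [1, P6]) u v) : Cj chevE6 (AdmS p [1]) u v := by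
  obtain ⟨W, _, h1, ⟨c, hc, B, hB, rfl⟩, h2⟩ := H
  rcases List.mem_pair.1 hB with rfl | rfl
  · exact ⟨W, _, h1, ⟨c, hc, 1, List.mem_singleton_self _, rfl⟩, h2⟩
  · refine ⟨W * -P6, _, h1.mul ⟨_, neg_E6.symm⟩, ⟨-c, fun h => hc (dvd_neg.1 h), 1, List.mem_singleton_self _, rfl⟩, ?_⟩
    rw [h2, mul_assoc, mul_smul_comm (-c), mul_one, neg_smul, smul_neg, neg_neg]

theorem pl_P6 {p : ℕ} {u x : Fin 6 → ZMod p} (H : PurePl chevE6 (AdmS p [1, P6]) u x) : PurePl chevE6 (AdmS p [1]) u x :=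
  ⟨H.ind, fun i j h => cj_P6 (H.cj i j h)⟩

theorem sp_P6 {p : ℕ} {B : Submodule (ZMod p) (Fin 6 → ZMod p)} (H : PureSp chevE6 (AdmS p [1, P6]) B) :
    PureSp chevE6 (AdmS p [1]) B := fun u hu v hv h1 h2 => cj_P6 (H u hu v hv h1 h2)

/-- the images under `1` and the special isogeny -/
def altF (u : List ℕ) : List (List ℕ) := [u, [u.getD 3 0, u.getD 2 0, 2 * u.getD 1 0, 2 * u.getD 0 0]]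

theorem GamF_eq : GamF = !![0, 0, 0, 1; 0, 0, 1, 0; 0, 2, 0, 0; 2, 0, 0, 0] := by decide +kernel

theorem alt_gam {p : ℕ} : ∀ B ∈ [1, GamF], ∀ u, ∃ w ∈ altF u, cv p 4 w = mv B (cv p 4 u) := by
  intro B hB u
  rcases List.mem_pair.1 hB with rfl | rfl
  · exact ⟨u, List.mem_cons_self, (mv_one _).symm⟩
  · refine ⟨_, List.mem_cons_of_mem _ List.mem_cons_self, funext fun i => ?_⟩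
    rw [GamF_eq, mv_apply]
    fin_cases i <;> simp [cv, vl, Fin.sum_univ_four]

theorem nm_gam : Nm chevF4 [1, GamF] := by
  unfold Nm
  decide +kernel

end Cfsg.Agent.TO.X.Pl
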