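import Cfsg.Agent.TO.Rows
import Cfsg.Agent.KZ.DatX.Main

/-!
# S4817, exceptional groups: the boxes and the lattice predicates (helper13)
-/

set_option autoImplicit false

namespace Cfsg.Agent.TO.X

open Cfsg Cfsg.Lie Matrix Cfsg.Agent.KZ.DatX Cfsg.Agent.Nodes

/-- the order of the centre of a perfect cyclic cover divides `c` -/
def ZD (c : ℕ) (S : Type) [Group S] : Prop :=
  ∀ (G : Type) [Group G] [Finite G] (σ : G →* S), commutator G = ⊤ → Function.Surjective σ →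
    σ.ker = Subgroup.center G → IsCyclic (Subgroup.center G) → Nat.card (Subgroup.center G) ∣ c

theorem ZD.dvd {c p : ℕ} {S : Type} [Group S] (h : ZD c S) {G : Type} [Group G] [Finite G] {σ : G →* S}
    {M : Ideal AlgInt} {b : Set (IrrCharacter G)} {D : Subgroup G} (H : Hyp p M b D σ) :
    Nat.card (Subgroup.center G) ∣ c := h G σ H.perf H.surj H.ker H.cyc

/-- a split row at the prime `p` -/
def RS (C : ChevalleyDatum) (p : ℕ) : Prop :=
  ∀ (F : Type) [Field F] [Fintype F] (r e : ℕ) [Fact r.Prime] [CharP F r], Fintype.card F = r ^ e → p ≠ r →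
    Row p ↥(C.group F)

/-- `F₄(q)`, `q > 2` -/
def RF4 (p : ℕ) : Prop :=
  ∀ (F : Type) [Field F] [Fintype F] (r e : ℕ) [Fact r.Prime] [CharP F r], Fintype.card F = r ^ e → r ^ e ≠ 2 →
    p ≠ r → Row p ↥(chevF4.group F)

/-- `E₆(q)` -/
abbrev RE6 (p : ℕ) : Prop := RS chevE6 p

/-- `E₇(q)` -/
abbrev RE7 (p : ℕ) : Prop := RS chevE7 p

/-- `E₈(q)` -/
abbrev RE8 (p : ℕ) : Prop := RS chevE8 p

/-- `²E₆(q)` -/
def RT6 (p : ℕ) : Prop :=
  ∀ (K : Type) [Field K] [Fintype K] (r e : ℕ) [Fact r.Prime] [CharP K r], Fintype.card K = (r ^ e) ^ 2 → p ≠ r →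
    Row p ↥(twistedE6 K (r ^ e))

/-- the admissible matrices for `F₄` -/
def AdmF4 (r : ℕ) (A : Matrix (Fin 4) (Fin 4) ℤ) : Prop := AdmF r A ∨ (r = 2 ∧ AdmL 2 [1, GamF] A)

/-! ### lattice predicates -/

variable (C : ChevalleyDatum) (l : ℕ)

/-- the matrices of the Weyl group on the cocharacter lattice -/
def WM (A : Matrix (Fin l) (Fin l) ℤ) : Prop := ∃ L : List (Fin l), A = (L.map (sM C l)).prod

/-- the roots -/
def Rt (a : Fin l → ℤ) : Prop := ∃ s < C.nroots, RGDChev.vec C l s = a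

variable {l}

/-- an integer matrix applied to a vector modulo `p` -/
def mv {p : ℕ} (A : Matrix (Fin l) (Fin l) ℤ) (v : Fin l → ZMod p) : Fin l → ZMod p := A.map (Int.cast : ℤ → ZMod p) *ᵥ v

/-- the value of a character on a vector modulo `p` -/
def vl {p : ℕ} (a : Fin l → ℤ) (v : Fin l → ZMod p) : ZMod p := ∑ i, (a i : ZMod p) * v i

/-- `v` is the image of `u` under the Weyl group and an admissible matrix -/
def Cj (Adm : Matrix (Fin l) (Fin l) ℤ → Prop) {p : ℕ} (u v : Fin l → ZMod p) : Prop :=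
  ∃ W A, WM C l W ∧ Adm A ∧ v = mv (W * A) u

/-- all nonzero vectors of `B` are conjugate -/
def PureSp (Adm : Matrix (Fin l) (Fin l) ℤ → Prop) {p : ℕ} (B : Submodule (ZMod p) (Fin l → ZMod p)) : Prop :=
  ∀ u ∈ B, ∀ v ∈ B, u ≠ 0 → v ≠ 0 → Cj C Adm u v

/-- a pure plane -/
structure PurePl (Adm : Matrix (Fin l) (Fin l) ℤ → Prop) {p : ℕ} (u x : Fin l → ZMod p) : Prop where
  ind : ∀ i j : ZMod p, i • u + j • x = 0 → i = 0 ∧ j = 0
  cj : ∀ i j : ZMod p, i • u + j • x ≠ 0 → Cj C Adm u (i • u + j • x)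

/-- scalar matrices prime to `p` times the matrices of `L` -/
def AdmS (p : ℕ) (L : List (Matrix (Fin l) (Fin l) ℤ)) (A : Matrix (Fin l) (Fin l) ℤ) : Prop :=
  ∃ c : ℤ, ¬ (p : ℤ) ∣ c ∧ ∃ B ∈ L, A = c • B

theorem admS_of_admL {p r : ℕ} (hp : p.Prime) (hr : r.Prime) (h : p ≠ r) {L : List (Matrix (Fin l) (Fin l) ℤ)}
    {A : Matrix (Fin l) (Fin l) ℤ} (hA : AdmL r L A) : AdmS p L A := by
  obtain ⟨j, B, hB, rfl⟩ := hA
  refine ⟨(r : ℤ) ^ j, fun h1 => h ?_, B, hB, rfl⟩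
  have h2 : p ∣ r ^ j := by exact_mod_cast h1
  exact (Nat.prime_dvd_prime_iff_eq hp hr).1 (hp.dvd_of_dvd_pow h2)

theorem admS_of_admF {p r : ℕ} (hp : p.Prime) (hr : r.Prime) (h : p ≠ r) {A : Matrix (Fin l) (Fin l) ℤ}
    (hA : AdmF r A) : AdmS p [1] A := by
  obtain ⟨j, rfl⟩ := hA
  exact admS_of_admL hp hr h ⟨j, 1, List.mem_singleton_self _, rfl⟩

variable {C}

theorem Cj.mono {Adm Adm' : Matrix (Fin l) (Fin l) ℤ → Prop} (h : ∀ A, Adm A → Adm' A) {p : ℕ} {u v : Fin l → ZMod p}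
    (H : Cj C Adm u v) : Cj C Adm' u v :=
  let ⟨W, A, h1, h2, h3⟩ := H
  ⟨W, A, h1, h A h2, h3⟩

theorem PureSp.mono {Adm Adm' : Matrix (Fin l) (Fin l) ℤ → Prop} (h : ∀ A, Adm A → Adm' A) {p : ℕ}
    {B : Submodule (ZMod p) (Fin l → ZMod p)} (H : PureSp C Adm B) : PureSp C Adm' B :=
  fun u hu v hv h1 h2 => (H u hu v hv h1 h2).mono h

theorem PurePl.mono {Adm Adm' : Matrix (Fin l) (Fin l) ℤ → Prop} (h : ∀ A, Adm A → Adm' A) {p : ℕ}
    {u x : Fin l → ZMod p} (H : PurePl C Adm u x) : PurePl C Adm' u x :=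
  ⟨H.ind, fun i j h1 => (H.cj i j h1).mono h⟩

theorem PureSp.pl {Adm : Matrix (Fin l) (Fin l) ℤ → Prop} {p : ℕ} {B : Submodule (ZMod p) (Fin l → ZMod p)}
    (H : PureSp C Adm B) {u x : Fin l → ZMod p} (hu : u ∈ B) (hx : x ∈ B) [Nontrivial (ZMod p)]
    (h : ∀ i j : ZMod p, i • u + j • x = 0 → i = 0 ∧ j = 0) : PurePl C Adm u x :=
  ⟨h, fun i j h1 => H u hu _ (add_mem (B.smul_mem i hu) (B.smul_mem j hx))
    (fun h2 => one_ne_zero (h 1 0 (by rw [h2, smul_zero, zero_smul, add_zero])).1) h1⟩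

theorem mv_mul {p : ℕ} (A B : Matrix (Fin l) (Fin l) ℤ) (v : Fin l → ZMod p) : mv (A * B) v = mv A (mv B v) := by
  unfold mv
  rw [mulVec_mulVec]
  exact congrArg (· *ᵥ v) (Matrix.map_mul (f := Int.castRingHom (ZMod p)))

theorem mv_one {p : ℕ} (v : Fin l → ZMod p) : mv 1 v = v := by
  unfold mv
  rw [Matrix.map_one _ Int.cast_zero Int.cast_one, one_mulVec]

theorem mv_add {p : ℕ} (A : Matrix (Fin l) (Fin l) ℤ) (u v : Fin l → ZMod p) : mv A (u + v) = mv A u + mv A v :=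
  mulVec_add _ _ _

theorem mv_smul {p : ℕ} (A : Matrix (Fin l) (Fin l) ℤ) (c : ZMod p) (v : Fin l → ZMod p) : mv A (c • v) = c • mv A v :=
  mulVec_smul _ _ _

theorem mv_apply {p : ℕ} (A : Matrix (Fin l) (Fin l) ℤ) (v : Fin l → ZMod p) (i : Fin l) : mv A v i = vl (A i) v := rfl

theorem smul_mv {p : ℕ} (c : ℤ) (A : Matrix (Fin l) (Fin l) ℤ) (v : Fin l → ZMod p) :
    mv (c • A) v = (c : ZMod p) • mv A v := by
  funext i
  simp only [mv, mulVec, dotProduct, Matrix.map_apply, Matrix.smul_apply, smul_eq_mul, Int.cast_mul, Pi.smul_apply,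
    Finset.mul_sum, mul_assoc]

theorem vl_vecMul {p : ℕ} (a : Fin l → ℤ) (A : Matrix (Fin l) (Fin l) ℤ) (v : Fin l → ZMod p) :
    vl (a ᵥ* A) v = vl a (mv A v) := by
  simp only [vl, mv, vecMul, mulVec, dotProduct, Matrix.map_apply, Int.cast_sum, Int.cast_mul, Finset.sum_mul,
    Finset.mul_sum]
  rw [Finset.sum_comm]
  simp only [mul_assoc]

theorem vl_add {p : ℕ} (a : Fin l → ℤ) (u v : Fin l → ZMod p) : vl a (u + v) = vl a u + vl a v := by
  simp [vl, mul_add, Finset.sum_add_distrib]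

theorem vl_smul {p : ℕ} (a : Fin l → ℤ) (c : ZMod p) (v : Fin l → ZMod p) : vl a (c • v) = c * vl a v := by
  simp [vl, Finset.mul_sum, mul_left_comm]

theorem WM.one : WM C l 1 := ⟨[], rfl⟩

theorem WM.mul {A B : Matrix (Fin l) (Fin l) ℤ} (hA : WM C l A) (hB : WM C l B) : WM C l (A * B) := by
  obtain ⟨L, rfl⟩ := hA
  obtain ⟨L', rfl⟩ := hB
  exact ⟨L ++ L', by rw [List.map_append, List.prod_append]⟩

end Cfsg.Agent.TO.X
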