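import Cfsg.Agent.TO.X.Pl7

/-!
# S4817, exceptional groups: pure planes, `p = 7`, type `F₄` and the rank for `E₈` (helper61)
-/

set_option autoImplicit false
set_option maxRecDepth 100000
set_option maxHeartbeats 400000
set_option Elab.async false

namespace Cfsg.Agent.TO.X.Pl

open Cfsg Cfsg.Lie Matrix Cfsg.Agent.KZ.DatX Cfsg.Agent.TO.X

/-- the search for F4, `p = 7` -/
abbrev jF47 : Job 4 := ⟨7, false, rowsF4, gF4, pF4, fun u => [u], [], [2, 4, 3, 2], 0, 0⟩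

/-- certificates -/
def cF47a : List (Ent 4) := [([1, 0, 0, 0], 0, [[0, 2, 2, 1]], []), ([2, 0, 0, 0], 0, [[0, 2, 2, 1]], []), ([3, 0, 0,
  0], 0, [[0, 2, 2, 1]], []), ([0, 1, 0, 0], 1, [[0, 0, 1, 1], [1, 0, 0, 0]], []), ([1, 1, 0, 0], 1, [[0, 0, 1, 1]],
  []), ([0, 0, 1, 0], 2, [[1, 1, 0, 0], [0, 0, 0, 1]], []), ([1, 0, 1, 0], 2, [[0, 1, 0, 0], [0, 0, 0, 1]], []), ([2,
  0, 1, 0], 2, [[0, 1, 0, 0], [0, 0, 0, 1]], []), ([0, 1, 1, 0], 2, [[1, 0, 0, 0], [0, 0, 0, 1]], []), ([0, 0, 2, 0],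
  2, [[1, 1, 0, 0], [0, 0, 0, 1]], []), ([0, 0, 0, 1], 3, [[2, 2, 1, 0]], []), ([1, 0, 0, 1], 3, [[0, 2, 1, 0]], []),
  ([2, 0, 0, 1], 3, [[0, 2, 1, 0]], []), ([0, 1, 0, 1], 3, [[1, 0, 0, 0], [0, 0, 1, 0]], []), ([0, 0, 1, 1], 3, [[1,
  1, 0, 0]], []), ([1, 0, 1, 1], 3, [[0, 1, 0, 0]], []), ([0, 0, 0, 2], 3, [[2, 2, 1, 0]], []), ([1, 0, 0, 2], 3, [[0,
  2, 1, 0]], []), ([0, 0, 1, 2], 3, [[1, 1, 0, 0]], []), ([0, 0, 0, 3], 3, [[2, 2, 1, 0]], [])]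

theorem twoF47a : (cF47a.all jF47.chk2) = true := by decide +kernel

theorem oneF47 : jF47.chk1 ((cF47a).map Prod.fst) = true := by decide +kernel

theorem twoF47 : ∀ e ∈ cF47a, jF47.chk2 e = true := List.all_eq_true.1 (by
  simp only [twoF47a])

theorem okF47 : jF47.Ok chevF4 [1] := ⟨tyF4, Nm.one, alt_one, fun h => absurd h Bool.false_ne_true⟩

/-- **no pure plane** -/
theorem plF47 (u x : Fin 4 → ZMod 7) : ¬ PurePl chevF4 (AdmS 7 [1]) u x := fun H =>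
  let ⟨_, hs, _⟩ := @Job.Ok.plane _ _ _ _ ⟨pr7⟩ okF47 _ oneF47 twoF47 _ _ H
  List.not_mem_nil hs

/-- **the rank** -/
theorem rkF47 {B : Submodule (ZMod 7) (Fin 4 → ZMod 7)} (H : PureSp chevF4 (AdmS 7 [1]) B) :
    Module.finrank (ZMod 7) B ≤ 1 := @rank_one _ _ _ ⟨pr7⟩ _ plF47 _ H

/-- the search for F4, `p = 7` -/
abbrev jG47 : Job 4 := ⟨7, false, rowsF4, gF4, pF4, altF, [([1, 1, 0, 0], [0, 2, 2, 4])], [2, 4, 3, 2], 0, 1⟩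

/-- certificates -/
def cG47a : List (Ent 4) := [([1, 0, 0, 0], 0, [[0, 2, 2, 1]], []), ([2, 0, 0, 0], 0, [[0, 2, 2, 1]], []), ([3, 0, 0,
  0], 0, [[0, 2, 2, 1]], []), ([0, 1, 0, 0], 1, [[0, 0, 1, 1], [1, 0, 0, 0]], []), ([1, 1, 0, 0], 1, [[0, 0, 1, 1]],
  [([4, 0, 2, 1], [0, 1, 2, 1, 3, 2, 1]), ([3, 0, 4, 1], []), ([6, 0, 1, 2], []), ([1, 0, 4, 2], [0, 1, 2, 1, 3, 2,
  1]), ([2, 0, 1, 4], [0, 1, 2, 1, 3, 2, 1]), ([5, 0, 2, 4], [])]), ([0, 0, 1, 0], 2, [[1, 1, 0, 0], [0, 0, 0, 1]],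
  []), ([1, 0, 1, 0], 2, [[0, 1, 0, 0], [0, 0, 0, 1]], []), ([2, 0, 1, 0], 2, [[0, 1, 0, 0], [0, 0, 0, 1]], []), ([0,
  1, 1, 0], 2, [[1, 0, 0, 0], [0, 0, 0, 1]], []), ([0, 0, 2, 0], 2, [[1, 1, 0, 0], [0, 0, 0, 1]], []), ([0, 0, 0, 1],
  3, [[2, 2, 1, 0]], []), ([1, 0, 0, 1], 3, [[0, 2, 1, 0]], []), ([2, 0, 0, 1], 3, [[0, 2, 1, 0]], []), ([0, 1, 0, 1],
  3, [[1, 0, 0, 0], [0, 0, 1, 0]], []), ([0, 0, 1, 1], 3, [[1, 1, 0, 0]], [([1, 4, 1, 0], [0, 2, 1, 0, 2, 1, 2, 3, 2,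
  1, 0, 2, 1, 3]), ([2, 1, 2, 0], [0, 2, 1, 0, 2, 1, 2, 3, 2, 1, 0, 2, 1, 3]), ([4, 1, 3, 0], [2, 1, 0, 2, 1, 2, 3, 2,
  1, 0, 2, 1, 3]), ([4, 2, 4, 0], [0, 2, 1, 0, 2, 1, 2, 3, 2, 1, 0, 2, 1, 3]), ([2, 4, 5, 0], [2, 1, 0, 2, 1, 2, 3, 2,
  1, 0, 2, 1, 3]), ([1, 2, 6, 0], [2, 1, 0, 2, 1, 2, 3, 2, 1, 0, 2, 1, 3])]), ([1, 0, 1, 1], 3, [[0, 1, 0, 0]], []),
  ([0, 0, 0, 2], 3, [[2, 2, 1, 0]], []), ([1, 0, 0, 2], 3, [[0, 2, 1, 0]], []), ([0, 0, 1, 2], 3, [[1, 1, 0, 0]], []),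
  ([0, 0, 0, 3], 3, [[2, 2, 1, 0]], [])]

theorem twoG47a : (cG47a.all jG47.chk2) = true := by decide +kernel

theorem oneG47 : jG47.chk1 ((cG47a).map Prod.fst) = true := by decide +kernel

theorem twoG47 : ∀ e ∈ cG47a, jG47.chk2 e = true := List.all_eq_true.1 (by
  simp only [twoG47a])

theorem okG47 : jG47.Ok chevF4 [1, GamF] := ⟨tyF4, nm_gam, alt_gam, fun h => absurd h Bool.false_ne_true⟩

/-- **the pure planes** -/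
theorem plG47 {u x : Fin 4 → ZMod 7} (H : PurePl chevF4 (AdmS 7 [1, GamF]) u x) :
    Std chevF4 u x ![1, 1, 0, 0] ![0, 2, 2, 4] := by
  obtain ⟨s, hs, W, h1, h2⟩ := @Job.Ok.plane _ _ _ _ ⟨pr7⟩ okG47 _ oneG47 twoG47 _ _ H
  obtain rfl := List.mem_singleton.1 hs
  exact ⟨W, h1, h2.trans (by
      rw [sp2, show cv 7 4 [1, 1, 0, 0] = ![1, 1, 0, 0] by decide,
        show cv 7 4 [0, 2, 2, 4] = ![0, 2, 2, 4] by decide])⟩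

theorem threeG47 : (jG47.std.all jG47.chk3) = true := by decide +kernel

/-- **the rank** -/
theorem rkG47 {B : Submodule (ZMod 7) (Fin 4 → ZMod 7)} (H : PureSp chevF4 (AdmS 7 [1, GamF]) B) :
    Module.finrank (ZMod 7) B ≤ 2 :=
  @Job.Ok.rank _ _ _ _ ⟨pr7⟩ okG47 _ oneG47 twoG47 (by decide) (List.all_eq_true.1 threeG47) _ H

theorem threeE87 : (jE87.std.all jE87.chk3) = true := by decide +kernel

/-- **the rank** -/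
theorem rkE87 {B : Submodule (ZMod 7) (Fin 8 → ZMod 7)} (H : PureSp chevE8 (AdmS 7 [1]) B) :
    Module.finrank (ZMod 7) B ≤ 2 :=
  @Job.Ok.rank _ _ _ _ ⟨pr7⟩ okE87 _ oneE87 twoE87 (by decide) (List.all_eq_true.1 threeE87) _ H

end Cfsg.Agent.TO.X.Pl
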