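import Cfsg.Agent.TO.X.Fr
import Cfsg.Agent.TO.E6.Tool
import Cfsg.Agent.TO.X.Conn

/-!
# S4817, exceptional groups: toral planes and the closure principle in coordinates (helper13)
-/

set_option autoImplicit false
set_option linter.unusedSectionVars false

namespace Cfsg.Agent.TO.X

open CoxeterSystem Cfsg Cfsg.Lie Cfsg.Lie.ChevalleyDatum Matrix
open Cfsg.Agent.ChevalleyStructure Cfsg.Agent.ChevalleyStructure.Elts Cfsg.Agent.ChevalleyStructure.CoxeterGeom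
  Cfsg.Agent.ChevalleyStructure.CoxeterGeomTypes
open Cfsg.Agent.Tits.Roots Cfsg.Agent.Nodes Cfsg.Agent.Nodes.RGDChev Cfsg.Agent.Nodes.Reps
open Cfsg.Agent.DL Cfsg.Agent.DL.PP Cfsg.Agent.DL.Uni Cfsg.Agent.DL.Asm Cfsg.Agent.KZ.DatX
open Cfsg.Agent.BHZ.Nil (KK RR)

variable {C : ChevalleyDatum} {l : ℕ} {M : CoxeterMatrix (Fin l)} {hp : IsType C l M} {r : ℕ} [Fact r.Prime]
  {k : Type} [Field k] [CharP k r] [IsAlgClosed k] {Mx : Matrix (Fin l) (Fin l) ℤ}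
  {X : XF hp r k Mx} {Adm : Matrix (Fin l) (Fin l) ℤ → Prop} {d : ℕ} {S : Type} [Group S] {p : ℕ} [Fact p.Prime]

/-- the `p'`-elements which centralise a toral set of `p`-elements lie in its connected centraliser -/
theorem Tor.ppr (E : Tor X) {Z : Set ↥(C.group k)} (hZ : Z ⊆ E.T) (h : ∀ z ∈ Z, ∃ n : ℕ, z ^ p ^ n = 1) : PPr E p Z := by
  intro y hy ho
  refine E6.mem_cen_of_cop E.D hZ (Subgroup.mem_top y) hy (n := orderOf y)
    (Nat.pos_of_ne_zero fun h0 => ho (h0 ▸ dvd_zero p)) (fun z hz => ?_) (by rw [pow_orderOf_eq_one]; exact one_mem _)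
  obtain ⟨n, hn⟩ := h z hz
  exact ⟨p ^ n, Nat.Coprime.pow_left n ((Nat.Prime.coprime_iff_not_dvd Fact.out).2 ho), hn⟩

/-- the centralisers of the elements of order `p` are connected -/
def Conn (X : XF hp r k Mx) (p : ℕ) : Prop :=
  ∀ (E : Tor X), ∀ t ∈ E.T, t ^ p = 1 → ∀ y, y * t = t * y → y ∈ E.cen {t}

theorem conn_of_pm (X : XF hp r k Mx) {f : ℕ} (h : Cn.PM C l f) (hf : p.Coprime f) : Conn X p :=
  fun E _ ht h1 y hy => Cn.mem_cen (D := E.D) ((Cn.pi1 X h).conj (Subgroup.mem_top _) E.hF) ht h1 hf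
    (Subgroup.mem_top y) hy

theorem not_dvd_of_pow (hpr : p ≠ r) {Y : Type*} [Group Y] {t : Y} {n : ℕ} (h : t ^ p ^ n = 1) : ¬ r ∣ orderOf t :=
  fun h1 => hpr ((Nat.prime_dvd_prime_iff_eq Fact.out Fact.out).1
    ((Fact.out : r.Prime).dvd_of_dvd_pow (h1.trans (orderOf_dvd_of_pow_eq_one h)))).symm

/-- two commuting elements lie in a torus -/
theorem exists_pair (hC : Conn X p) (hpr : p ≠ r) {z x : ↥(C.group k)} (hz : X.F z = z) (hx : X.F x = x)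
    (h1 : z ^ p = 1) (h2 : ¬ r ∣ orderOf x) (h : x * z = z * x) : ∃ E : Tor X, z ∈ E.T ∧ x ∈ E.T := by
  obtain ⟨E, hE⟩ := exists_tor X hz (not_dvd_of_pow hpr (n := 1) (by rwa [pow_one]))
  obtain ⟨E', h3, h4⟩ := E.exists_tor_cen (Z := {z}) (Set.singleton_subset_iff.2 hE) (by
    rintro _ rfl
    exact hz) (hC E z hE h1 x h) hx h2
  exact ⟨E', h3 rfl, h4⟩

section

variable (s : XS X Adm d S) {ζ : kˣ} (hζ : IsPrimitiveRoot ζ p) {Γ : Subgroup (MulAut S)} {Q : Subgroup S}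
include hζ

theorem vs_mono (E : Tor X) {K K' : Subgroup S} (h : K ≤ K') : vs s hζ E K ≤ vs s hζ E K' :=
  fun _ ⟨a, a1, a2⟩ => ⟨a, h a1, a2⟩

theorem Pure.pow_eq (P : Pure p S Γ Q) {a : S} (ha : a ∈ Q) : a ^ p = 1 := by
  obtain ⟨n, hn⟩ := P.pg ⟨a, ha⟩
  obtain ⟨j, -, hj⟩ := (Nat.dvd_prime_pow (Fact.out : p.Prime)).1
    (orderOf_dvd_of_pow_eq_one (show a ^ p ^ n = 1 from congrArg Subtype.val hn))
  exact P.expo a (le_KK ha) ⟨j, hj⟩

/-- an element of `Q` in the torus has a vector -/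
theorem exists_vec (P : Pure p S Γ Q) (E : Tor X) {a : S} (ha : a ∈ Q) (hT : s.ι a ∈ E.T) :
    ∃ v ∈ vs s hζ E Q, s.ι a = E.e ζ v := by
  obtain ⟨v, hv⟩ := E.exists_e hζ hT (by rw [← map_pow, Pure.pow_eq hζ P ha, map_one])
  exact ⟨v, ⟨a, ha, hv.symm⟩, hv.symm⟩

/-- the plane of two elements -/
theorem plane_of (P : Pure p S Γ Q) (E : Tor X) {a b : S} (ha : a ∈ KK p Q) (hb : b ∈ KK p Q) (h1 : a ≠ 1)
    (h2 : b ∉ Subgroup.zpowers a) {u x : Fin l → ZMod p} (hu : s.ι a = E.e ζ u) (hx : s.ι b = E.e ζ x) :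
    PurePl C Adm u x := by
  refine (pureSp s hζ P E).pl ⟨a, ha, hu⟩ ⟨b, hb, hx⟩ fun i j h => ?_
  have hj : j = 0 := by
    by_contra hj
    refine h2 ⟨((-(j⁻¹ * i)).val : ℕ), ι_inj s ?_⟩
    have h3 : x = (-(j⁻¹ * i)) • u := by
      rw [neg_smul, mul_smul, eq_neg_of_add_eq_zero_left h, smul_neg, neg_neg, smul_smul, inv_mul_cancel₀ hj, one_smul]
    show s.ι (a ^ (((-(j⁻¹ * i)).val : ℕ) : ℤ)) = _
    rw [zpow_natCast, map_pow, hu, hx, h3, E.e_smul hζ]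
  rw [hj, zero_smul, add_zero] at h
  refine ⟨(smul_eq_zero.1 h).resolve_right fun h0 => h1 (ι_inj s ?_), hj⟩
  rw [hu, h0, E.e_zero hζ, map_one]

/-- **A toral plane in `Q`**; the first vector belongs to a central element. -/
theorem exists_plane [Finite S] (P : Pure p S Γ Q) (hC : Conn X p) (hpr : p ≠ r) :
    ∃ (E : Tor X) (a b : S) (u x : Fin l → ZMod p), a ∈ Q ∧ b ∈ Q ∧ (∀ c ∈ Q, c * a = a * c) ∧ s.ι a = E.e ζ u ∧
      s.ι b = E.e ζ x ∧ PurePl C Adm u x := by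
  have hn : Nontrivial Q := by
    by_contra h
    rw [not_nontrivial_iff_subsingleton] at h
    exact P.nc inferInstance
  have := P.pg.center_nontrivial
  obtain ⟨⟨⟨a, ha⟩, hc⟩, h1⟩ := exists_ne (1 : Subgroup.center Q)
  have h2 : a ≠ 1 := fun h => h1 (Subtype.ext (Subtype.ext h))
  have h3 : ∀ c ∈ Q, c * a = a * c := fun c h => congrArg Subtype.val (Subgroup.mem_center_iff.1 hc ⟨c, h⟩)
  obtain ⟨b, hb, h4⟩ : ∃ b ∈ Q, b ∉ Subgroup.zpowers a := by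
    by_contra h
    push Not at h
    refine P.nc ⟨⟨⟨a, ha⟩, fun y => ?_⟩⟩
    obtain ⟨n, hn⟩ := h y y.2
    exact ⟨n, Subtype.ext hn⟩
  obtain ⟨E, h5, h6⟩ := exists_pair hC hpr (F_ι s a) (F_ι s b) (by rw [← map_pow, Pure.pow_eq hζ P ha, map_one])
    (not_dvd_of_pow hpr (n := 1) (by rw [pow_one, ← map_pow, Pure.pow_eq hζ P hb, map_one]))
    (by rw [← map_mul, ← map_mul, h3 b hb])
  obtain ⟨u, -, hu⟩ := exists_vec s hζ P E ha h5
  obtain ⟨x, -, hx⟩ := exists_vec s hζ P E hb h6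
  exact ⟨E, a, b, u, x, ha, hb, h3, hu, hx, plane_of s hζ P E (le_KK ha) (le_KK hb) h2 h4 hu hx⟩

/-- moving a plane to its standard form -/
theorem exists_std (E : Tor X) {K : Subgroup S} {u x u₀ x₀ : Fin l → ZMod p} (hu : u ∈ vs s hζ E K)
    (hx : x ∈ vs s hζ E K) {W : Matrix (Fin l) (Fin l) ℤ} (hW : WM C l W)
    (h : Submodule.span (ZMod p) {mv W u, mv W x} = Submodule.span (ZMod p) {u₀, x₀}) :
    ∃ E' : Tor X, E'.T = E.T ∧ (∀ v : Fin l → ZMod p, E'.e ζ (mv W v) = E.e ζ v) ∧ u₀ ∈ vs s hζ E' K ∧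
      x₀ ∈ vs s hζ E' K := by
  obtain ⟨E', h1, h2⟩ := E.exists_move_e hζ hW
  have h3 : Submodule.span (ZMod p) {u₀, x₀} ≤ vs s hζ E' K := by
    rw [← h, Submodule.span_le]
    rintro _ (rfl | rfl)
    · obtain ⟨a, a1, a2⟩ := hu
      exact ⟨a, a1, a2.trans (h2 _).symm⟩
    · obtain ⟨a, a1, a2⟩ := hx
      exact ⟨a, a1, a2.trans (h2 _).symm⟩
  exact ⟨E', h1, h2, h3 (Submodule.subset_span (Set.mem_insert _ _)),
    h3 (Submodule.subset_span (Set.mem_insert_of_mem _ rfl))⟩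

/-- **closure**, for elements of the torus -/
theorem mem_KK_e (E : Tor X) {B : Set (Fin l → ZMod p)} (hB : B ⊆ vs s hζ E Q) {a : S} (ha : s.ι a ∈ E.T)
    (h : ∀ x, Rt C l x → (∀ v ∈ B, vl x v = 0) → E.χ x (s.ι a) = 1) : a ∈ KK p Q := by
  refine mem_KK s E (Z := E.e ζ '' B) ?_ (E.ppr ?_ ?_) ha fun x hx => ?_
  · rintro _ ⟨v, hv, rfl⟩
    exact hB hv
  · rintro _ ⟨v, -, rfl⟩
    exact E.e_mem ζ v
  · rintro _ ⟨v, -, rfl⟩
    exact ⟨1, by rw [pow_one, E.e_pow hζ]⟩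
  · exact h x ((E.mem_Sz_e hζ).1 hx).1 ((E.mem_Sz_e hζ).1 hx).2

/-- **closure**, for vectors -/
theorem mem_vs_KK (hd : d.Coprime p) (E : Tor X) {B : Set (Fin l → ZMod p)} (hB : B ⊆ vs s hζ E Q)
    {v : Fin l → ZMod p} (hF : mv E.A v = v) (h : ∀ x, Rt C l x → (∀ b ∈ B, vl x b = 0) → vl x v = 0) :
    v ∈ vs s hζ E (KK p Q) := by
  obtain ⟨a, ha⟩ := exists_ι s ((E.fix_iff hζ).2 hF) (E.e_pow hζ v) hd
  refine ⟨a, mem_KK_e s hζ E hB (ha ▸ E.e_mem ζ v) fun x h1 h2 => ?_, ha⟩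
  rw [ha]
  exact (E.χ_e_eq_one hζ).2 (h x h1 h2)

/-- **closure**: the exponent -/
theorem pow_eq_of_closure (P : Pure p S Γ Q) (hd : d.Coprime p) (E : Tor X) {B : Set (Fin l → ZMod p)}
    (hB : B ⊆ vs s hζ E Q) {t : ↥(C.group k)} (ht : t ∈ E.T) (hF : X.F t = t) {n : ℕ} (hn : t ^ p ^ n = 1)
    (h : ∀ x, Rt C l x → (∀ v ∈ B, vl x v = 0) → E.χ x t = 1) : t ^ p = 1 := by
  obtain ⟨a, rfl⟩ := exists_ι s hF hn (hd.pow_right n)
  obtain ⟨j, -, hj⟩ := (Nat.dvd_prime_pow (Fact.out : p.Prime)).1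
    (orderOf_dvd_of_pow_eq_one (show a ^ p ^ n = 1 from ι_inj s (by rw [map_pow, hn, map_one])))
  rw [← map_pow, P.expo a (mem_KK_e s hζ E hB ht h) ⟨j, hj⟩, map_one]

/-- If no root vanishes on `B` then the centraliser of `B` normalises the torus, by elements which fix `B`. -/
theorem cent_of_empty (E : Tor X) {B : Set (Fin l → ZMod p)} (h : ∀ x, Rt C l x → ∃ v ∈ B, vl x v ≠ 0)
    {y : ↥(C.group k)} (hy : ∀ v ∈ B, E.e ζ v * y = y * E.e ζ v) :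
    ∃ w, E.Rp w y ∧ ∀ v ∈ B, mv (wm X w) v = v := by
  have h0 : E.Sz (E.e ζ '' B) = ∅ := Set.eq_empty_of_forall_notMem fun x hx => by
    obtain ⟨h1, h2⟩ := (E.mem_Sz_e hζ).1 hx
    obtain ⟨v, h3, h4⟩ := h x h1
    exact h4 (h2 v h3)
  obtain ⟨c, h1, w, m, h2, h3, rfl⟩ := E.exists_cen_form (Z := E.e ζ '' B) (by
    rintro _ ⟨v, -, rfl⟩
    exact E.e_mem ζ v) (y := y) (by
    rintro _ ⟨v, hv, rfl⟩
    exact hy v hv)
  have h4 : c ∈ E.T := E.cen_eq_T h0 ▸ E.D.S_le_cen _ h1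
  refine ⟨w, by simpa using (E.rp_one_iff.2 h4).mul h2, fun v hv => E.e_inj hζ ?_⟩
  rw [← E.conj_e hζ h2, ← h3 _ ⟨v, hv, rfl⟩, mul_inv_cancel_right]

end

end Cfsg.Agent.TO.X
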