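import Cfsg.Agent.KZ.DatX.Defs

/-!
# S4817, exceptional rows: a verified search for the matrices which permute the roots (helper51)

* `RA C l A` : `A` maps roots to roots (`a ᵥ* A`) and preserves the form `Gm C l`; `RA.Wm`, `RA.word`, `RA.mul`, `RA.neg`;
* `Sys`, `Sys.Ok` : the tables `sG2 sB2 sD4 sF4 sE6 sE7 sE8` (file `StabTab`);
* `stab`, `stabZ` : `A u = u'` modulo `p` for the pairs of a list; `nrm2` : `A` maps the plane spanned by `u`, `x` into itself.
  The conclusion: `A = S.mat l rs` and `leaf rs = true`, `rs` = the indices of the rows of `A`.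
-/

set_option autoImplicit false
set_option linter.unusedSectionVars false

namespace Cfsg.Agent.TO.X.Stab

open Cfsg Cfsg.Lie Matrix
open Cfsg.Agent.ChevalleyStructure.CoxeterGeom Cfsg.Agent.ChevalleyStructure.CoxeterGeomTypes
open Cfsg.Agent.Tits.Roots Cfsg.Agent.Nodes Cfsg.Agent.Nodes.RGDChev Cfsg.Agent.KZ.DatX

/-! ### matrices which permute the roots -/

/-- the roots -/
def IsRt (C : ChevalleyDatum) (l : ℕ) (a : Fin l → ℤ) : Prop := ∃ r < C.nroots, RGDChev.vec C l r = a

/-- half the squared length of a simple root -/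
def dl (C : ChevalleyDatum) (i : ℕ) : ℤ :=
  if C.nroots = 12 then (if i = 1 then 3 else 1) else if C.nroots = 8 then (if i = 1 then 2 else 1)
  else if C.nroots = 48 then (if 2 ≤ i then 2 else 1) else 1

/-- the invariant form on the root lattice -/
def Gm (C : ChevalleyDatum) (l : ℕ) : Matrix (Fin l) (Fin l) ℤ := Matrix.of fun i j => dl C i * cartanOf C l i j

/-- `A` maps roots to roots and preserves the form -/
structure RA (C : ChevalleyDatum) (l : ℕ) (A : Matrix (Fin l) (Fin l) ℤ) : Prop where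
  rt : ∀ a, IsRt C l a → IsRt C l (a ᵥ* A)
  fm : A * Gm C l * Aᵀ = Gm C l

variable {C : ChevalleyDatum} {l : ℕ} {M : CoxeterMatrix (Fin l)} {A B : Matrix (Fin l) (Fin l) ℤ}

theorem Gm_symm (hp : IsType C l M) : (Gm C l)ᵀ = Gm C l := by
  have h : ∀ x ∈ typeList, ∀ i j : Fin x.2.1, dl x.1 j * cartanOf x.1 x.2.1 j i = dl x.1 i * cartanOf x.1 x.2.1 i j := by
    intro x hx
    simp only [typeList, List.mem_cons, List.not_mem_nil, or_false] at hx
    rcases hx with rfl | rfl | rfl | rfl | rfl | rfl | rfl <;> dsimp only <;> decide +kernel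
  ext i j
  exact h _ hp i j

theorem RA.one : RA C l 1 := ⟨fun a h => by rwa [vecMul_one], by rw [one_mul, transpose_one, mul_one]⟩

theorem RA.mul (h : RA C l A) (h' : RA C l B) : RA C l (A * B) :=
  ⟨fun a ha => by rw [← vecMul_vecMul]; exact h'.rt _ (h.rt a ha), by
    rw [transpose_mul, mul_assoc A B, mul_assoc A, ← mul_assoc _ Bᵀ, h'.fm, ← mul_assoc, h.fm]⟩

theorem RA.pow (h : RA C l A) : ∀ n : ℕ, RA C l (A ^ n)
  | 0 => by rw [pow_zero]; exact RA.one
  | n + 1 => by rw [pow_succ]; exact (RA.pow h n).mul h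

theorem IsRt.neg (hp : IsType C l M) {a : Fin l → ℤ} (h : IsRt C l a) : IsRt C l (-a) := by
  obtain ⟨r, hr, rfl⟩ := h
  exact ⟨C.neg r, ChevalleyStructure.NPerm.neg_lt hp.inList hr, vec_neg hp hr⟩

theorem IsRt.sr (hp : IsType C l M) (i : Fin l) : IsRt C l (sr i) :=
  (isRoot_iff hp M.toCoxeterSystem _).1 (isRoot_sr _ _ i)

theorem RA.neg (hp : IsType C l M) (h : RA C l A) : RA C l (-A) :=
  ⟨fun a ha => by rw [vecMul_neg]; exact (h.rt a ha).neg hp, by
    rw [transpose_neg, neg_mul, neg_mul_neg, h.fm]⟩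

theorem sM_eq (i : Fin l) : sM C l i = 1 - vecMulVec (cartanOf C l i) (sr i) := by
  ext a b
  simp only [sM, Matrix.of_apply, Matrix.sub_apply, Matrix.one_apply, vecMulVec_apply, Tits.Roots.sr, Pi.single_apply,
    mul_ite, mul_one, mul_zero]

theorem RA.sM (hp : IsType C l M) (i : Fin l) : RA C l (sM C l i) := by
  refine ⟨fun a ha => ?_, ?_⟩
  · obtain ⟨r, hr, rfl⟩ := ha
    have h1 := rep_vec hp M.toCoxeterSystem i hr
    rw [rep_simple_eq] at h1
    refine ⟨_, ChevalleyStructure.NPerm.reflectRoot_lt hp.inList (lt_rank hp i) hr, h1.symm.trans ?_⟩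
    rw [sM_eq, vecMul_sub, vecMul_one, vecMul_vecMulVec, dotProduct_comm]
    rfl
  · have h1 : Tits.Roots.sr i ᵥ* Gm C l = dl C i • cartanOf C l i := by
      rw [Tits.Roots.sr, single_one_vecMul]
      rfl
    have h2 : Gm C l *ᵥ Tits.Roots.sr i = dl C i • cartanOf C l i := by rw [← h1, ← vecMul_transpose, Gm_symm hp]
    have h3 : cartanOf C l i ⬝ᵥ Tits.Roots.sr i = 2 := by
      rw [Tits.Roots.sr, dotProduct_single, mul_one]
      exact hp.isCartan.diag i
    rw [sM_eq, transpose_sub, transpose_one, transpose_vecMulVec, sub_mul, one_mul, vecMulVec_mul, h1, mul_sub, mul_one,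
      sub_mul, mul_vecMulVec, h2, vecMulVec_mul, vecMul_vecMulVec, smul_dotProduct, h3]
    ext a b
    simp only [Matrix.sub_apply, vecMulVec_apply, Pi.smul_apply, smul_eq_mul]
    ring

theorem RA.word (hp : IsType C l M) : ∀ L : List (Fin l), RA C l (L.map (KZ.DatX.sM C l)).prod
  | [] => RA.one
  | i :: L => by rw [List.map_cons, List.prod_cons]; exact (RA.sM hp i).mul (RA.word hp L)

theorem RA.Wm {hp : IsType C l M} {p : ℕ} [Fact p.Prime] {k : Type} [Field k] [CharP k p] [IsAlgClosed k]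
    {Mx : Matrix (Fin l) (Fin l) ℤ} (X : XF hp p k Mx) (w : X.D.W) : RA C l (X.D.Wm w) := by
  obtain ⟨L, -, h⟩ := X.exists_word w
  exact h ▸ RA.word hp L

theorem RA.row (hp : IsType C l M) (h : RA C l A) (i : Fin l) : IsRt C l (A i) := by
  have h1 := h.rt _ (IsRt.sr hp i)
  rwa [Tits.Roots.sr, single_one_vecMul] at h1

theorem RA.form (h : RA C l A) (i j : Fin l) : A i ᵥ* Gm C l ⬝ᵥ A j = Gm C l i j := by
  rw [← congrFun (congrFun h.fm i) j]
  rfl

/-! ### loops for the kernel -/

/-- evaluate `x` first -/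
noncomputable def frc (x : ℕ) (f : ℕ → Bool) : Bool := Nat.rec (f 0) (fun m _ => f m) (Nat.add x 1)

theorem frc_eq (x : ℕ) (f : ℕ → Bool) : frc x f = f x := rfl

/-- evaluate the list first -/
noncomputable def frcL (L : List ℕ) : (List ℕ → Bool) → Bool :=
  List.rec (fun f => f []) (fun a _ ih f => frc a fun a' => ih fun L' => f (a' :: L')) L

theorem frcL_eq : ∀ (L : List ℕ) (f : List ℕ → Bool), frcL L f = f L
  | [], _ => rfl
  | a :: L, f => (frc_eq a fun a' => frcL L fun L' => f (a' :: L')).trans (frcL_eq L fun L' => f (a :: L'))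

/-- all numbers below `n` -/
noncomputable def allN (n : ℕ) (f : ℕ → Bool) : Bool := Nat.rec true (fun m ih => f m && ih) n

theorem allN_spec {f : ℕ → Bool} : ∀ {n : ℕ}, allN n f = true → ∀ i < n, f i = true
  | 0, _, _, h => absurd h (Nat.not_lt_zero _)
  | n + 1, h, i, hi => by
    have h1 : (f n && allN n f) = true := h
    rw [Bool.and_eq_true] at h1
    rcases Nat.lt_succ_iff_lt_or_eq.1 hi with h2 | rfl
    · exact allN_spec h1.2 i h2
    · exact h1.1

/-- all members of a list, with their positions -/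
noncomputable def allI {α : Type} (f : α → ℕ → Bool) (L : List α) : ℕ → Bool :=
  List.rec (fun _ => true) (fun a _ ih r => f a r && frc (Nat.succ r) ih) L

theorem allI_spec {α : Type} {f : α → ℕ → Bool} (d : α) : ∀ {L : List α} {r : ℕ}, allI f L r = true →
    ∀ j < L.length, f (L.getD j d) (r + j) = true
  | [], _, _, _, h => absurd h (Nat.not_lt_zero _)
  | a :: L, r, h, j, hj => by
    have h1 : (f a r && frc (r + 1) (allI f L)) = true := h
    rw [Bool.and_eq_true, frc_eq] at h1
    cases j with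
    | zero => exact h1.1
    | succ j =>
      have h2 := allI_spec d h1.2 j (Nat.lt_of_succ_lt_succ hj)
      rwa [Nat.add_right_comm] at h2

/-- the first argument only changes the hash of the term -/
def slt {α : Type} (_ : α) (x : ℕ) : ℕ := x

/-- the exponent of a power of two below `2 ^ 256` -/
def lg (z : ℕ) : ℕ := Nat.land 255 (Nat.shiftRight
  0x8687f3884af49989544b60f5089ab78aef55594c00612af60e09c19b35b87d8bcdf05d56be5a754d42007862182ba6f7ac0f500a3ec2249cc63645b9927e678cd8ce00f1975eb55728bf7b5b7376a44e22436500b379a263a0191b2ceaa71df800ad2e108351ec0bca3fa9c3d5251f9dfdc7fa37e24600ba3a93af7fde68308de5d912cf6c0085f24998535f07b6ee5800290dc0347ccc5cbd74417717a5ab4f3d23c5449166d70096b4277a72a32164b2a19f1ae91cff2d82ebc9a8d41efcf9e10039aedd2fe4116b84485206ed000c33cbbc4016aa3cc490d695267120b19ee8fe81c8d3fbe038dce36a47050032bb153b8f9470b0e780d2dfdb690431148e6fe6d1da03136ed0026d010000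
  (Nat.mul 8 (Nat.mod z 269)))

/-- all bits of a number -/
noncomputable def loop (f : ℕ → Bool) (N : ℕ) : ℕ → Bool :=
  Nat.rec (fun x => Nat.beq x 0)
    (fun _ ih x0 => frc x0 fun x => Nat.rec true
      (fun _ _ => frc (lg (slt ih (Nat.gcd x 0x10000000000000000000000000000000000000000000000000000000000000000))) fun b =>
        f b && ih (slt ih (Nat.xor x (Nat.shiftLeft 1 b)))) x) N

theorem loop_spec {f : ℕ → Bool} : ∀ {N x : ℕ}, loop f N x = true → ∀ s, x.testBit s = true → f s = true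
  | 0, x, h, s, hs => by
    rw [Nat.eq_of_beq_eq_true (show Nat.beq x 0 = true from h), Nat.zero_testBit] at hs
    exact absurd hs Bool.false_ne_true
  | N + 1, 0, _, s, hs => by
    rw [Nat.zero_testBit] at hs
    exact absurd hs Bool.false_ne_true
  | N + 1, m + 1, h, s, hs => by
    obtain ⟨b, h1⟩ : ∃ b, (f b && loop f N ((m + 1) ^^^ (1 <<< b))) = true := ⟨_, h⟩
    rw [Bool.and_eq_true] at h1
    by_cases e : b = s
    · exact e ▸ h1.1
    · refine loop_spec h1.2 s ?_
      rw [Nat.testBit_xor, hs, Nat.one_shiftLeft, Nat.testBit_two_pow_of_ne e]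
      rfl

/-- a list as a vector -/
def tv (l : ℕ) (a : List ℤ) : Fin l → ℤ := fun i => a.getD i 0

/-- a list as a vector modulo `p` -/
def tz (p l : ℕ) (a : List ℤ) : Fin l → ZMod p := fun i => (a.getD i 0 : ℤ)

/-- the scalar product of lists -/
noncomputable def dot (a : List ℤ) : List ℤ → ℤ :=
  List.rec (fun _ => 0) (fun x _ ih b => List.rec 0 (fun y t _ => Int.add (Int.mul x y) (ih t)) b) a

theorem dot_eq : ∀ (l : ℕ) (a b : List ℤ), a.length = l → dot a b = tv l a ⬝ᵥ tv l b
  | 0, [], _, _ => by simp [dot, dotProduct]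
  | l + 1, x :: a, [], _ => by simp [dot, dotProduct, tv]
  | l + 1, x :: a, y :: b, h => by
    have h1 : dot (x :: a) (y :: b) = x * y + dot a b := rfl
    rw [h1, dot_eq l a b (Nat.succ.inj h), dotProduct, dotProduct, Fin.sum_univ_succ]
    rfl

/-! ### the tables -/

/-- the tables of a type -/
structure Sys where
  n : ℕ
  k : ℕ
  G : List (List ℤ)
  css : List (List ℕ)
  NM : List ℕ
  RL : List (List ℤ)
  GR : List (List ℤ)
  TT : ℕ

namespace Sys

variable (S : Sys)

/-- the tables are correct -/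
structure Ok (C : ChevalleyDatum) (l : ℕ) : Prop where
  hn : S.n = C.nroots
  len : S.RL.length = S.n
  rl : ∀ r < S.n, (S.RL.getD r []).length = l ∧ tv l (S.RL.getD r []) = RGDChev.vec C l r
  tt : ∀ r < S.n, ∀ s < S.n, ∀ c < S.k, RGDChev.vec C l r ᵥ* Gm C l ⬝ᵥ RGDChev.vec C l s = -(c : ℤ) →
    S.TT.testBit (S.n * (S.k * r + c) + s) = true
  nm : ∀ i : Fin l, ∀ r < S.n, RGDChev.vec C l r ᵥ* Gm C l ⬝ᵥ RGDChev.vec C l r = Gm C l i i →
    (S.NM.getD i 0).testBit r = true
  css : ∀ i : Fin l, ∀ x ∈ (S.css.getD i []).zip (List.range i).reverse, x.1 < S.k ∧ ∃ j : Fin l, j.1 = x.2 ∧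
    Gm C l j i = -(x.1 : ℤ)

/-- the check of the large table, rows `GR` with the first index `r0` -/
noncomputable def chkT (GR : List (List ℤ)) (r0 : ℕ) : Bool :=
  allI (fun g r => allI (fun b s => Int.rec
    (fun m => Nat.rec (S.TT.testBit (Nat.add (Nat.mul S.n (Nat.mul S.k r)) s)) (fun _ _ => true) m)
    (fun m => Nat.ble S.k (Nat.succ m) || S.TT.testBit (Nat.add (Nat.mul S.n (Nat.add (Nat.mul S.k r) (Nat.succ m))) s))
    (dot g b)) S.RL 0) GR r0

/-- the small checks -/
def Sm (C : ChevalleyDatum) (l : ℕ) : Prop :=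
  S.n = C.nroots ∧ S.RL.length = S.n ∧ S.GR = S.RL.map (fun a => S.G.map (dot a)) ∧ S.G.length = l ∧
  (∀ i j : Fin l, (S.G.getD j []).getD i 0 = Gm C l i j) ∧
  allI (fun a r => decide (a.length = l ∧ ∀ i : Fin l, a.getD i 0 = RGDChev.vec C l r i)) S.RL 0 = true ∧
  (∀ i : Fin l, allI (fun a r => decide (dot (S.G.map (dot a)) a = Gm C l i i → (S.NM.getD i 0).testBit r = true))
    S.RL 0 = true) ∧
  ∀ i : Fin l, ∀ x ∈ (S.css.getD i []).zip (List.range i).reverse, x.1 < S.k ∧ ∃ j : Fin l, j.1 = x.2 ∧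
    Gm C l j i = -(x.1 : ℤ)

variable {S}

theorem ok_of (h : S.Sm C l) (ht : S.chkT S.GR 0 = true) : S.Ok C l := by
  obtain ⟨h1, h2, h3, h4, h5, h6, h7, h8⟩ := h
  have rl : ∀ r < S.n, (S.RL.getD r []).length = l ∧ tv l (S.RL.getD r []) = RGDChev.vec C l r := fun r hr => by
    have h9 := allI_spec [] h6 r (h2 ▸ hr)
    rw [zero_add, decide_eq_true_iff] at h9
    exact ⟨h9.1, funext h9.2⟩
  have gl : ∀ r < S.n, ∀ b, dot (S.G.map (dot (S.RL.getD r []))) b = RGDChev.vec C l r ᵥ* Gm C l ⬝ᵥ tv l b :=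
    fun r hr b => by
      rw [dot_eq l _ _ (by rw [List.length_map, h4])]
      congr 1
      funext j
      have hj : j.1 < S.G.length := h4 ▸ j.2
      rw [tv, List.getD_eq_getElem _ _ (by rwa [List.length_map]), List.getElem_map, dot_eq l _ _ (rl r hr).1,
        (rl r hr).2, ← List.getD_eq_getElem _ [] hj]
      exact congrArg _ (funext fun i => h5 i j)
  refine ⟨h1, h2, rl, fun r hr s hs c hc e => ?_, fun i r hr e => ?_, h8⟩
  · have h9 := allI_spec [] (allI_spec [] ht r (by rw [h3, List.length_map, h2]; exact hr)) s (h2 ▸ hs)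
    have h10 : S.GR.getD r [] = S.G.map (dot (S.RL.getD r [])) := by
      have h11 : r < S.RL.length := h2 ▸ hr
      rw [h3, List.getD_eq_getElem _ _ (by rwa [List.length_map]), List.getElem_map, ← List.getD_eq_getElem _ [] h11]
    rw [h10, gl r hr, (rl s hs).2, e, zero_add, zero_add] at h9
    cases c with
    | zero => exact h9
    | succ c =>
      have h11 : (Nat.ble S.k (c + 1) || S.TT.testBit (S.n * (S.k * r + (c + 1)) + s)) = true := h9
      rw [Bool.or_eq_true, Nat.ble_eq] at h11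
      exact h11.resolve_left (by omega)
  · have h9 := allI_spec [] (h7 i) r (h2 ▸ hr)
    rw [zero_add, decide_eq_true_iff, gl r hr, (rl r hr).2] at h9
    exact h9 e

variable (S)

/-- the matrix with the rows `rs` -/
def mat (l : ℕ) (rs : List ℕ) : Matrix (Fin l) (Fin l) ℤ := Matrix.of fun i => tv l (S.RL.getD (rs.getD i 0) [])

/-- the candidates which have the right products with the rows already chosen -/
noncomputable def inter (cs : List ℕ) : List ℕ → ℕ → ℕ :=
  List.rec (fun _ x => x) (fun c _ ih rs x => List.rec x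
    (fun r t _ => Nat.land (ih t x) (Nat.shiftRight S.TT (Nat.mul S.n (Nat.add (Nat.mul S.k r) c)))) rs) cs

/-- the search -/
noncomputable def srch (leaf : List ℕ → Bool) (xs : List ℕ) : List (List ℕ) → List ℕ → Bool :=
  List.rec (fun _ rs => frcL rs.reverse leaf) (fun x _ ih css rs => List.rec false
    (fun cs t _ => loop (fun r => ih t (r :: rs)) S.n (S.inter cs rs x)) css) xs

variable {S}

theorem inter_spec {s x : ℕ} (hx : x.testBit s = true) : ∀ (cs rs : List ℕ),
    (∀ y ∈ cs.zip rs, S.TT.testBit (S.n * (S.k * y.2 + y.1) + s) = true) → (S.inter cs rs x).testBit s = true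
  | [], _, _ => hx
  | _ :: _, [], _ => hx
  | c :: cs, r :: rs, h => by
    have h1 : S.inter (c :: cs) (r :: rs) x = S.inter cs rs x &&& S.TT >>> (S.n * (S.k * r + c)) := rfl
    rw [h1, Nat.testBit_and, inter_spec hx cs rs fun y hy => h y (List.mem_cons_of_mem _ hy), Nat.testBit_shiftRight,
      h (c, r) List.mem_cons_self]
    rfl

theorem srch_spec {leaf : List ℕ → Bool} (ρ : ℕ → ℕ) : ∀ (xs : List ℕ) (css : List (List ℕ)) (i : ℕ),
    (∀ j < xs.length, (xs.getD j 0).testBit (ρ (i + j)) = true ∧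
      ∀ y ∈ (css.getD j []).zip ((List.range (i + j)).reverse.map ρ),
        S.TT.testBit (S.n * (S.k * y.2 + y.1) + ρ (i + j)) = true) →
    S.srch leaf xs css ((List.range i).reverse.map ρ) = true → leaf ((List.range (i + xs.length)).map ρ) = true
  | [], _, i, _, h => by
    have h1 : frcL ((List.range i).reverse.map ρ).reverse leaf = true := h
    rwa [frcL_eq, ← List.map_reverse, List.reverse_reverse] at h1
  | _ :: _, [], _, _, h => absurd h Bool.false_ne_true
  | x :: xs, cs :: css, i, h0, h => by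
    have h1 : loop (fun r => S.srch leaf xs css (r :: (List.range i).reverse.map ρ)) S.n
      (S.inter cs ((List.range i).reverse.map ρ) x) = true := h
    obtain ⟨h2, h3⟩ := h0 0 (Nat.succ_pos _)
    have h4 := loop_spec h1 (ρ i) (inter_spec h2 _ _ h3)
    have h5 : ρ i :: (List.range i).reverse.map ρ = (List.range (i + 1)).reverse.map ρ := by
      rw [List.range_succ, List.reverse_append]
      rfl
    rw [h5] at h4
    have h6 := srch_spec ρ xs css (i + 1) (fun j hj => by
      have h7 := h0 (j + 1) (Nat.succ_lt_succ hj)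
      rwa [← Nat.add_assoc, Nat.add_right_comm] at h7) h4
    rwa [Nat.add_right_comm] at h6

/-- **the search with arbitrary candidate sets** `x i` (bit sets of root indices) -/
theorem core (hS : S.Ok C l) (hp : IsType C l M) (hA : RA C l A) (x : ℕ → ℕ)
    (hx : ∀ i : Fin l, ∀ r < S.n, RGDChev.vec C l r = A i → (S.NM.getD i 0).testBit r = true → (x i).testBit r = true)
    {leaf : List ℕ → Bool} (h : frcL ((List.range l).map x) (fun xs => S.srch leaf xs S.css []) = true) :
    ∃ rs, A = S.mat l rs ∧ leaf rs = true := by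
  choose f h1 h2 using fun i => hA.row hp i
  let ρ : ℕ → ℕ := fun i => if h : i < l then f ⟨i, h⟩ else 0
  have h3 : ∀ i : Fin l, ρ i = f i := fun i => dif_pos i.2
  have h4 : ∀ i, f i < S.n := fun i => hS.hn ▸ h1 i
  rw [frcL_eq] at h
  have h5 := srch_spec ρ _ S.css 0 (fun j hj => ?_) h
  · rw [List.length_map, List.length_range, zero_add] at h5
    refine ⟨_, ?_, h5⟩
    ext i : 1
    have h6 : ((List.range l).map ρ).getD i 0 = f i := by
      rw [List.getD_eq_getElem _ _ (by simp), List.getElem_map, List.getElem_range, h3]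
    rw [← h2 i, ← (hS.rl _ (h4 i)).2, ← h6]
    rfl
  · rw [List.length_map, List.length_range] at hj
    rw [zero_add, List.getD_eq_getElem _ _ (by simpa using hj), List.getElem_map, List.getElem_range,
      show ρ j = f ⟨j, hj⟩ from h3 ⟨j, hj⟩]
    refine ⟨hx ⟨j, hj⟩ _ (h4 _) (h2 _) (hS.nm ⟨j, hj⟩ _ (h4 _) (by rw [h2, hA.form])), fun y hy => ?_⟩
    rw [List.zip_map_right, List.mem_map] at hy
    obtain ⟨z, hz, rfl⟩ := hy
    obtain ⟨h6, j', h7, h8⟩ := hS.css ⟨j, hj⟩ z hz
    show S.TT.testBit (S.n * (S.k * ρ z.2 + z.1) + _) = true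
    rw [← h7, h3]
    exact hS.tt _ (h4 _) _ (h4 _) _ h6 (by rw [h2, h2, hA.form, h8])

/-! ### colourings -/

variable (S)

/-- the table of the colour classes of `u` modulo `p` -/
noncomputable def tbA (p : ℕ) (u : List ℤ) (L : List (List ℤ)) : ℕ → ℕ :=
  List.rec (fun _ => 0) (fun a _ ih r =>
    Nat.lor (Nat.shiftLeft 1 (Nat.add (Nat.mul S.n (Int.emod (dot a u) (Int.ofNat p)).toNat) r)) (ih (Nat.succ r))) L

/-- the table of the colour classes of `u` modulo `p` -/
noncomputable def tb (p : ℕ) (u : List ℤ) : ℕ := S.tbA p u S.RL 0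

/-- the candidates for the row `i` -/
noncomputable def cand (p : ℕ) (ts : List (ℕ × List ℤ)) (i : ℕ) : ℕ :=
  List.rec (S.NM.getD i 0) (fun e _ ih =>
    Nat.land ih (Nat.shiftRight e.1 (Nat.mul S.n (Int.emod (e.2.getD i 0) (Int.ofNat p)).toNat))) ts

/-- the search, given the tables -/
noncomputable def go (l p : ℕ) (ts : List (ℕ × List ℤ)) (leaf : List ℕ → Bool) : Bool :=
  frcL ((List.range l).map (S.cand p ts)) fun xs => S.srch leaf xs S.css []

/-- the search for the matrices with `A u = u'` modulo `p` for all pairs of the list -/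
noncomputable def run (l p : ℕ) (us : List (List ℤ × List ℤ)) (leaf : List ℕ → Bool) : Bool :=
  frcL (us.map fun e => S.tb p e.1) fun tl => S.go l p (tl.zip (us.map Prod.snd)) leaf

/-- a linear combination -/
def lin (l a b : ℕ) (u x : List ℤ) : List ℤ := (List.range l).map fun i => (a : ℤ) * u.getD i 0 + (b : ℤ) * x.getD i 0

/-- the search for the matrices with `A u = a u + b x`, `A x = c u + d x` modulo `p`; only the quadruples with `pre` -/
noncomputable def run2 (l p : ℕ) (u x : List ℤ) (pre : ℕ → ℕ → ℕ → ℕ → Bool)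
    (leaf : ℕ → ℕ → ℕ → ℕ → List ℕ → Bool) : Bool :=
  frc (S.tb p u) fun t1 => frc (S.tb p x) fun t2 => allN p fun a => allN p fun b => allN p fun c => allN p fun d =>
    Bool.rec true (S.go l p [(t1, lin l a b u x), (t2, lin l c d u x)] (leaf a b c d)) (pre a b c d)

variable {S}

theorem tbA_spec (p : ℕ) (u : List ℤ) : ∀ (L : List (List ℤ)) (r j : ℕ), j < L.length →
    (S.tbA p u L r).testBit (S.n * (dot (L.getD j []) u % p).toNat + (r + j)) = true
  | [], _, _, h => absurd h (Nat.not_lt_zero _)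
  | a :: L, r, j, h => by
    have h1 : S.tbA p u (a :: L) r = 1 <<< (S.n * (dot a u % p).toNat + r) ||| S.tbA p u L (r + 1) := rfl
    rw [h1, Nat.testBit_or, Bool.or_eq_true]
    cases j with
    | zero =>
      left
      rw [Nat.one_shiftLeft]
      exact Nat.testBit_two_pow_self
    | succ j =>
      right
      have h2 := tbA_spec p u L (r + 1) j (Nat.lt_of_succ_lt_succ h)
      rwa [Nat.add_right_comm r] at h2

theorem go_spec (hS : S.Ok C l) (hp : IsType C l M) (hA : RA C l A) {p : ℕ} {ts : List (ℕ × List ℤ)}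
    (ht : ∀ e ∈ ts, ∃ u, e.1 = S.tb p u ∧ ∀ i, (A *ᵥ tv l u) i ≡ tv l e.2 i [ZMOD p]) {leaf : List ℕ → Bool}
    (h : S.go l p ts leaf = true) : ∃ rs, A = S.mat l rs ∧ leaf rs = true := by
  refine core hS hp hA _ (fun i r hr e h0 => ?_) h
  clear h
  induction ts with
  | nil => exact h0
  | cons t ts ih =>
    have h1 : S.cand p (t :: ts) i = S.cand p ts i &&& t.1 >>> (S.n * (t.2.getD i 0 % p).toNat) := rfl
    obtain ⟨u, h2, h3⟩ := ht t List.mem_cons_self
    have h4 := tbA_spec (S := S) p u S.RL 0 r (hS.len ▸ hr)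
    have h5 : A i ⬝ᵥ tv l u % p = t.2.getD i 0 % p := h3 i
    rw [dot_eq l _ _ (hS.rl r hr).1, (hS.rl r hr).2, e, h5, zero_add] at h4
    rw [h1, Nat.testBit_and, ih fun e he => ht e (List.mem_cons_of_mem _ he), Nat.testBit_shiftRight, h2]
    exact h4

end Sys

open Sys

variable {S : Sys}

theorem modEq_of_tz {p : ℕ} {u v : List ℤ} (h : A.map (Int.cast : ℤ → ZMod p) *ᵥ tz p l u = tz p l v) (i : Fin l) :
    (A *ᵥ tv l u) i ≡ tv l v i [ZMOD p] := by
  rw [← ZMod.intCast_eq_intCast_iff]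
  refine Eq.trans ?_ (congrFun h i)
  simp only [mulVec, dotProduct, Int.cast_sum, Int.cast_mul, Matrix.map_apply]
  rfl

/-- **matrices with prescribed images modulo `p`** -/
theorem stab (hS : S.Ok C l) (hp : IsType C l M) (hA : RA C l A) (p : ℕ) (us : List (List ℤ × List ℤ))
    (h : ∀ e ∈ us, ∀ i, (A *ᵥ tv l e.1) i ≡ tv l e.2 i [ZMOD p]) {leaf : List ℕ → Bool}
    (hs : S.run l p us leaf = true) : ∃ rs, A = S.mat l rs ∧ leaf rs = true := by
  rw [Sys.run, frcL_eq, List.zip_map'] at hs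
  refine go_spec hS hp hA (fun e he => ?_) hs
  obtain ⟨x, hx, rfl⟩ := List.mem_map.1 he
  exact ⟨x.1, rfl, h x hx⟩

/-- the same over `ZMod p` -/
theorem stabZ (hS : S.Ok C l) (hp : IsType C l M) (hA : RA C l A) (p : ℕ) (us : List (List ℤ × List ℤ))
    (h : ∀ e ∈ us, A.map (Int.cast : ℤ → ZMod p) *ᵥ tz p l e.1 = tz p l e.2) {leaf : List ℕ → Bool}
    (hs : S.run l p us leaf = true) : ∃ rs, A = S.mat l rs ∧ leaf rs = true :=
  stab hS hp hA p us (fun e he => modEq_of_tz (h e he)) hs

theorem tz_lin {p : ℕ} [NeZero p] (a b : ZMod p) (u x : List ℤ) :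
    tz p l (lin l a.val b.val u x) = a • tz p l u + b • tz p l x := by
  funext i
  rw [tz, lin, List.getD_eq_getElem _ _ (by simp), List.getElem_map, List.getElem_range]
  simp [tz]

/-- **matrices which map a plane into itself** -/
theorem nrm2 (hS : S.Ok C l) (hp : IsType C l M) (hA : RA C l A) {p : ℕ} [NeZero p] (u x : List ℤ) {a b c d : ZMod p}
    (h1 : A.map (Int.cast : ℤ → ZMod p) *ᵥ tz p l u = a • tz p l u + b • tz p l x)
    (h2 : A.map (Int.cast : ℤ → ZMod p) *ᵥ tz p l x = c • tz p l u + d • tz p l x)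
    {pre : ℕ → ℕ → ℕ → ℕ → Bool} (h0 : pre a.val b.val c.val d.val = true) {leaf : ℕ → ℕ → ℕ → ℕ → List ℕ → Bool}
    (hs : S.run2 l p u x pre leaf = true) : ∃ rs, A = S.mat l rs ∧ leaf a.val b.val c.val d.val rs = true := by
  rw [Sys.run2, frc_eq, frc_eq] at hs
  have h3 := allN_spec (allN_spec (allN_spec (allN_spec hs _ a.val_lt) _ b.val_lt) _ c.val_lt) _ d.val_lt
  rw [h0] at h3
  refine go_spec hS hp hA (fun e he => ?_) h3
  rw [← tz_lin] at h1 h2
  simp only [List.mem_cons, List.not_mem_nil, or_false] at he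
  rcases he with rfl | rfl
  exacts [⟨u, rfl, modEq_of_tz h1⟩, ⟨x, rfl, modEq_of_tz h2⟩]

end Cfsg.Agent.TO.X.Stab
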