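import Cfsg.Agent.TO.X.Stab

/-!
# The tables for the search `TO.X.Stab` (generated by notes/TO/stab/gen.py)
-/

set_option autoImplicit false
set_option maxRecDepth 100000
set_option Elab.async false
set_option backward.isDefEq.respectTransparency false

namespace Cfsg.Agent.TO.X.Stab

open Cfsg Cfsg.Lie

/-- the tables of type G2 -/
def sG2 : Sys where
  n := 12
  k := 4
  G := [[.ofNat 2, .negSucc 2], [.negSucc 2, .ofNat 6]]
  css := [[], [3]]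
  NM := [0x39c, 0xc63]
  RL := [[.negSucc 2, .negSucc 1], [.negSucc 2, .negSucc 0], [.negSucc 1, .negSucc 0], [.negSucc 0, .negSucc 0], [.negSucc 0, .ofNat 0], [.ofNat 0, .negSucc 0], [.ofNat 0, .ofNat 1], [.ofNat 1, .ofNat 0], [.ofNat 1, .ofNat 1], [.ofNat 2, .ofNat 1], [.ofNat 3, .ofNat 1], [.ofNat 3, .ofNat 2]]
  GR := [[.ofNat 0, .negSucc 2], [.negSucc 2, .ofNat 3], [.negSucc 0, .ofNat 0], [.ofNat 1, .negSucc 2], [.negSucc 1, .ofNat 3], [.ofNat 3, .negSucc 5], [.negSucc 2, .ofNat 6], [.ofNat 2, .negSucc 2], [.negSucc 0, .ofNat 3], [.ofNat 1, .ofNat 0], [.ofNat 3, .negSucc 2], [.ofNat 0, .ofNat 3]]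
  TT := 0x2e000000090055000000108003004018060021008084402042010104801489000000204912000000204420080208801840100210402c00200180060aa0000000108740000000090

/-- the tables of type B2 -/
def sB2 : Sys where
  n := 8
  k := 3
  G := [[.ofNat 2, .negSucc 1], [.negSucc 1, .ofNat 4]]
  css := [[], [2]]
  NM := [0x66, 0x99]
  RL := [[.negSucc 1, .negSucc 0], [.negSucc 0, .negSucc 0], [.negSucc 0, .ofNat 0], [.ofNat 0, .negSucc 0], [.ofNat 0, .ofNat 1], [.ofNat 1, .ofNat 0], [.ofNat 1, .ofNat 1], [.ofNat 2, .ofNat 1]]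
  GR := [[.negSucc 1, .ofNat 0], [.ofNat 0, .negSucc 1], [.negSucc 1, .ofNat 2], [.ofNat 2, .negSucc 3], [.negSucc 1, .ofNat 4], [.ofNat 2, .negSucc 1], [.ofNat 0, .ofNat 2], [.ofNat 2, .ofNat 0]]
  TT := 0x600180b0024150042220081440081a80042d00024600018

/-- the tables of type D4 -/
def sD4 : Sys where
  n := 24
  k := 2
  G := [[.ofNat 2, .negSucc 0, .ofNat 0, .ofNat 0], [.negSucc 0, .ofNat 2, .negSucc 0, .negSucc 0], [.ofNat 0, .negSucc 0, .ofNat 2, .ofNat 0], [.ofNat 0, .negSucc 0, .ofNat 0, .ofNat 2]]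
  css := [[], [1], [1, 0], [0, 1, 0]]
  NM := [0xffffff, 0xffffff, 0xffffff, 0xffffff]
  RL := [[.negSucc 0, .negSucc 1, .negSucc 0, .negSucc 0], [.negSucc 0, .negSucc 0, .negSucc 0, .negSucc 0], [.negSucc 0, .negSucc 0, .negSucc 0, .ofNat 0], [.negSucc 0, .negSucc 0, .ofNat 0, .negSucc 0], [.negSucc 0, .negSucc 0, .ofNat 0, .ofNat 0], [.negSucc 0, .ofNat 0, .ofNat 0, .ofNat 0], [.ofNat 0, .negSucc 0, .negSucc 0, .negSucc 0], [.ofNat 0, .negSucc 0, .negSucc 0, .ofNat 0], [.ofNat 0, .negSucc 0, .ofNat 0, .negSucc 0], [.ofNat 0, .negSucc 0, .ofNat 0, .ofNat 0], [.ofNat 0, .ofNat 0, .negSucc 0, .ofNat 0], [.ofNat 0, .ofNat 0, .ofNat 0, .negSucc 0], [.ofNat 0, .ofNat 0, .ofNat 0, .ofNat 1], [.ofNat 0, .ofNat 0, .ofNat 1, .ofNat 0], [.ofNat 0, .ofNat 1, .ofNat 0, .ofNat 0], [.ofNat 0, .ofNat 1, .ofNat 0, .ofNat 1], [.ofNat 0, .ofNat 1, .ofNat 1, .ofNat 0], [.ofNat 0, .ofNat 1, .ofNat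 1, .ofNat 1], [.ofNat 1, .ofNat 0, .ofNat 0, .ofNat 0], [.ofNat 1, .ofNat 1, .ofNat 0, .ofNat 0], [.ofNat 1, .ofNat 1, .ofNat 0, .ofNat 1], [.ofNat 1, .ofNat 1, .ofNat 1, .ofNat 0], [.ofNat 1, .ofNat 1, .ofNat 1, .ofNat 1], [.ofNat 1, .ofNat 2, .ofNat 1, .ofNat 1]]
  GR := [[.ofNat 0, .negSucc 0, .ofNat 0, .ofNat 0], [.negSucc 0, .ofNat 1, .negSucc 0, .negSucc 0], [.negSucc 0, .ofNat 0, .negSucc 0, .ofNat 1], [.negSucc 0, .ofNat 0, .ofNat 1, .negSucc 0], [.negSucc 0, .negSucc 0, .ofNat 1, .ofNat 1], [.negSucc 1, .ofNat 1, .ofNat 0, .ofNat 0], [.ofNat 1, .ofNat 0, .negSucc 0, .negSucc 0], [.ofNat 1, .negSucc 0, .negSucc 0, .ofNat 1], [.ofNat 1, .negSucc 0, .ofNat 1, .negSucc 0], [.ofNat 1, .negSucc 1, .ofNat 1, .ofNat 1], [.ofNat 0, .ofNat 1, .negSucc 1, .ofNat 0], [.ofNat 0, .ofNat 1, .ofNat 0, .negSucc 1], [.ofNat 0, .negSucc 0, .ofNat 0, .ofNat 2], [.ofNat 0, .negSucc 0,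 .ofNat 2, .ofNat 0], [.negSucc 0, .ofNat 2, .negSucc 0, .negSucc 0], [.negSucc 0, .ofNat 1, .negSucc 0, .ofNat 1], [.negSucc 0, .ofNat 1, .ofNat 1, .negSucc 0], [.negSucc 0, .ofNat 0, .ofNat 1, .ofNat 1], [.ofNat 2, .negSucc 0, .ofNat 0, .ofNat 0], [.ofNat 1, .ofNat 1, .negSucc 0, .negSucc 0], [.ofNat 1, .ofNat 0, .negSucc 0, .ofNat 1], [.ofNat 1, .ofNat 0, .ofNat 1, .negSucc 0], [.ofNat 1, .negSucc 0, .ofNat 1, .ofNat 1], [.ofNat 0, .ofNat 1, .ofNat 0, .ofNat 0]]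
  TT := 0x3de043c20004c6d0981900094b312424801293322424402322d41818203c01e803c010c0d8330420c141645488112242a4949009244319132004c18c0c684182129414a842421528294842421630318841821898c2232004c925424490092a26828488112c1b03030420c7803c0803c01b44c40418182cc9480224244cd2900124248b632000981907bc000043c20

/-- the tables of type F4 -/
def sF4 : Sys where
  n := 48
  k := 3
  G := [[.ofNat 2, .negSucc 0, .ofNat 0, .ofNat 0], [.negSucc 0, .ofNat 2, .negSucc 1, .ofNat 0], [.ofNat 0, .negSucc 1, .ofNat 4, .negSucc 1], [.ofNat 0, .ofNat 0, .negSucc 1, .ofNat 4]]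
  css := [[], [1], [2, 0], [2, 0, 0]]
  NM := [0x11fe381c7f88, 0x11fe381c7f88, 0xee01c7e38077, 0xee01c7e38077]
  RL := [[.negSucc 1, .negSucc 3, .negSucc 2, .negSucc 1], [.negSucc 1, .negSucc 3, .negSucc 2, .negSucc 0], [.negSucc 1, .negSucc 3, .negSucc 1, .negSucc 0], [.negSucc 1, .negSucc 2, .negSucc 1, .negSucc 0], [.negSucc 1, .negSucc 1, .negSucc 1, .negSucc 0], [.negSucc 1, .negSucc 1, .negSucc 0, .negSucc 0], [.negSucc 1, .negSucc 1, .negSucc 0, .ofNat 0], [.negSucc 0, .negSucc 2, .negSucc 1, .negSucc 0], [.negSucc 0, .negSucc 1, .negSucc 1, .negSucc 0], [.negSucc 0, .negSucc 1, .negSucc 0, .negSucc 0], [.negSucc 0, .negSucc 1, .negSucc 0, .ofNat 0], [.negSucc 0, .negSucc 0, .negSucc 0, .negSucc 0], [.negSucc 0, .negSucc 0, .negSucc 0, .ofNat 0], [.negSucc 0, .negSucc 0, .ofNat 0, .ofNat 0], [.negSucc 0, .ofNat 0, .ofNat 0, .ofNat 0], [.ofNat 0, .negSucc 1, .negSucc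 1, .negSucc 0], [.ofNat 0, .negSucc 1, .negSucc 0, .negSucc 0], [.ofNat 0, .negSucc 1, .negSucc 0, .ofNat 0], [.ofNat 0, .negSucc 0, .negSucc 0, .negSucc 0], [.ofNat 0, .negSucc 0, .negSucc 0, .ofNat 0], [.ofNat 0, .negSucc 0, .ofNat 0, .ofNat 0], [.ofNat 0, .ofNat 0, .negSucc 0, .negSucc 0], [.ofNat 0, .ofNat 0, .negSucc 0, .ofNat 0], [.ofNat 0, .ofNat 0, .ofNat 0, .negSucc 0], [.ofNat 0, .ofNat 0, .ofNat 0, .ofNat 1], [.ofNat 0, .ofNat 0, .ofNat 1, .ofNat 0], [.ofNat 0, .ofNat 0, .ofNat 1, .ofNat 1], [.ofNat 0, .ofNat 1, .ofNat 0, .ofNat 0], [.ofNat 0, .ofNat 1, .ofNat 1, .ofNat 0], [.ofNat 0, .ofNat 1, .ofNat 1, .ofNat 1], [.ofNat 0, .ofNat 2, .ofNat 1, .ofNat 0], [.ofNat 0, .ofNat 2, .ofNat 1, .ofNat 1], [.ofNat 0, .ofNat 2, .ofNat 2, .ofNat 1], [.ofNat 1, .ofNat 0, .ofNat 0, .ofNat 0], [.ofNat 1, .ofNat 1, .ofNat 0, .ofNat 0], [.ofNat 1, .ofNat 1, .ofNat 1, .ofNat 0],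 [.ofNat 1, .ofNat 1, .ofNat 1, .ofNat 1], [.ofNat 1, .ofNat 2, .ofNat 1, .ofNat 0], [.ofNat 1, .ofNat 2, .ofNat 1, .ofNat 1], [.ofNat 1, .ofNat 2, .ofNat 2, .ofNat 1], [.ofNat 1, .ofNat 3, .ofNat 2, .ofNat 1], [.ofNat 2, .ofNat 2, .ofNat 1, .ofNat 0], [.ofNat 2, .ofNat 2, .ofNat 1, .ofNat 1], [.ofNat 2, .ofNat 2, .ofNat 2, .ofNat 1], [.ofNat 2, .ofNat 3, .ofNat 2, .ofNat 1], [.ofNat 2, .ofNat 4, .ofNat 2, .ofNat 1], [.ofNat 2, .ofNat 4, .ofNat 3, .ofNat 1], [.ofNat 2, .ofNat 4, .ofNat 3, .ofNat 2]]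
  GR := [[.ofNat 0, .ofNat 0, .ofNat 0, .negSucc 1], [.ofNat 0, .ofNat 0, .negSucc 1, .ofNat 2], [.ofNat 0, .negSucc 1, .ofNat 2, .ofNat 0], [.negSucc 0, .ofNat 0, .ofNat 0, .ofNat 0], [.negSucc 1, .ofNat 2, .negSucc 1, .ofNat 0], [.negSucc 1, .ofNat 0, .ofNat 2, .negSucc 1], [.negSucc 1, .ofNat 0, .ofNat 0, .ofNat 2], [.ofNat 1, .negSucc 0, .ofNat 0, .ofNat 0], [.ofNat 0, .ofNat 1, .negSucc 1, .ofNat 0], [.ofNat 0, .negSucc 0, .ofNat 2, .negSucc 1], [.ofNat 0, .negSucc 0, .ofNat 0, .ofNat 2], [.negSucc 0, .ofNat 1, .ofNat 0, .negSucc 1], [.negSucc 0, .ofNat 1, .negSucc 1, .ofNat 2], [.negSucc 0, .negSucc 0, .ofNat 2, .ofNat 0], [.negSucc 1, .ofNat 1, .ofNat 0, .ofNat 0], [.ofNat 2, .ofNat 0, .negSucc 1, .ofNat 0], [.ofNat 2, .negSucc 1, .ofNat 2, .negSucc 1], [.ofNat 2, .negSucc 1, .ofNat 0, .ofNat 2], [.ofNat 1, .ofNat 0, .ofNat 0, .negSucc 1], [.ofNat 1, .ofNat 0, .negSucc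 1, .ofNat 2], [.ofNat 1, .negSucc 1, .ofNat 2, .ofNat 0], [.ofNat 0, .ofNat 2, .negSucc 1, .negSucc 1], [.ofNat 0, .ofNat 2, .negSucc 3, .ofNat 2], [.ofNat 0, .ofNat 0, .ofNat 2, .negSucc 3], [.ofNat 0, .ofNat 0, .negSucc 1, .ofNat 4], [.ofNat 0, .negSucc 1, .ofNat 4, .negSucc 1], [.ofNat 0, .negSucc 1, .ofNat 2, .ofNat 2], [.negSucc 0, .ofNat 2, .negSucc 1, .ofNat 0], [.negSucc 0, .ofNat 0, .ofNat 2, .negSucc 1], [.negSucc 0, .ofNat 0, .ofNat 0, .ofNat 2], [.negSucc 1, .ofNat 2, .ofNat 0, .negSucc 1], [.negSucc 1, .ofNat 2, .negSucc 1, .ofNat 2], [.negSucc 1, .ofNat 0, .ofNat 2, .ofNat 0], [.ofNat 2, .negSucc 0, .ofNat 0, .ofNat 0], [.ofNat 1, .ofNat 1, .negSucc 1, .ofNat 0], [.ofNat 1, .negSucc 0, .ofNat 2, .negSucc 1], [.ofNat 1, .negSucc 0, .ofNat 0, .ofNat 2], [.ofNat 0, .ofNat 1, .ofNat 0, .negSucc 1], [.ofNat 0, .ofNat 1, .negSucc 1, .ofNat 2], [.ofNat 0, .negSucc 0,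 .ofNat 2, .ofNat 0], [.negSucc 0, .ofNat 1, .ofNat 0, .ofNat 0], [.ofNat 2, .ofNat 0, .ofNat 0, .negSucc 1], [.ofNat 2, .ofNat 0, .negSucc 1, .ofNat 2], [.ofNat 2, .negSucc 1, .ofNat 2, .ofNat 0], [.ofNat 1, .ofNat 0, .ofNat 0, .ofNat 0], [.ofNat 0, .ofNat 2, .negSucc 1, .ofNat 0], [.ofNat 0, .ofNat 0, .ofNat 2, .negSucc 1], [.ofNat 0, .ofNat 0, .ofNat 0, .ofNat 2]]
  TT := 0xa58bbe000000000000022e5a5a74400000014a95dd0000000000000456ac356a200000061326eb000000000000089b318cd91000000000007f000000007f800001ffff80000000c860596b0000000000002165318ca684000152806a5d00000000000041a8ac3515820001a500743e00000000000081d05a5a0b810000000380870002001c07080e1c07e038700000006081130004080c18882662c18346640000028102250008101428884aa34422c5520000050204460010201830888cc38241c331000040a00831002018044308630d8241b0c6000081401052004028084508a5154422a8a5000106002064008030104608c918c18318930001c000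4070010038003808e0e007e007070606006f0183000000000000387809901e1c0a0a0296828500000000000054b414282d2a0c120519848600000000000092cc22443349020000a58001002e00000b807c005a5a003e0400014a8002005600001580ba00ac35005d080006130004009a00002680d601318c806b222448c48911000000000000554a900952aa244489289112000000000000933260064cc9422852250a2100000000000039870810e19c8450a44a144200000000000039870810e19c488914912224000000000000933260064cc9889123122444000000000000554a900952aa2000c8600010016400005900d601318c806b40015280002001a800006a00ba00ac35005d8001a500004001d0000074007c005a5a003e612198a0483000000000000092cc22443349a1416940505000000000000054b414282d2ac180f6006060000000000000387809901e1c0e0200038000101c001c0080e0e007e007072604006080001062080c0100c918c18318934a080281000010a210140200a5154422a8a58c100502000010c220180400630d8241b0c6622040a00000110c180408008cc38241c331a440814000001114280810004aa34422c552c881060000001118301020002662c1834664e101c000000010e0380040000e1c07e038707c2e00a5800000000000000081d05a5a0b81ba56014a800000000000000041a8ac351582d69a061300000000000000002165318ca684fe000000000001fe000000000001ffff8000d764c8600000000000000000089b318cd910bba9528000000000000000000456ac356a207dd1a5000000000000000000022e5a5a7440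

/-- the tables of type E6 -/
def sE6 : Sys where
  n := 72
  k := 2
  G := [[.ofNat 2, .ofNat 0, .negSucc 0, .ofNat 0, .ofNat 0, .ofNat 0], [.ofNat 0, .ofNat 2, .ofNat 0, .negSucc 0, .ofNat 0, .ofNat 0], [.negSucc 0, .ofNat 0, .ofNat 2, .negSucc 0, .ofNat 0, .ofNat 0], [.ofNat 0, .negSucc 0, .negSucc 0, .ofNat 2, .negSucc 0, .ofNat 0], [.ofNat 0, .ofNat 0, .ofNat 0, .negSucc 0, .ofNat 2, .negSucc 0], [.ofNat 0, .ofNat 0, .ofNat 0, .ofNat 0, .negSucc 0, .ofNat 2]]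
  css := [[], [0], [0, 1], [1, 1, 0], [1, 0, 0, 0], [1, 0, 0, 0, 0]]
  NM := [0xffffffffffffffffff, 0xffffffffffffffffff, 0xffffffffffffffffff, 0xffffffffffffffffff, 0xffffffffffffffffff, 0xffffffffffffffffff]
  RL := [[.negSucc 0, .negSucc 1, .negSucc 1, .negSucc 2, .negSucc 1, .negSucc 0], [.negSucc 0, .negSucc 0, .negSucc 1, .negSucc 2, .negSucc 1, .negSucc 0], [.negSucc 0, .negSucc 0, .negSucc 1, .negSucc 1, .negSucc 1, .negSucc 0], [.negSucc 0, .negSucc 0, .negSucc 1, .negSucc 1, .negSucc 0, .negSucc 0], [.negSucc 0, .negSucc 0, .negSucc 1, .negSucc 1, .negSucc 0, .ofNat 0], [.negSucc 0, .negSucc 0, .negSucc 0, .negSucc 1, .negSucc 1, .negSucc 0], [.negSucc 0, .negSucc 0, .negSucc 0, .negSucc 1, .negSucc 0, .negSucc 0], [.negSucc 0, .negSucc 0, .negSucc 0, .negSucc 1, .negSucc 0, .ofNat 0], [.negSucc 0, .negSucc 0, .negSucc 0, .negSucc 0, .negSucc 0, .negSucc 0], [.negSucc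 0, .negSucc 0, .negSucc 0, .negSucc 0, .negSucc 0, .ofNat 0], [.negSucc 0, .negSucc 0, .negSucc 0, .negSucc 0, .ofNat 0, .ofNat 0], [.negSucc 0, .ofNat 0, .negSucc 0, .negSucc 0, .negSucc 0, .negSucc 0], [.negSucc 0, .ofNat 0, .negSucc 0, .negSucc 0, .negSucc 0, .ofNat 0], [.negSucc 0, .ofNat 0, .negSucc 0, .negSucc 0, .ofNat 0, .ofNat 0], [.negSucc 0, .ofNat 0, .negSucc 0, .ofNat 0, .ofNat 0, .ofNat 0], [.negSucc 0, .ofNat 0, .ofNat 0, .ofNat 0, .ofNat 0, .ofNat 0], [.ofNat 0, .negSucc 0, .negSucc 0, .negSucc 1, .negSucc 1, .negSucc 0], [.ofNat 0, .negSucc 0, .negSucc 0, .negSucc 1, .negSucc 0, .negSucc 0], [.ofNat 0, .negSucc 0, .negSucc 0, .negSucc 1, .negSucc 0, .ofNat 0], [.ofNat 0, .negSucc 0, .negSucc 0, .negSucc 0, .negSucc 0, .negSucc 0], [.ofNat 0, .negSucc 0, .negSucc 0, .negSucc 0, .negSucc 0, .ofNat 0], [.ofNat 0, .negSucc 0, .negSucc 0, .negSucc 0, .ofNat 0, .ofNat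 0], [.ofNat 0, .negSucc 0, .ofNat 0, .negSucc 0, .negSucc 0, .negSucc 0], [.ofNat 0, .negSucc 0, .ofNat 0, .negSucc 0, .negSucc 0, .ofNat 0], [.ofNat 0, .negSucc 0, .ofNat 0, .negSucc 0, .ofNat 0, .ofNat 0], [.ofNat 0, .negSucc 0, .ofNat 0, .ofNat 0, .ofNat 0, .ofNat 0], [.ofNat 0, .ofNat 0, .negSucc 0, .negSucc 0, .negSucc 0, .negSucc 0], [.ofNat 0, .ofNat 0, .negSucc 0, .negSucc 0, .negSucc 0, .ofNat 0], [.ofNat 0, .ofNat 0, .negSucc 0, .negSucc 0, .ofNat 0, .ofNat 0], [.ofNat 0, .ofNat 0, .negSucc 0, .ofNat 0, .ofNat 0, .ofNat 0], [.ofNat 0, .ofNat 0, .ofNat 0, .negSucc 0, .negSucc 0, .negSucc 0], [.ofNat 0, .ofNat 0, .ofNat 0, .negSucc 0, .negSucc 0, .ofNat 0], [.ofNat 0, .ofNat 0, .ofNat 0, .negSucc 0, .ofNat 0, .ofNat 0], [.ofNat 0, .ofNat 0, .ofNat 0, .ofNat 0, .negSucc 0, .negSucc 0], [.ofNat 0, .ofNat 0, .ofNat 0, .ofNat 0, .negSucc 0, .ofNat 0], [.ofNat 0, .ofNat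 0, .ofNat 0, .ofNat 0, .ofNat 0, .negSucc 0], [.ofNat 0, .ofNat 0, .ofNat 0, .ofNat 0, .ofNat 0, .ofNat 1], [.ofNat 0, .ofNat 0, .ofNat 0, .ofNat 0, .ofNat 1, .ofNat 0], [.ofNat 0, .ofNat 0, .ofNat 0, .ofNat 0, .ofNat 1, .ofNat 1], [.ofNat 0, .ofNat 0, .ofNat 0, .ofNat 1, .ofNat 0, .ofNat 0], [.ofNat 0, .ofNat 0, .ofNat 0, .ofNat 1, .ofNat 1, .ofNat 0], [.ofNat 0, .ofNat 0, .ofNat 0, .ofNat 1, .ofNat 1, .ofNat 1], [.ofNat 0, .ofNat 0, .ofNat 1, .ofNat 0, .ofNat 0, .ofNat 0], [.ofNat 0, .ofNat 0, .ofNat 1, .ofNat 1, .ofNat 0, .ofNat 0], [.ofNat 0, .ofNat 0, .ofNat 1, .ofNat 1, .ofNat 1, .ofNat 0], [.ofNat 0, .ofNat 0, .ofNat 1, .ofNat 1, .ofNat 1, .ofNat 1], [.ofNat 0, .ofNat 1, .ofNat 0, .ofNat 0, .ofNat 0, .ofNat 0], [.ofNat 0, .ofNat 1, .ofNat 0, .ofNat 1, .ofNat 0, .ofNat 0], [.ofNat 0, .ofNat 1, .ofNat 0, .ofNat 1, .ofNat 1, .ofNat 0], [.ofNat 0, .ofNat 1, .ofNat 0, .ofNat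 1, .ofNat 1, .ofNat 1], [.ofNat 0, .ofNat 1, .ofNat 1, .ofNat 1, .ofNat 0, .ofNat 0], [.ofNat 0, .ofNat 1, .ofNat 1, .ofNat 1, .ofNat 1, .ofNat 0], [.ofNat 0, .ofNat 1, .ofNat 1, .ofNat 1, .ofNat 1, .ofNat 1], [.ofNat 0, .ofNat 1, .ofNat 1, .ofNat 2, .ofNat 1, .ofNat 0], [.ofNat 0, .ofNat 1, .ofNat 1, .ofNat 2, .ofNat 1, .ofNat 1], [.ofNat 0, .ofNat 1, .ofNat 1, .ofNat 2, .ofNat 2, .ofNat 1], [.ofNat 1, .ofNat 0, .ofNat 0, .ofNat 0, .ofNat 0, .ofNat 0], [.ofNat 1, .ofNat 0, .ofNat 1, .ofNat 0, .ofNat 0, .ofNat 0], [.ofNat 1, .ofNat 0, .ofNat 1, .ofNat 1, .ofNat 0, .ofNat 0], [.ofNat 1, .ofNat 0, .ofNat 1, .ofNat 1, .ofNat 1, .ofNat 0], [.ofNat 1, .ofNat 0, .ofNat 1, .ofNat 1, .ofNat 1, .ofNat 1], [.ofNat 1, .ofNat 1, .ofNat 1, .ofNat 1, .ofNat 0, .ofNat 0], [.ofNat 1, .ofNat 1, .ofNat 1, .ofNat 1, .ofNat 1, .ofNat 0], [.ofNat 1, .ofNat 1, .ofNat 1, .ofNat 1, .ofNat 1, .ofNat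 1], [.ofNat 1, .ofNat 1, .ofNat 1, .ofNat 2, .ofNat 1, .ofNat 0], [.ofNat 1, .ofNat 1, .ofNat 1, .ofNat 2, .ofNat 1, .ofNat 1], [.ofNat 1, .ofNat 1, .ofNat 1, .ofNat 2, .ofNat 2, .ofNat 1], [.ofNat 1, .ofNat 1, .ofNat 2, .ofNat 2, .ofNat 1, .ofNat 0], [.ofNat 1, .ofNat 1, .ofNat 2, .ofNat 2, .ofNat 1, .ofNat 1], [.ofNat 1, .ofNat 1, .ofNat 2, .ofNat 2, .ofNat 2, .ofNat 1], [.ofNat 1, .ofNat 1, .ofNat 2, .ofNat 3, .ofNat 2, .ofNat 1], [.ofNat 1, .ofNat 2, .ofNat 2, .ofNat 3, .ofNat 2, .ofNat 1]]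
  GR := [[.ofNat 0, .negSucc 0, .ofNat 0, .ofNat 0, .ofNat 0, .ofNat 0], [.ofNat 0, .ofNat 1, .ofNat 0, .negSucc 0, .ofNat 0, .ofNat 0], [.ofNat 0, .ofNat 0, .negSucc 0, .ofNat 1, .negSucc 0, .ofNat 0], [.ofNat 0, .ofNat 0, .negSucc 0, .ofNat 0, .ofNat 1, .negSucc 0], [.ofNat 0, .ofNat 0, .negSucc 0, .ofNat 0, .ofNat 0, .ofNat 1], [.negSucc 0, .ofNat 0, .ofNat 1, .ofNat 0, .negSucc 0, .ofNat 0], [.negSucc 0, .ofNat 0, .ofNat 1, .negSucc 0, .ofNat 1, .negSucc 0], [.negSucc 0, .ofNat 0, .ofNat 1, .negSucc 0, .ofNat 0, .ofNat 1], [.negSucc 0, .negSucc 0, .ofNat 0, .ofNat 1, .ofNat 0, .negSucc 0], [.negSucc 0, .negSucc 0, .ofNat 0, .ofNat 1, .negSucc 0, .ofNat 1], [.negSucc 0, .negSucc 0, .ofNat 0, .ofNat 0, .ofNat 1, .ofNat 0], [.negSucc 0, .ofNat 1, .ofNat 0, .ofNat 0, .ofNat 0, .negSucc 0], [.negSucc 0, .ofNat 1, .ofNat 0, .ofNat 0, .negSucc 0, .ofNat 1], [.negSucc 0, .ofNat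 1, .ofNat 0, .negSucc 0, .ofNat 1, .ofNat 0], [.negSucc 0, .ofNat 0, .negSucc 0, .ofNat 1, .ofNat 0, .ofNat 0], [.negSucc 1, .ofNat 0, .ofNat 1, .ofNat 0, .ofNat 0, .ofNat 0], [.ofNat 1, .ofNat 0, .ofNat 0, .ofNat 0, .negSucc 0, .ofNat 0], [.ofNat 1, .ofNat 0, .ofNat 0, .negSucc 0, .ofNat 1, .negSucc 0], [.ofNat 1, .ofNat 0, .ofNat 0, .negSucc 0, .ofNat 0, .ofNat 1], [.ofNat 1, .negSucc 0, .negSucc 0, .ofNat 1, .ofNat 0, .negSucc 0], [.ofNat 1, .negSucc 0, .negSucc 0, .ofNat 1, .negSucc 0, .ofNat 1], [.ofNat 1, .negSucc 0, .negSucc 0, .ofNat 0, .ofNat 1, .ofNat 0], [.ofNat 0, .negSucc 0, .ofNat 1, .ofNat 0, .ofNat 0, .negSucc 0], [.ofNat 0, .negSucc 0, .ofNat 1, .ofNat 0, .negSucc 0, .ofNat 1], [.ofNat 0, .negSucc 0, .ofNat 1, .negSucc 0, .ofNat 1, .ofNat 0], [.ofNat 0, .negSucc 1, .ofNat 0, .ofNat 1, .ofNat 0, .ofNat 0], [.ofNat 1, .ofNat 1, .negSucc 0, .ofNat 0, .ofNat 0,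 .negSucc 0], [.ofNat 1, .ofNat 1, .negSucc 0, .ofNat 0, .negSucc 0, .ofNat 1], [.ofNat 1, .ofNat 1, .negSucc 0, .negSucc 0, .ofNat 1, .ofNat 0], [.ofNat 1, .ofNat 0, .negSucc 1, .ofNat 1, .ofNat 0, .ofNat 0], [.ofNat 0, .ofNat 1, .ofNat 1, .negSucc 0, .ofNat 0, .negSucc 0], [.ofNat 0, .ofNat 1, .ofNat 1, .negSucc 0, .negSucc 0, .ofNat 1], [.ofNat 0, .ofNat 1, .ofNat 1, .negSucc 1, .ofNat 1, .ofNat 0], [.ofNat 0, .ofNat 0, .ofNat 0, .ofNat 1, .negSucc 0, .negSucc 0], [.ofNat 0, .ofNat 0, .ofNat 0, .ofNat 1, .negSucc 1, .ofNat 1], [.ofNat 0, .ofNat 0, .ofNat 0, .ofNat 0, .ofNat 1, .negSucc 1], [.ofNat 0, .ofNat 0, .ofNat 0, .ofNat 0, .negSucc 0, .ofNat 2], [.ofNat 0, .ofNat 0, .ofNat 0, .negSucc 0, .ofNat 2, .negSucc 0], [.ofNat 0, .ofNat 0, .ofNat 0, .negSucc 0, .ofNat 1, .ofNat 1], [.ofNat 0, .negSucc 0, .negSucc 0, .ofNat 2, .negSucc 0, .ofNat 0], [.ofNat 0, .negSucc 0, .negSucc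 0, .ofNat 1, .ofNat 1, .negSucc 0], [.ofNat 0, .negSucc 0, .negSucc 0, .ofNat 1, .ofNat 0, .ofNat 1], [.negSucc 0, .ofNat 0, .ofNat 2, .negSucc 0, .ofNat 0, .ofNat 0], [.negSucc 0, .negSucc 0, .ofNat 1, .ofNat 1, .negSucc 0, .ofNat 0], [.negSucc 0, .negSucc 0, .ofNat 1, .ofNat 0, .ofNat 1, .negSucc 0], [.negSucc 0, .negSucc 0, .ofNat 1, .ofNat 0, .ofNat 0, .ofNat 1], [.ofNat 0, .ofNat 2, .ofNat 0, .negSucc 0, .ofNat 0, .ofNat 0], [.ofNat 0, .ofNat 1, .negSucc 0, .ofNat 1, .negSucc 0, .ofNat 0], [.ofNat 0, .ofNat 1, .negSucc 0, .ofNat 0, .ofNat 1, .negSucc 0], [.ofNat 0, .ofNat 1, .negSucc 0, .ofNat 0, .ofNat 0, .ofNat 1], [.negSucc 0, .ofNat 1, .ofNat 1, .ofNat 0, .negSucc 0, .ofNat 0], [.negSucc 0, .ofNat 1, .ofNat 1, .negSucc 0, .ofNat 1, .negSucc 0], [.negSucc 0, .ofNat 1, .ofNat 1, .negSucc 0, .ofNat 0, .ofNat 1], [.negSucc 0, .ofNat 0, .ofNat 0, .ofNat 1, .ofNat 0, .negSucc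 0], [.negSucc 0, .ofNat 0, .ofNat 0, .ofNat 1, .negSucc 0, .ofNat 1], [.negSucc 0, .ofNat 0, .ofNat 0, .ofNat 0, .ofNat 1, .ofNat 0], [.ofNat 2, .ofNat 0, .negSucc 0, .ofNat 0, .ofNat 0, .ofNat 0], [.ofNat 1, .ofNat 0, .ofNat 1, .negSucc 0, .ofNat 0, .ofNat 0], [.ofNat 1, .negSucc 0, .ofNat 0, .ofNat 1, .negSucc 0, .ofNat 0], [.ofNat 1, .negSucc 0, .ofNat 0, .ofNat 0, .ofNat 1, .negSucc 0], [.ofNat 1, .negSucc 0, .ofNat 0, .ofNat 0, .ofNat 0, .ofNat 1], [.ofNat 1, .ofNat 1, .ofNat 0, .ofNat 0, .negSucc 0, .ofNat 0], [.ofNat 1, .ofNat 1, .ofNat 0, .negSucc 0, .ofNat 1, .negSucc 0], [.ofNat 1, .ofNat 1, .ofNat 0, .negSucc 0, .ofNat 0, .ofNat 1], [.ofNat 1, .ofNat 0, .negSucc 0, .ofNat 1, .ofNat 0, .negSucc 0], [.ofNat 1, .ofNat 0, .negSucc 0, .ofNat 1, .negSucc 0, .ofNat 1], [.ofNat 1, .ofNat 0, .negSucc 0, .ofNat 0, .ofNat 1, .ofNat 0], [.ofNat 0, .ofNat 0, .ofNat 1, .ofNat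 0, .ofNat 0, .negSucc 0], [.ofNat 0, .ofNat 0, .ofNat 1, .ofNat 0, .negSucc 0, .ofNat 1], [.ofNat 0, .ofNat 0, .ofNat 1, .negSucc 0, .ofNat 1, .ofNat 0], [.ofNat 0, .negSucc 0, .ofNat 0, .ofNat 1, .ofNat 0, .ofNat 0], [.ofNat 0, .ofNat 1, .ofNat 0, .ofNat 0, .ofNat 0, .ofNat 0]]
  TT := 0x3ff07fe001f003ffffc00f8000000004001dc0738fd00e31f847e21f8c70000000080862c195b3b0325674b18d2e6a4c00000010128342a6d570549aad2c34b5592a000000202503834768f0691d1e1a5878b89600000040c06c0c19bc7182678f0990f1e641800000814294142adab284ab5694296ad521400001024518184b6733092ce5a245a73490c000020198a0248ce6d490ccda62465b330920000402a940290d5b55214b69542a96d284a00008033600320e3d964187b0c9930de182600002dc00a4400f16e8960d21da5b84b0691000056c0148800eab692a0a92ec37495054900009b40611000dcdaa4c064b718ed2603250000e383802000bf1cc7001c787e1e3800e30000fc3c0000007fe0f80003c3ffc3c0001f0027000006ccde00271bd804cc9933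201bd8004b000029556d004b2db4095542aa902db4009300005199b30093366c1266246648366c010d00018a2673010d4e72219a2459844e7202150002942aad021555aa42a942954255aa0419000360331e041963c68330990cc163c6080e001c0a438b016171712c21a584348e8e1016002c14835502a16aa95412c3482a9556201a00346102e604c15cc5980b18d019a33a401c003b8001f807013f03e0047e2007c0fc016101c00a780b080e8e8e2e01a58074717102a102c014b415101695565502c340aa6aa904c10340612c26201aa33a988318c1195cc507010383801c38401cc0fce0407e02073f0308620c440b84430862b18d319824198cb18d10a2144415488510a2aa554aa8421552aa5520c2184460d10620c29c398730180ce19c39092424888c44490924d24b495500aa92d24b122444889288911224c993326600664cc9930948291122444a0948e42784cc813321e427129052224488941290e42784cc813321e427244889114911222448c993326600664cc993249092223111242490d24b495500aa92d24b4304608b06221843049c398730180ce19c394508a112a822284508aa554aa8421552aa554610c221d0223046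10b18d319824198cb18d38021c3801c1c080e0c0fce0407e02073f03580464348602c08320a33a988318c1195cc56808a82d280340854095565502c340aa6aa97010d01e50038086808e8e2e01a58074717180e01f8001dc0038023f03e0047e2007c0fc83206740862c0058045cc5980b18d019a33a8540aac128340068086aa95412c3482a95568680d1c2503800701071712c21a584348e8e982078cc06c000982063c68330990cc163c6a840b554294000a84055aa42a942954255aab080ce64518000b0804e72219a2459844e72c900cd998a0000c900366c1266246648366cd200b6aa940000d2002db4095542aa902db4e4007b33600000e4001bd804cc9933201bd807fe0000003c3f0000f80003c3ffc3c0001f38fd000401c1c70000c7001c787e1e3800e35b3b00088602d90000a4c064b718ed2603256d57001128036a000092a0a92ec374950549768f00225003b400008960d21da5b84b06919bc704c006cc01000064187b0c9930de1826adab094029540200005214b69542a96d284ab67312405198040000490ccda62465b33092ce6d21818a240800003092ce5a245a73490cd5b542829428100000284ab5694296ad5214e3d983036030200000182678f0990f1e6418f16e2c1c0a404000000691d1e1a5878b8960eab6542c14808000000549aad2c34b5592a0dcda983461010000000325674b18d2e6a4c0bf1ce03b800200000000e31f847e21f8c7007fe0ffc00000000000001f003ffffc00f800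

/-- the tables of type E7 -/
def sE7 : Sys where
  n := 126
  k := 2
  G := [[.ofNat 2, .ofNat 0, .negSucc 0, .ofNat 0, .ofNat 0, .ofNat 0, .ofNat 0], [.ofNat 0, .ofNat 2, .ofNat 0, .negSucc 0, .ofNat 0, .ofNat 0, .ofNat 0], [.negSucc 0, .ofNat 0, .ofNat 2, .negSucc 0, .ofNat 0, .ofNat 0, .ofNat 0], [.ofNat 0, .negSucc 0, .negSucc 0, .ofNat 2, .negSucc 0, .ofNat 0, .ofNat 0], [.ofNat 0, .ofNat 0, .ofNat 0, .negSucc 0, .ofNat 2, .negSucc 0, .ofNat 0], [.ofNat 0, .ofNat 0, .ofNat 0, .ofNat 0, .negSucc 0, .ofNat 2, .negSucc 0], [.ofNat 0, .ofNat 0, .ofNat 0, .ofNat 0, .ofNat 0, .negSucc 0, .ofNat 2]]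
  css := [[], [0], [0, 1], [1, 1, 0], [1, 0, 0, 0], [1, 0, 0, 0, 0], [1, 0, 0, 0, 0, 0]]
  NM := [0x3fffffffffffffffffffffffffffffff, 0x3fffffffffffffffffffffffffffffff, 0x3fffffffffffffffffffffffffffffff, 0x3fffffffffffffffffffffffffffffff, 0x3fffffffffffffffffffffffffffffff, 0x3fffffffffffffffffffffffffffffff, 0x3fffffffffffffffffffffffffffffff]
  RL := [[.negSucc 1, .negSucc 1, .negSucc 2, .negSucc 3, .negSucc 2, .negSucc 1, .negSucc 0], [.negSucc 0, .negSucc 1, .negSucc 2, .negSucc 3, .negSucc 2, .negSucc 1, .negSucc 0], [.negSucc 0, .negSucc 1, .negSucc 1, .negSucc 3, .negSucc 2, .negSucc 1, .negSucc 0], [.negSucc 0, .negSucc 1, .negSucc 1, .negSucc 2, .negSucc 2, .negSucc 1, .negSucc 0], [.negSucc 0, .negSucc 1, .negSucc 1, .negSucc 2, .negSucc 1, .negSucc 1, .negSucc 0], [.negSucc 0, .negSucc 1, .negSucc 1, .negSucc 2, .negSucc 1, .negSucc 0, .negSucc 0], [.negSucc 0,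 .negSucc 1, .negSucc 1, .negSucc 2, .negSucc 1, .negSucc 0, .ofNat 0], [.negSucc 0, .negSucc 0, .negSucc 1, .negSucc 2, .negSucc 2, .negSucc 1, .negSucc 0], [.negSucc 0, .negSucc 0, .negSucc 1, .negSucc 2, .negSucc 1, .negSucc 1, .negSucc 0], [.negSucc 0, .negSucc 0, .negSucc 1, .negSucc 2, .negSucc 1, .negSucc 0, .negSucc 0], [.negSucc 0, .negSucc 0, .negSucc 1, .negSucc 2, .negSucc 1, .negSucc 0, .ofNat 0], [.negSucc 0, .negSucc 0, .negSucc 1, .negSucc 1, .negSucc 1, .negSucc 1, .negSucc 0], [.negSucc 0, .negSucc 0, .negSucc 1, .negSucc 1, .negSucc 1, .negSucc 0, .negSucc 0], [.negSucc 0, .negSucc 0, .negSucc 1, .negSucc 1, .negSucc 1, .negSucc 0, .ofNat 0], [.negSucc 0, .negSucc 0, .negSucc 1, .negSucc 1, .negSucc 0, .negSucc 0, .negSucc 0], [.negSucc 0, .negSucc 0, .negSucc 1, .negSucc 1, .negSucc 0, .negSucc 0, .ofNat 0], [.negSucc 0, .negSucc 0, .negSucc 1, .negSucc 1,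 .negSucc 0, .ofNat 0, .ofNat 0], [.negSucc 0, .negSucc 0, .negSucc 0, .negSucc 1, .negSucc 1, .negSucc 1, .negSucc 0], [.negSucc 0, .negSucc 0, .negSucc 0, .negSucc 1, .negSucc 1, .negSucc 0, .negSucc 0], [.negSucc 0, .negSucc 0, .negSucc 0, .negSucc 1, .negSucc 1, .negSucc 0, .ofNat 0], [.negSucc 0, .negSucc 0, .negSucc 0, .negSucc 1, .negSucc 0, .negSucc 0, .negSucc 0], [.negSucc 0, .negSucc 0, .negSucc 0, .negSucc 1, .negSucc 0, .negSucc 0, .ofNat 0], [.negSucc 0, .negSucc 0, .negSucc 0, .negSucc 1, .negSucc 0, .ofNat 0, .ofNat 0], [.negSucc 0, .negSucc 0, .negSucc 0, .negSucc 0, .negSucc 0, .negSucc 0, .negSucc 0], [.negSucc 0, .negSucc 0, .negSucc 0, .negSucc 0, .negSucc 0, .negSucc 0, .ofNat 0], [.negSucc 0, .negSucc 0, .negSucc 0, .negSucc 0, .negSucc 0, .ofNat 0, .ofNat 0], [.negSucc 0, .negSucc 0, .negSucc 0, .negSucc 0, .ofNat 0, .ofNat 0, .ofNat 0], [.negSucc 0,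 .ofNat 0, .negSucc 0, .negSucc 0, .negSucc 0, .negSucc 0, .negSucc 0], [.negSucc 0, .ofNat 0, .negSucc 0, .negSucc 0, .negSucc 0, .negSucc 0, .ofNat 0], [.negSucc 0, .ofNat 0, .negSucc 0, .negSucc 0, .negSucc 0, .ofNat 0, .ofNat 0], [.negSucc 0, .ofNat 0, .negSucc 0, .negSucc 0, .ofNat 0, .ofNat 0, .ofNat 0], [.negSucc 0, .ofNat 0, .negSucc 0, .ofNat 0, .ofNat 0, .ofNat 0, .ofNat 0], [.negSucc 0, .ofNat 0, .ofNat 0, .ofNat 0, .ofNat 0, .ofNat 0, .ofNat 0], [.ofNat 0, .negSucc 0, .negSucc 0, .negSucc 1, .negSucc 1, .negSucc 1, .negSucc 0], [.ofNat 0, .negSucc 0, .negSucc 0, .negSucc 1, .negSucc 1, .negSucc 0, .negSucc 0], [.ofNat 0, .negSucc 0, .negSucc 0, .negSucc 1, .negSucc 1, .negSucc 0, .ofNat 0], [.ofNat 0, .negSucc 0, .negSucc 0, .negSucc 1, .negSucc 0, .negSucc 0, .negSucc 0], [.ofNat 0, .negSucc 0, .negSucc 0, .negSucc 1, .negSucc 0, .negSucc 0, .ofNat 0], [.ofNat 0,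 .negSucc 0, .negSucc 0, .negSucc 1, .negSucc 0, .ofNat 0, .ofNat 0], [.ofNat 0, .negSucc 0, .negSucc 0, .negSucc 0, .negSucc 0, .negSucc 0, .negSucc 0], [.ofNat 0, .negSucc 0, .negSucc 0, .negSucc 0, .negSucc 0, .negSucc 0, .ofNat 0], [.ofNat 0, .negSucc 0, .negSucc 0, .negSucc 0, .negSucc 0, .ofNat 0, .ofNat 0], [.ofNat 0, .negSucc 0, .negSucc 0, .negSucc 0, .ofNat 0, .ofNat 0, .ofNat 0], [.ofNat 0, .negSucc 0, .ofNat 0, .negSucc 0, .negSucc 0, .negSucc 0, .negSucc 0], [.ofNat 0, .negSucc 0, .ofNat 0, .negSucc 0, .negSucc 0, .negSucc 0, .ofNat 0], [.ofNat 0, .negSucc 0, .ofNat 0, .negSucc 0, .negSucc 0, .ofNat 0, .ofNat 0], [.ofNat 0, .negSucc 0, .ofNat 0, .negSucc 0, .ofNat 0, .ofNat 0, .ofNat 0], [.ofNat 0, .negSucc 0, .ofNat 0, .ofNat 0, .ofNat 0, .ofNat 0, .ofNat 0], [.ofNat 0, .ofNat 0, .negSucc 0, .negSucc 0, .negSucc 0, .negSucc 0, .negSucc 0], [.ofNat 0, .ofNat 0,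 .negSucc 0, .negSucc 0, .negSucc 0, .negSucc 0, .ofNat 0], [.ofNat 0, .ofNat 0, .negSucc 0, .negSucc 0, .negSucc 0, .ofNat 0, .ofNat 0], [.ofNat 0, .ofNat 0, .negSucc 0, .negSucc 0, .ofNat 0, .ofNat 0, .ofNat 0], [.ofNat 0, .ofNat 0, .negSucc 0, .ofNat 0, .ofNat 0, .ofNat 0, .ofNat 0], [.ofNat 0, .ofNat 0, .ofNat 0, .negSucc 0, .negSucc 0, .negSucc 0, .negSucc 0], [.ofNat 0, .ofNat 0, .ofNat 0, .negSucc 0, .negSucc 0, .negSucc 0, .ofNat 0], [.ofNat 0, .ofNat 0, .ofNat 0, .negSucc 0, .negSucc 0, .ofNat 0, .ofNat 0], [.ofNat 0, .ofNat 0, .ofNat 0, .negSucc 0, .ofNat 0, .ofNat 0, .ofNat 0], [.ofNat 0, .ofNat 0, .ofNat 0, .ofNat 0, .negSucc 0, .negSucc 0, .negSucc 0], [.ofNat 0, .ofNat 0, .ofNat 0, .ofNat 0, .negSucc 0, .negSucc 0, .ofNat 0], [.ofNat 0, .ofNat 0, .ofNat 0, .ofNat 0, .negSucc 0, .ofNat 0, .ofNat 0], [.ofNat 0, .ofNat 0, .ofNat 0, .ofNat 0, .ofNat 0, .negSucc 0,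 .negSucc 0], [.ofNat 0, .ofNat 0, .ofNat 0, .ofNat 0, .ofNat 0, .negSucc 0, .ofNat 0], [.ofNat 0, .ofNat 0, .ofNat 0, .ofNat 0, .ofNat 0, .ofNat 0, .negSucc 0], [.ofNat 0, .ofNat 0, .ofNat 0, .ofNat 0, .ofNat 0, .ofNat 0, .ofNat 1], [.ofNat 0, .ofNat 0, .ofNat 0, .ofNat 0, .ofNat 0, .ofNat 1, .ofNat 0], [.ofNat 0, .ofNat 0, .ofNat 0, .ofNat 0, .ofNat 0, .ofNat 1, .ofNat 1], [.ofNat 0, .ofNat 0, .ofNat 0, .ofNat 0, .ofNat 1, .ofNat 0, .ofNat 0], [.ofNat 0, .ofNat 0, .ofNat 0, .ofNat 0, .ofNat 1, .ofNat 1, .ofNat 0], [.ofNat 0, .ofNat 0, .ofNat 0, .ofNat 0, .ofNat 1, .ofNat 1, .ofNat 1], [.ofNat 0, .ofNat 0, .ofNat 0, .ofNat 1, .ofNat 0, .ofNat 0, .ofNat 0], [.ofNat 0, .ofNat 0, .ofNat 0, .ofNat 1, .ofNat 1, .ofNat 0, .ofNat 0], [.ofNat 0, .ofNat 0, .ofNat 0, .ofNat 1, .ofNat 1, .ofNat 1, .ofNat 0], [.ofNat 0, .ofNat 0, .ofNat 0, .ofNat 1, .ofNat 1, .ofNat 1, .ofNat 1], [.ofNat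 0, .ofNat 0, .ofNat 1, .ofNat 0, .ofNat 0, .ofNat 0, .ofNat 0], [.ofNat 0, .ofNat 0, .ofNat 1, .ofNat 1, .ofNat 0, .ofNat 0, .ofNat 0], [.ofNat 0, .ofNat 0, .ofNat 1, .ofNat 1, .ofNat 1, .ofNat 0, .ofNat 0], [.ofNat 0, .ofNat 0, .ofNat 1, .ofNat 1, .ofNat 1, .ofNat 1, .ofNat 0], [.ofNat 0, .ofNat 0, .ofNat 1, .ofNat 1, .ofNat 1, .ofNat 1, .ofNat 1], [.ofNat 0, .ofNat 1, .ofNat 0, .ofNat 0, .ofNat 0, .ofNat 0, .ofNat 0], [.ofNat 0, .ofNat 1, .ofNat 0, .ofNat 1, .ofNat 0, .ofNat 0, .ofNat 0], [.ofNat 0, .ofNat 1, .ofNat 0, .ofNat 1, .ofNat 1, .ofNat 0, .ofNat 0], [.ofNat 0, .ofNat 1, .ofNat 0, .ofNat 1, .ofNat 1, .ofNat 1, .ofNat 0], [.ofNat 0, .ofNat 1, .ofNat 0, .ofNat 1, .ofNat 1, .ofNat 1, .ofNat 1], [.ofNat 0, .ofNat 1, .ofNat 1, .ofNat 1, .ofNat 0, .ofNat 0, .ofNat 0], [.ofNat 0, .ofNat 1, .ofNat 1, .ofNat 1, .ofNat 1, .ofNat 0, .ofNat 0], [.ofNat 0, .ofNat 1, .ofNat 1,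 .ofNat 1, .ofNat 1, .ofNat 1, .ofNat 0], [.ofNat 0, .ofNat 1, .ofNat 1, .ofNat 1, .ofNat 1, .ofNat 1, .ofNat 1], [.ofNat 0, .ofNat 1, .ofNat 1, .ofNat 2, .ofNat 1, .ofNat 0, .ofNat 0], [.ofNat 0, .ofNat 1, .ofNat 1, .ofNat 2, .ofNat 1, .ofNat 1, .ofNat 0], [.ofNat 0, .ofNat 1, .ofNat 1, .ofNat 2, .ofNat 1, .ofNat 1, .ofNat 1], [.ofNat 0, .ofNat 1, .ofNat 1, .ofNat 2, .ofNat 2, .ofNat 1, .ofNat 0], [.ofNat 0, .ofNat 1, .ofNat 1, .ofNat 2, .ofNat 2, .ofNat 1, .ofNat 1], [.ofNat 0, .ofNat 1, .ofNat 1, .ofNat 2, .ofNat 2, .ofNat 2, .ofNat 1], [.ofNat 1, .ofNat 0, .ofNat 0, .ofNat 0, .ofNat 0, .ofNat 0, .ofNat 0], [.ofNat 1, .ofNat 0, .ofNat 1, .ofNat 0, .ofNat 0, .ofNat 0, .ofNat 0], [.ofNat 1, .ofNat 0, .ofNat 1, .ofNat 1, .ofNat 0, .ofNat 0, .ofNat 0], [.ofNat 1, .ofNat 0, .ofNat 1, .ofNat 1, .ofNat 1, .ofNat 0, .ofNat 0], [.ofNat 1, .ofNat 0, .ofNat 1, .ofNat 1, .ofNat 1, .ofNat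 1, .ofNat 0], [.ofNat 1, .ofNat 0, .ofNat 1, .ofNat 1, .ofNat 1, .ofNat 1, .ofNat 1], [.ofNat 1, .ofNat 1, .ofNat 1, .ofNat 1, .ofNat 0, .ofNat 0, .ofNat 0], [.ofNat 1, .ofNat 1, .ofNat 1, .ofNat 1, .ofNat 1, .ofNat 0, .ofNat 0], [.ofNat 1, .ofNat 1, .ofNat 1, .ofNat 1, .ofNat 1, .ofNat 1, .ofNat 0], [.ofNat 1, .ofNat 1, .ofNat 1, .ofNat 1, .ofNat 1, .ofNat 1, .ofNat 1], [.ofNat 1, .ofNat 1, .ofNat 1, .ofNat 2, .ofNat 1, .ofNat 0, .ofNat 0], [.ofNat 1, .ofNat 1, .ofNat 1, .ofNat 2, .ofNat 1, .ofNat 1, .ofNat 0], [.ofNat 1, .ofNat 1, .ofNat 1, .ofNat 2, .ofNat 1, .ofNat 1, .ofNat 1], [.ofNat 1, .ofNat 1, .ofNat 1, .ofNat 2, .ofNat 2, .ofNat 1, .ofNat 0], [.ofNat 1, .ofNat 1, .ofNat 1, .ofNat 2, .ofNat 2, .ofNat 1, .ofNat 1], [.ofNat 1, .ofNat 1, .ofNat 1, .ofNat 2, .ofNat 2, .ofNat 2, .ofNat 1], [.ofNat 1, .ofNat 1, .ofNat 2, .ofNat 2, .ofNat 1, .ofNat 0, .ofNat 0], [.ofNat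 1, .ofNat 1, .ofNat 2, .ofNat 2, .ofNat 1, .ofNat 1, .ofNat 0], [.ofNat 1, .ofNat 1, .ofNat 2, .ofNat 2, .ofNat 1, .ofNat 1, .ofNat 1], [.ofNat 1, .ofNat 1, .ofNat 2, .ofNat 2, .ofNat 2, .ofNat 1, .ofNat 0], [.ofNat 1, .ofNat 1, .ofNat 2, .ofNat 2, .ofNat 2, .ofNat 1, .ofNat 1], [.ofNat 1, .ofNat 1, .ofNat 2, .ofNat 2, .ofNat 2, .ofNat 2, .ofNat 1], [.ofNat 1, .ofNat 1, .ofNat 2, .ofNat 3, .ofNat 2, .ofNat 1, .ofNat 0], [.ofNat 1, .ofNat 1, .ofNat 2, .ofNat 3, .ofNat 2, .ofNat 1, .ofNat 1], [.ofNat 1, .ofNat 1, .ofNat 2, .ofNat 3, .ofNat 2, .ofNat 2, .ofNat 1], [.ofNat 1, .ofNat 1, .ofNat 2, .ofNat 3, .ofNat 3, .ofNat 2, .ofNat 1], [.ofNat 1, .ofNat 2, .ofNat 2, .ofNat 3, .ofNat 2, .ofNat 1, .ofNat 0], [.ofNat 1, .ofNat 2, .ofNat 2, .ofNat 3, .ofNat 2, .ofNat 1, .ofNat 1], [.ofNat 1, .ofNat 2, .ofNat 2, .ofNat 3, .ofNat 2, .ofNat 2, .ofNat 1], [.ofNat 1, .ofNat 2, .ofNat 2,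 .ofNat 3, .ofNat 3, .ofNat 2, .ofNat 1], [.ofNat 1, .ofNat 2, .ofNat 2, .ofNat 4, .ofNat 3, .ofNat 2, .ofNat 1], [.ofNat 1, .ofNat 2, .ofNat 3, .ofNat 4, .ofNat 3, .ofNat 2, .ofNat 1], [.ofNat 2, .ofNat 2, .ofNat 3, .ofNat 4, .ofNat 3, .ofNat 2, .ofNat 1]]
  GR := [[.negSucc 0, .ofNat 0, .ofNat 0, .ofNat 0, .ofNat 0, .ofNat 0, .ofNat 0], [.ofNat 1, .ofNat 0, .negSucc 0, .ofNat 0, .ofNat 0, .ofNat 0, .ofNat 0], [.ofNat 0, .ofNat 0, .ofNat 1, .negSucc 0, .ofNat 0, .ofNat 0, .ofNat 0], [.ofNat 0, .negSucc 0, .ofNat 0, .ofNat 1, .negSucc 0, .ofNat 0, .ofNat 0], [.ofNat 0, .negSucc 0, .ofNat 0, .ofNat 0, .ofNat 1, .negSucc 0, .ofNat 0], [.ofNat 0, .negSucc 0, .ofNat 0, .ofNat 0, .ofNat 0, .ofNat 1, .negSucc 0], [.ofNat 0, .negSucc 0, .ofNat 0, .ofNat 0, .ofNat 0, .ofNat 0, .ofNat 1], [.ofNat 0, .ofNat 1, .ofNat 0, .ofNat 0, .negSucc 0, .ofNat 0, .ofNat 0], [.ofNat 0, .ofNat 1, .ofNat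 0, .negSucc 0, .ofNat 1, .negSucc 0, .ofNat 0], [.ofNat 0, .ofNat 1, .ofNat 0, .negSucc 0, .ofNat 0, .ofNat 1, .negSucc 0], [.ofNat 0, .ofNat 1, .ofNat 0, .negSucc 0, .ofNat 0, .ofNat 0, .ofNat 1], [.ofNat 0, .ofNat 0, .negSucc 0, .ofNat 1, .ofNat 0, .negSucc 0, .ofNat 0], [.ofNat 0, .ofNat 0, .negSucc 0, .ofNat 1, .negSucc 0, .ofNat 1, .negSucc 0], [.ofNat 0, .ofNat 0, .negSucc 0, .ofNat 1, .negSucc 0, .ofNat 0, .ofNat 1], [.ofNat 0, .ofNat 0, .negSucc 0, .ofNat 0, .ofNat 1, .ofNat 0, .negSucc 0], [.ofNat 0, .ofNat 0, .negSucc 0, .ofNat 0, .ofNat 1, .negSucc 0, .ofNat 1], [.ofNat 0, .ofNat 0, .negSucc 0, .ofNat 0, .ofNat 0, .ofNat 1, .ofNat 0], [.negSucc 0, .ofNat 0, .ofNat 1, .ofNat 0, .ofNat 0, .negSucc 0, .ofNat 0], [.negSucc 0, .ofNat 0, .ofNat 1, .ofNat 0, .negSucc 0, .ofNat 1, .negSucc 0], [.negSucc 0, .ofNat 0, .ofNat 1, .ofNat 0, .negSucc 0, .ofNat 0, .ofNat 1], [.negSucc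 0, .ofNat 0, .ofNat 1, .negSucc 0, .ofNat 1, .ofNat 0, .negSucc 0], [.negSucc 0, .ofNat 0, .ofNat 1, .negSucc 0, .ofNat 1, .negSucc 0, .ofNat 1], [.negSucc 0, .ofNat 0, .ofNat 1, .negSucc 0, .ofNat 0, .ofNat 1, .ofNat 0], [.negSucc 0, .negSucc 0, .ofNat 0, .ofNat 1, .ofNat 0, .ofNat 0, .negSucc 0], [.negSucc 0, .negSucc 0, .ofNat 0, .ofNat 1, .ofNat 0, .negSucc 0, .ofNat 1], [.negSucc 0, .negSucc 0, .ofNat 0, .ofNat 1, .negSucc 0, .ofNat 1, .ofNat 0], [.negSucc 0, .negSucc 0, .ofNat 0, .ofNat 0, .ofNat 1, .ofNat 0, .ofNat 0], [.negSucc 0, .ofNat 1, .ofNat 0, .ofNat 0, .ofNat 0, .ofNat 0, .negSucc 0], [.negSucc 0, .ofNat 1, .ofNat 0, .ofNat 0, .ofNat 0, .negSucc 0, .ofNat 1], [.negSucc 0, .ofNat 1, .ofNat 0, .ofNat 0, .negSucc 0, .ofNat 1, .ofNat 0], [.negSucc 0, .ofNat 1, .ofNat 0, .negSucc 0, .ofNat 1, .ofNat 0, .ofNat 0], [.negSucc 0, .ofNat 0, .negSucc 0, .ofNat 1, .ofNat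 0, .ofNat 0, .ofNat 0], [.negSucc 1, .ofNat 0, .ofNat 1, .ofNat 0, .ofNat 0, .ofNat 0, .ofNat 0], [.ofNat 1, .ofNat 0, .ofNat 0, .ofNat 0, .ofNat 0, .negSucc 0, .ofNat 0], [.ofNat 1, .ofNat 0, .ofNat 0, .ofNat 0, .negSucc 0, .ofNat 1, .negSucc 0], [.ofNat 1, .ofNat 0, .ofNat 0, .ofNat 0, .negSucc 0, .ofNat 0, .ofNat 1], [.ofNat 1, .ofNat 0, .ofNat 0, .negSucc 0, .ofNat 1, .ofNat 0, .negSucc 0], [.ofNat 1, .ofNat 0, .ofNat 0, .negSucc 0, .ofNat 1, .negSucc 0, .ofNat 1], [.ofNat 1, .ofNat 0, .ofNat 0, .negSucc 0, .ofNat 0, .ofNat 1, .ofNat 0], [.ofNat 1, .negSucc 0, .negSucc 0, .ofNat 1, .ofNat 0, .ofNat 0, .negSucc 0], [.ofNat 1, .negSucc 0, .negSucc 0, .ofNat 1, .ofNat 0, .negSucc 0, .ofNat 1], [.ofNat 1, .negSucc 0, .negSucc 0, .ofNat 1, .negSucc 0, .ofNat 1, .ofNat 0], [.ofNat 1, .negSucc 0, .negSucc 0, .ofNat 0, .ofNat 1, .ofNat 0, .ofNat 0], [.ofNat 0, .negSucc 0, .ofNat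 1, .ofNat 0, .ofNat 0, .ofNat 0, .negSucc 0], [.ofNat 0, .negSucc 0, .ofNat 1, .ofNat 0, .ofNat 0, .negSucc 0, .ofNat 1], [.ofNat 0, .negSucc 0, .ofNat 1, .ofNat 0, .negSucc 0, .ofNat 1, .ofNat 0], [.ofNat 0, .negSucc 0, .ofNat 1, .negSucc 0, .ofNat 1, .ofNat 0, .ofNat 0], [.ofNat 0, .negSucc 1, .ofNat 0, .ofNat 1, .ofNat 0, .ofNat 0, .ofNat 0], [.ofNat 1, .ofNat 1, .negSucc 0, .ofNat 0, .ofNat 0, .ofNat 0, .negSucc 0], [.ofNat 1, .ofNat 1, .negSucc 0, .ofNat 0, .ofNat 0, .negSucc 0, .ofNat 1], [.ofNat 1, .ofNat 1, .negSucc 0, .ofNat 0, .negSucc 0, .ofNat 1, .ofNat 0], [.ofNat 1, .ofNat 1, .negSucc 0, .negSucc 0, .ofNat 1, .ofNat 0, .ofNat 0], [.ofNat 1, .ofNat 0, .negSucc 1, .ofNat 1, .ofNat 0, .ofNat 0, .ofNat 0], [.ofNat 0, .ofNat 1, .ofNat 1, .negSucc 0, .ofNat 0, .ofNat 0, .negSucc 0], [.ofNat 0, .ofNat 1, .ofNat 1, .negSucc 0, .ofNat 0, .negSucc 0, .ofNat 1], [.ofNat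 0, .ofNat 1, .ofNat 1, .negSucc 0, .negSucc 0, .ofNat 1, .ofNat 0], [.ofNat 0, .ofNat 1, .ofNat 1, .negSucc 1, .ofNat 1, .ofNat 0, .ofNat 0], [.ofNat 0, .ofNat 0, .ofNat 0, .ofNat 1, .negSucc 0, .ofNat 0, .negSucc 0], [.ofNat 0, .ofNat 0, .ofNat 0, .ofNat 1, .negSucc 0, .negSucc 0, .ofNat 1], [.ofNat 0, .ofNat 0, .ofNat 0, .ofNat 1, .negSucc 1, .ofNat 1, .ofNat 0], [.ofNat 0, .ofNat 0, .ofNat 0, .ofNat 0, .ofNat 1, .negSucc 0, .negSucc 0], [.ofNat 0, .ofNat 0, .ofNat 0, .ofNat 0, .ofNat 1, .negSucc 1, .ofNat 1], [.ofNat 0, .ofNat 0, .ofNat 0, .ofNat 0, .ofNat 0, .ofNat 1, .negSucc 1], [.ofNat 0, .ofNat 0, .ofNat 0, .ofNat 0, .ofNat 0, .negSucc 0, .ofNat 2], [.ofNat 0, .ofNat 0, .ofNat 0, .ofNat 0, .negSucc 0, .ofNat 2, .negSucc 0], [.ofNat 0, .ofNat 0, .ofNat 0, .ofNat 0, .negSucc 0, .ofNat 1, .ofNat 1], [.ofNat 0, .ofNat 0, .ofNat 0, .negSucc 0, .ofNat 2, .negSucc 0, .ofNat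 0], [.ofNat 0, .ofNat 0, .ofNat 0, .negSucc 0, .ofNat 1, .ofNat 1, .negSucc 0], [.ofNat 0, .ofNat 0, .ofNat 0, .negSucc 0, .ofNat 1, .ofNat 0, .ofNat 1], [.ofNat 0, .negSucc 0, .negSucc 0, .ofNat 2, .negSucc 0, .ofNat 0, .ofNat 0], [.ofNat 0, .negSucc 0, .negSucc 0, .ofNat 1, .ofNat 1, .negSucc 0, .ofNat 0], [.ofNat 0, .negSucc 0, .negSucc 0, .ofNat 1, .ofNat 0, .ofNat 1, .negSucc 0], [.ofNat 0, .negSucc 0, .negSucc 0, .ofNat 1, .ofNat 0, .ofNat 0, .ofNat 1], [.negSucc 0, .ofNat 0, .ofNat 2, .negSucc 0, .ofNat 0, .ofNat 0, .ofNat 0], [.negSucc 0, .negSucc 0, .ofNat 1, .ofNat 1, .negSucc 0, .ofNat 0, .ofNat 0], [.negSucc 0, .negSucc 0, .ofNat 1, .ofNat 0, .ofNat 1, .negSucc 0, .ofNat 0], [.negSucc 0, .negSucc 0, .ofNat 1, .ofNat 0, .ofNat 0, .ofNat 1, .negSucc 0], [.negSucc 0, .negSucc 0, .ofNat 1, .ofNat 0, .ofNat 0, .ofNat 0, .ofNat 1], [.ofNat 0, .ofNat 2, .ofNat 0, .negSucc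 0, .ofNat 0, .ofNat 0, .ofNat 0], [.ofNat 0, .ofNat 1, .negSucc 0, .ofNat 1, .negSucc 0, .ofNat 0, .ofNat 0], [.ofNat 0, .ofNat 1, .negSucc 0, .ofNat 0, .ofNat 1, .negSucc 0, .ofNat 0], [.ofNat 0, .ofNat 1, .negSucc 0, .ofNat 0, .ofNat 0, .ofNat 1, .negSucc 0], [.ofNat 0, .ofNat 1, .negSucc 0, .ofNat 0, .ofNat 0, .ofNat 0, .ofNat 1], [.negSucc 0, .ofNat 1, .ofNat 1, .ofNat 0, .negSucc 0, .ofNat 0, .ofNat 0], [.negSucc 0, .ofNat 1, .ofNat 1, .negSucc 0, .ofNat 1, .negSucc 0, .ofNat 0], [.negSucc 0, .ofNat 1, .ofNat 1, .negSucc 0, .ofNat 0, .ofNat 1, .negSucc 0], [.negSucc 0, .ofNat 1, .ofNat 1, .negSucc 0, .ofNat 0, .ofNat 0, .ofNat 1], [.negSucc 0, .ofNat 0, .ofNat 0, .ofNat 1, .ofNat 0, .negSucc 0, .ofNat 0], [.negSucc 0, .ofNat 0, .ofNat 0, .ofNat 1, .negSucc 0, .ofNat 1, .negSucc 0], [.negSucc 0, .ofNat 0, .ofNat 0, .ofNat 1, .negSucc 0, .ofNat 0, .ofNat 1], [.negSucc 0,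 .ofNat 0, .ofNat 0, .ofNat 0, .ofNat 1, .ofNat 0, .negSucc 0], [.negSucc 0, .ofNat 0, .ofNat 0, .ofNat 0, .ofNat 1, .negSucc 0, .ofNat 1], [.negSucc 0, .ofNat 0, .ofNat 0, .ofNat 0, .ofNat 0, .ofNat 1, .ofNat 0], [.ofNat 2, .ofNat 0, .negSucc 0, .ofNat 0, .ofNat 0, .ofNat 0, .ofNat 0], [.ofNat 1, .ofNat 0, .ofNat 1, .negSucc 0, .ofNat 0, .ofNat 0, .ofNat 0], [.ofNat 1, .negSucc 0, .ofNat 0, .ofNat 1, .negSucc 0, .ofNat 0, .ofNat 0], [.ofNat 1, .negSucc 0, .ofNat 0, .ofNat 0, .ofNat 1, .negSucc 0, .ofNat 0], [.ofNat 1, .negSucc 0, .ofNat 0, .ofNat 0, .ofNat 0, .ofNat 1, .negSucc 0], [.ofNat 1, .negSucc 0, .ofNat 0, .ofNat 0, .ofNat 0, .ofNat 0, .ofNat 1], [.ofNat 1, .ofNat 1, .ofNat 0, .ofNat 0, .negSucc 0, .ofNat 0, .ofNat 0], [.ofNat 1, .ofNat 1, .ofNat 0, .negSucc 0, .ofNat 1, .negSucc 0, .ofNat 0], [.ofNat 1, .ofNat 1, .ofNat 0, .negSucc 0, .ofNat 0, .ofNat 1, .negSucc 0],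 [.ofNat 1, .ofNat 1, .ofNat 0, .negSucc 0, .ofNat 0, .ofNat 0, .ofNat 1], [.ofNat 1, .ofNat 0, .negSucc 0, .ofNat 1, .ofNat 0, .negSucc 0, .ofNat 0], [.ofNat 1, .ofNat 0, .negSucc 0, .ofNat 1, .negSucc 0, .ofNat 1, .negSucc 0], [.ofNat 1, .ofNat 0, .negSucc 0, .ofNat 1, .negSucc 0, .ofNat 0, .ofNat 1], [.ofNat 1, .ofNat 0, .negSucc 0, .ofNat 0, .ofNat 1, .ofNat 0, .negSucc 0], [.ofNat 1, .ofNat 0, .negSucc 0, .ofNat 0, .ofNat 1, .negSucc 0, .ofNat 1], [.ofNat 1, .ofNat 0, .negSucc 0, .ofNat 0, .ofNat 0, .ofNat 1, .ofNat 0], [.ofNat 0, .ofNat 0, .ofNat 1, .ofNat 0, .ofNat 0, .negSucc 0, .ofNat 0], [.ofNat 0, .ofNat 0, .ofNat 1, .ofNat 0, .negSucc 0, .ofNat 1, .negSucc 0], [.ofNat 0, .ofNat 0, .ofNat 1, .ofNat 0, .negSucc 0, .ofNat 0, .ofNat 1], [.ofNat 0, .ofNat 0, .ofNat 1, .negSucc 0, .ofNat 1, .ofNat 0, .negSucc 0], [.ofNat 0, .ofNat 0, .ofNat 1, .negSucc 0, .ofNat 1, .negSucc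 0, .ofNat 1], [.ofNat 0, .ofNat 0, .ofNat 1, .negSucc 0, .ofNat 0, .ofNat 1, .ofNat 0], [.ofNat 0, .negSucc 0, .ofNat 0, .ofNat 1, .ofNat 0, .ofNat 0, .negSucc 0], [.ofNat 0, .negSucc 0, .ofNat 0, .ofNat 1, .ofNat 0, .negSucc 0, .ofNat 1], [.ofNat 0, .negSucc 0, .ofNat 0, .ofNat 1, .negSucc 0, .ofNat 1, .ofNat 0], [.ofNat 0, .negSucc 0, .ofNat 0, .ofNat 0, .ofNat 1, .ofNat 0, .ofNat 0], [.ofNat 0, .ofNat 1, .ofNat 0, .ofNat 0, .ofNat 0, .ofNat 0, .negSucc 0], [.ofNat 0, .ofNat 1, .ofNat 0, .ofNat 0, .ofNat 0, .negSucc 0, .ofNat 1], [.ofNat 0, .ofNat 1, .ofNat 0, .ofNat 0, .negSucc 0, .ofNat 1, .ofNat 0], [.ofNat 0, .ofNat 1, .ofNat 0, .negSucc 0, .ofNat 1, .ofNat 0, .ofNat 0], [.ofNat 0, .ofNat 0, .negSucc 0, .ofNat 1, .ofNat 0, .ofNat 0, .ofNat 0], [.negSucc 0, .ofNat 0, .ofNat 1, .ofNat 0, .ofNat 0, .ofNat 0, .ofNat 0], [.ofNat 1, .ofNat 0, .ofNat 0, .ofNat 0, .ofNat 0, .ofNat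 0, .ofNat 0]]
  TT := 0x7fffffff800000001ffffffffffffffe000000000000000080000000007c1ff80007fff40001fffc007c1ffffe0f800fffe000000000001000008000781e1f801f81fec007e07fa0787c1ffe0f87817f81f80000000002000010803802ee380e38e3dc038e38f6388bbc3f0f74471bc71c7000000000400002110c00376c816cb25bc05b2c96ec9137b8c77b224dda4d368000000008000042250003bb501b55497c06d5525f5222f761bbd112be92aad80000000100000844a0003dda01da690fc0769a43fa441eed2dde0897f0965b8000000020002300003b9c0038e038fc3c380e3f0e3f70623f1183bf1c3f1c0700000004000450010c5ac00c960cb3a5c5832ce96cee8a58c6945dcda5cd3068000000800089002506b40151a155569c685555a755d92961a526eab96aaa858000001000111004a073801a1c1a68f1c7069a3c7a3ba30d2c3177178f1658380000020002060180d84c060a660bc66c9982f19af1e4d84c86c9e3d663d066400000400040a028528540a12aa15aaacaa856aab6ad554a14aaad5b555a8554000008000812048a30580c22cc26732cb3099ccb9cb64d122c9b4e74ce6433400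001000100c03314064124332466ccccc919b339b4d9312326cb67336624cc0000200020140552806814835485b54cd5216d536d2e8aa1545d2db2ada12ac000040004018066c007019039903d98ce640f662f61f064c983e1bd19bc099c0000800002603800d980600c66f0267519bc099cf61f064c983e1bce640f6620001000004a058052a80a014ab684ab52ada12ad6d2e8aa1545d2dad5216d52000200000920980a3300c024cd989335336624cd9b4d9312326cb66cc919b320004000010c068314481204533990cd54ce643359cb64d122c9b4e6b3099cca000800002140a85285014085556a1555555a85556ad554a14aaad5aaa856aaa001000004180c86c0601810598f41995663d0664f1e4d84c86c9e3c9982f19a0020000016007381480222063c5960e58f165839a3ba30d2c3177167069a3c6004000002a00b582900244065aaaa16596aaa85955d92961a526eaa685555a6008000004c00d68c200288069734c1a5a5cd3068cee8a58c6945dcc5832ce96010000007000e770000310070fc701c5c3f1c0703f70623f1183bf0380e3f0e0200000016ef000148840007c2596e05f0965b81a441eed2dde08960769a43e040000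002b77000291080007a4aab605e92aad815222f761bbd112a06d5525e080000004dbb000c221000076934da05da4d3680c9137b8c77b224c05b2c96e1000000071dd007004200006f1c71c05bc71c700388bbc3f0f74470038e38f6200000007e1e078000400005fe07e0057f81f8000787c1ffe0f8780007e07fa400000007fe0f80000000003fff80004fffe0000007c1ffffe0f8000001fffc0000826780000000d98c66f00008267a19bcf660099ce64c99ce64019bcf661000104ab800000052a94ab6800104aba2adb6d5012ad6aa155ad5202adb6d51000209338000000a3318cd980020933a33679b3024ce7312339cc9033679b31000410cd8000003144a5339800410cda4ce79cc84335ad122d6b3084ce79cc90008215580000052852955680082155a555b6aa88556b4a14b5aa84555b6aa9001041998000006c063198f00104199a663cf1990667384c8739982663cf1990020160e8000038148463c58020160ea8f17a3c45839d0d2c2e70688f17a3c500402a1680000582904a5aa80402a16a96ab55a4a85ac961a4d685496ab55a500804c1a8000068c205297300804c1aaa5ccce95306b458c68b5832a5ccce950100701c80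00077000630fc0100701cac3f03f0dc073823f107380ec3f03f0d0025800f000078014883c258025800f30f685bc25b820ed2dc107690f685bc3004a80170000b8029103a4a804a8017316d4ada2ad811761ba206d516d4ada30093001b0000d80c22036930093001b325b3369336809b8c76405b325b33693011c001d0000e8700402f1c011c001d3438fc70bc7005c3f0e8038f438fc70b01e0001e0000f7800001fe001e0001e3807ff807f80021ffe10007f807ff807020016e0800f000148f8025820016e0af097a43c5bc00ed2dc00f68f097a43d04002b6080170002917404a84002b60ae92b525cada01761ba016d4e92b525d08004da0801b000c226c09308004da0ada4cc96d36901b8c76025b2da4cc96d100071c0801d0070045c11c100071c0abc7038f5c7081c3f0e0438ebc7038f520007e00801e0780003c1e020007e00a7f8007f9f80401ffe00807e7f8007f9020580e100e108014f04205820580e1370e85c3a5c39c0d2c0e70e970e85c3b040a816101610802968840a840a816136954aa5aaa5ac161a0d69556954aa5b081301a101a1080c2590813081301a135a33316b316b418c60b5a335a33316b101c01c101c108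7003a101c101c01c133c0fc0f3c0f3803f0073c0f3c0fc0f302218622062210817084221822186223b31863366335ac120d6b319b318633704428a220a221082a90844284428a223aaa495569556b4210b5aaa5aaa4955708830c220c22108c1a1088308830c22399c30e670e67380c07399c399c30e6702249244124421118884224822492443d52492ae92ad6a8055ad525d52492af0448a2442244211251084488448a2443cc9864ce64ce7300339cc99cc9864cf02251488148842244884225022514883e643099f099ce64099ce643e643099f044a291029108448910844a044a29103e643099f099ce64099ce643e643099f08914488448842292210891089144883cc9864ce64ce7300339cc99cc9864cf08924910491084462210892089249103d52492ae92ad6a8055ad525d52492af110c304430442160c42110c110c3044399c30e670e67380c07399c399c30e6711145088508842550421114111450883aaa495569556b4210b5aaa5aaa49557111861106110843a0421118111861103b31863366335ac120d6b319b318633720e00e020e02170038420e020e00e0233c0fc0f3c0f3803f0073c0f3c0fc0f32160320432042690c0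421602160320435a33316b316b418c60b5a335a33316b21a05408540845a500421a021a0540836954aa5aaa5ac161a0d69556954aa5b21c06810681083ca00421c021c06810370e85c3a5c39c0d2c0e70e970e85c3b401f800101e0f0000781e00401f800127f8007f9f80401ffe00807e7f8007f940e380020e20e8803802e0040e380022bc7038f5c7081c3f0e0438ebc7038f5416c80043240d910c003600416c80042da4cc96d36901b8c76025b2da4cc96d41b500085480ba250003a0041b500082e92b525cada01761ba016d4e92b525d41da001069007c4a0003c0041da00102f097a43c5bc00ed2dc00f68f097a43d1e0001e001fe000007bc0001e0001e03807ff807f80021ffe10007f807ff8072e000e200e3d0080385c0002e000e203438fc70bc7005c3f0e8038f438fc70b36003240325b0110c06c00036003240325b3369336809b8c76405b325b336933a0054805497022500740003a005480316d4ada2ad811761ba206d516d4ada33c006900690f044a00780003c00690030f685bc25b820ed2dc107690f685bc34e0380200fc318003b800004e0380202c3f03f0dc073823f107380ec3f03f0d560c804033a52810c58000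0560c80402a5ccce95306b458c68b5832a5ccce955a1500805569482506800005a150080296ab55a4a85ac961a4d685496ab55a55c1a010068f1884a07000005c1a010028f17a3c45839d0d2c2e70688f17a3c5666082003c663180d800000666082002663cf1990667384c8739982663cf1996aa104005aaa528528000006aa104002555b6aa88556b4a14b5aa84555b6aa96cc208006732948a30000006cc2080024ce79cc84335ad122d6b3084ce79cc97324100066cc6331400000073241000233679b3024ce7312339cc9033679b31754820005b54a55280000007548200022adb6d5012ad6aa155ad5202adb6d51799040003d98c66c000000079904000219bcf660099ce64c99ce64019bcf66180007fff00000000007c1ff800000008fffe0000007c1ffffe0f8000001fffc801f81fe800008000781e1f8000000117f81f8000787c1ffe0f8780007e07fa80e38e3d800010803802ee3800000021bc71c700388bbc3f0f74470038e38f6816cb25b80002110c00376c800000041da4d3680c9137b8c77b224c05b2c96e81b55497800042250003bb5000000081e92aad815222f761bbd112a06d5525e81da690f8000844a0003dda000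000101f0965b81a441eed2dde08960769a43e8e038fc3802300003b9c003800000201c3f1c0703f70623f1183bf0380e3f0e960cb3a580450010c5ac00c800000401a5cd3068cee8a58c6945dcc5832ce969a1555698089002506b401500000080196aaa85955d92961a526eaa685555a69c1a68f18111004a073801a0000010018f165839a3ba30d2c3177167069a3c6a660bc6682060180d84c060800002001663d0664f1e4d84c86c9e3c9982f19aaaa15aaa840a028528540a1000004001555a85556ad554a14aaad5aaa856aaaacc267328812048a30580c20000080014ce643359cb64d122c9b4e6b3099ccab32466cc900c03314064124000010001336624cd9b4d9312326cb66cc919b32b5485b54a014055280681480000200012ada12ad6d2e8aa1545d2dad5216d52b9903d98c018066c007019000004000119bc099cf61f064c983e1bce640f662c66f026702603800d980600800080000e640f662f61f064c983e1bd19bc099ccab684ab04a058052a80a01000100000d5216d536d2e8aa1545d2db2ada12acccd989330920980a3300c02000200000cc919b339b4d9312326cb67336624ccd33990cd10c0683144812040004000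00b3099ccb9cb64d122c9b4e74ce64334d556a1552140a8528501408000800000aa856aab6ad554a14aaad5b555a8554d98f41994180c86c06018100010000009982f19af1e4d84c86c9e3d663d0664e3c5960e1600738148022200020000007069a3c7a3ba30d2c3177178f165838e5aaaa162a00b5829002440004000000685555a755d92961a526eab96aaa858e9734c1a4c00d68c20028800080000005832ce96cee8a58c6945dcda5cd3068f0fc701c7000e7700003100010000000380e3f0e3f70623f1183bf1c3f1c070fc2596e016ef000148840000200000000769a43fa441eed2dde0897f0965b80fa4aab602b770002910800004000000006d5525f5222f761bbd112be92aad80f6934da04dbb000c221000008000000005b2c96ec9137b8c77b224dda4d3680ef1c71c071dd00700420000100000000038e38f6388bbc3f0f74471bc71c700dfe07e007e1e07800040000200000000007e07fa0787c1ffe0f87817f81f800bfff80007fe0f80000000004000000000001fffc007c1ffffe0f800fffe00007fffffff80000000000000000000000000000001ffffffffffffffe00000000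

/-- the tables of type E8 -/
def sE8 : Sys where
  n := 240
  k := 2
  G := [[.ofNat 2, .ofNat 0, .negSucc 0, .ofNat 0, .ofNat 0, .ofNat 0, .ofNat 0, .ofNat 0], [.ofNat 0, .ofNat 2, .ofNat 0, .negSucc 0, .ofNat 0, .ofNat 0, .ofNat 0, .ofNat 0], [.negSucc 0, .ofNat 0, .ofNat 2, .negSucc 0, .ofNat 0, .ofNat 0, .ofNat 0, .ofNat 0], [.ofNat 0, .negSucc 0, .negSucc 0, .ofNat 2, .negSucc 0, .ofNat 0, .ofNat 0, .ofNat 0], [.ofNat 0, .ofNat 0, .ofNat 0, .negSucc 0, .ofNat 2, .negSucc 0, .ofNat 0, .ofNat 0], [.ofNat 0, .ofNat 0, .ofNat 0, .ofNat 0, .negSucc 0, .ofNat 2, .negSucc 0, .ofNat 0], [.ofNat 0, .ofNat 0, .ofNat 0, .ofNat 0, .ofNat 0, .negSucc 0, .ofNat 2, .negSucc 0], [.ofNat 0, .ofNat 0, .ofNat 0, .ofNat 0, .ofNat 0, .ofNat 0, .negSucc 0, .ofNat 2]]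
  css := [[], [0], [0, 1], [1, 1, 0], [1, 0, 0, 0], [1, 0, 0, 0, 0], [1, 0, 0, 0, 0, 0], [1, 0, 0, 0, 0, 0, 0]]
  NM := [0xffffffffffffffffffffffffffffffffffffffffffffffffffffffffffff, 0xffffffffffffffffffffffffffffffffffffffffffffffffffffffffffff, 0xffffffffffffffffffffffffffffffffffffffffffffffffffffffffffff, 0xffffffffffffffffffffffffffffffffffffffffffffffffffffffffffff, 0xffffffffffffffffffffffffffffffffffffffffffffffffffffffffffff, 0xffffffffffffffffffffffffffffffffffffffffffffffffffffffffffff, 0xffffffffffffffffffffffffffffffffffffffffffffffffffffffffffff, 0xffffffffffffffffffffffffffffffffffffffffffffffffffffffffffff]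
  RL := [[.negSucc 1, .negSucc 2, .negSucc 3, .negSucc 5, .negSucc 4, .negSucc 3, .negSucc 2, .negSucc 1], [.negSucc 1, .negSucc 2, .negSucc 3, .negSucc 5, .negSucc 4, .negSucc 3, .negSucc 2, .negSucc 0], [.negSucc 1, .negSucc 2, .negSucc 3, .negSucc 5, .negSucc 4, .negSucc 3, .negSucc 1, .negSucc 0], [.negSucc 1, .negSucc 2, .negSucc 3, .negSucc 5, .negSucc 4, .negSucc 2, .negSucc 1, .negSucc 0], [.negSucc 1, .negSucc 2, .negSucc 3, .negSucc 5, .negSucc 3, .negSucc 2, .negSucc 1, .negSucc 0], [.negSucc 1, .negSucc 2, .negSucc 3, .negSucc 4, .negSucc 3, .negSucc 2, .negSucc 1, .negSucc 0], [.negSucc 1, .negSucc 2, .negSucc 2, .negSucc 4, .negSucc 3, .negSucc 2, .negSucc 1, .negSucc 0], [.negSucc 1, .negSucc 1, .negSucc 3, .negSucc 4, .negSucc 3, .negSucc 2, .negSucc 1, .negSucc 0], [.negSucc 1, .negSucc 1, .negSucc 2, .negSucc 4, .negSucc 3, .negSucc 2, .negSucc 1, .negSucc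 0], [.negSucc 1, .negSucc 1, .negSucc 2, .negSucc 3, .negSucc 3, .negSucc 2, .negSucc 1, .negSucc 0], [.negSucc 1, .negSucc 1, .negSucc 2, .negSucc 3, .negSucc 2, .negSucc 2, .negSucc 1, .negSucc 0], [.negSucc 1, .negSucc 1, .negSucc 2, .negSucc 3, .negSucc 2, .negSucc 1, .negSucc 1, .negSucc 0], [.negSucc 1, .negSucc 1, .negSucc 2, .negSucc 3, .negSucc 2, .negSucc 1, .negSucc 0, .negSucc 0], [.negSucc 1, .negSucc 1, .negSucc 2, .negSucc 3, .negSucc 2, .negSucc 1, .negSucc 0, .ofNat 0], [.negSucc 0, .negSucc 2, .negSucc 2, .negSucc 4, .negSucc 3, .negSucc 2, .negSucc 1, .negSucc 0], [.negSucc 0, .negSucc 1, .negSucc 2, .negSucc 4, .negSucc 3, .negSucc 2, .negSucc 1, .negSucc 0], [.negSucc 0, .negSucc 1, .negSucc 2, .negSucc 3, .negSucc 3, .negSucc 2, .negSucc 1, .negSucc 0], [.negSucc 0, .negSucc 1, .negSucc 2, .negSucc 3, .negSucc 2, .negSucc 2, .negSucc 1, .negSucc 0], [.negSucc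 0, .negSucc 1, .negSucc 2, .negSucc 3, .negSucc 2, .negSucc 1, .negSucc 1, .negSucc 0], [.negSucc 0, .negSucc 1, .negSucc 2, .negSucc 3, .negSucc 2, .negSucc 1, .negSucc 0, .negSucc 0], [.negSucc 0, .negSucc 1, .negSucc 2, .negSucc 3, .negSucc 2, .negSucc 1, .negSucc 0, .ofNat 0], [.negSucc 0, .negSucc 1, .negSucc 1, .negSucc 3, .negSucc 3, .negSucc 2, .negSucc 1, .negSucc 0], [.negSucc 0, .negSucc 1, .negSucc 1, .negSucc 3, .negSucc 2, .negSucc 2, .negSucc 1, .negSucc 0], [.negSucc 0, .negSucc 1, .negSucc 1, .negSucc 3, .negSucc 2, .negSucc 1, .negSucc 1, .negSucc 0], [.negSucc 0, .negSucc 1, .negSucc 1, .negSucc 3, .negSucc 2, .negSucc 1, .negSucc 0, .negSucc 0], [.negSucc 0, .negSucc 1, .negSucc 1, .negSucc 3, .negSucc 2, .negSucc 1, .negSucc 0, .ofNat 0], [.negSucc 0, .negSucc 1, .negSucc 1, .negSucc 2, .negSucc 2, .negSucc 2, .negSucc 1, .negSucc 0], [.negSucc 0, .negSucc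 1, .negSucc 1, .negSucc 2, .negSucc 2, .negSucc 1, .negSucc 1, .negSucc 0], [.negSucc 0, .negSucc 1, .negSucc 1, .negSucc 2, .negSucc 2, .negSucc 1, .negSucc 0, .negSucc 0], [.negSucc 0, .negSucc 1, .negSucc 1, .negSucc 2, .negSucc 2, .negSucc 1, .negSucc 0, .ofNat 0], [.negSucc 0, .negSucc 1, .negSucc 1, .negSucc 2, .negSucc 1, .negSucc 1, .negSucc 1, .negSucc 0], [.negSucc 0, .negSucc 1, .negSucc 1, .negSucc 2, .negSucc 1, .negSucc 1, .negSucc 0, .negSucc 0], [.negSucc 0, .negSucc 1, .negSucc 1, .negSucc 2, .negSucc 1, .negSucc 1, .negSucc 0, .ofNat 0], [.negSucc 0, .negSucc 1, .negSucc 1, .negSucc 2, .negSucc 1, .negSucc 0, .negSucc 0, .negSucc 0], [.negSucc 0, .negSucc 1, .negSucc 1, .negSucc 2, .negSucc 1, .negSucc 0, .negSucc 0, .ofNat 0], [.negSucc 0, .negSucc 1, .negSucc 1, .negSucc 2, .negSucc 1, .negSucc 0, .ofNat 0, .ofNat 0], [.negSucc 0, .negSucc 0, .negSucc 1,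 .negSucc 2, .negSucc 2, .negSucc 2, .negSucc 1, .negSucc 0], [.negSucc 0, .negSucc 0, .negSucc 1, .negSucc 2, .negSucc 2, .negSucc 1, .negSucc 1, .negSucc 0], [.negSucc 0, .negSucc 0, .negSucc 1, .negSucc 2, .negSucc 2, .negSucc 1, .negSucc 0, .negSucc 0], [.negSucc 0, .negSucc 0, .negSucc 1, .negSucc 2, .negSucc 2, .negSucc 1, .negSucc 0, .ofNat 0], [.negSucc 0, .negSucc 0, .negSucc 1, .negSucc 2, .negSucc 1, .negSucc 1, .negSucc 1, .negSucc 0], [.negSucc 0, .negSucc 0, .negSucc 1, .negSucc 2, .negSucc 1, .negSucc 1, .negSucc 0, .negSucc 0], [.negSucc 0, .negSucc 0, .negSucc 1, .negSucc 2, .negSucc 1, .negSucc 1, .negSucc 0, .ofNat 0], [.negSucc 0, .negSucc 0, .negSucc 1, .negSucc 2, .negSucc 1, .negSucc 0, .negSucc 0, .negSucc 0], [.negSucc 0, .negSucc 0, .negSucc 1, .negSucc 2, .negSucc 1, .negSucc 0, .negSucc 0, .ofNat 0], [.negSucc 0, .negSucc 0, .negSucc 1, .negSucc 2,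 .negSucc 1, .negSucc 0, .ofNat 0, .ofNat 0], [.negSucc 0, .negSucc 0, .negSucc 1, .negSucc 1, .negSucc 1, .negSucc 1, .negSucc 1, .negSucc 0], [.negSucc 0, .negSucc 0, .negSucc 1, .negSucc 1, .negSucc 1, .negSucc 1, .negSucc 0, .negSucc 0], [.negSucc 0, .negSucc 0, .negSucc 1, .negSucc 1, .negSucc 1, .negSucc 1, .negSucc 0, .ofNat 0], [.negSucc 0, .negSucc 0, .negSucc 1, .negSucc 1, .negSucc 1, .negSucc 0, .negSucc 0, .negSucc 0], [.negSucc 0, .negSucc 0, .negSucc 1, .negSucc 1, .negSucc 1, .negSucc 0, .negSucc 0, .ofNat 0], [.negSucc 0, .negSucc 0, .negSucc 1, .negSucc 1, .negSucc 1, .negSucc 0, .ofNat 0, .ofNat 0], [.negSucc 0, .negSucc 0, .negSucc 1, .negSucc 1, .negSucc 0, .negSucc 0, .negSucc 0, .negSucc 0], [.negSucc 0, .negSucc 0, .negSucc 1, .negSucc 1, .negSucc 0, .negSucc 0, .negSucc 0, .ofNat 0], [.negSucc 0, .negSucc 0, .negSucc 1, .negSucc 1, .negSucc 0, .negSucc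 0, .ofNat 0, .ofNat 0], [.negSucc 0, .negSucc 0, .negSucc 1, .negSucc 1, .negSucc 0, .ofNat 0, .ofNat 0, .ofNat 0], [.negSucc 0, .negSucc 0, .negSucc 0, .negSucc 1, .negSucc 1, .negSucc 1, .negSucc 1, .negSucc 0], [.negSucc 0, .negSucc 0, .negSucc 0, .negSucc 1, .negSucc 1, .negSucc 1, .negSucc 0, .negSucc 0], [.negSucc 0, .negSucc 0, .negSucc 0, .negSucc 1, .negSucc 1, .negSucc 1, .negSucc 0, .ofNat 0], [.negSucc 0, .negSucc 0, .negSucc 0, .negSucc 1, .negSucc 1, .negSucc 0, .negSucc 0, .negSucc 0], [.negSucc 0, .negSucc 0, .negSucc 0, .negSucc 1, .negSucc 1, .negSucc 0, .negSucc 0, .ofNat 0], [.negSucc 0, .negSucc 0, .negSucc 0, .negSucc 1, .negSucc 1, .negSucc 0, .ofNat 0, .ofNat 0], [.negSucc 0, .negSucc 0, .negSucc 0, .negSucc 1, .negSucc 0, .negSucc 0, .negSucc 0, .negSucc 0], [.negSucc 0, .negSucc 0, .negSucc 0, .negSucc 1, .negSucc 0, .negSucc 0, .negSucc 0, .ofNat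 0], [.negSucc 0, .negSucc 0, .negSucc 0, .negSucc 1, .negSucc 0, .negSucc 0, .ofNat 0, .ofNat 0], [.negSucc 0, .negSucc 0, .negSucc 0, .negSucc 1, .negSucc 0, .ofNat 0, .ofNat 0, .ofNat 0], [.negSucc 0, .negSucc 0, .negSucc 0, .negSucc 0, .negSucc 0, .negSucc 0, .negSucc 0, .negSucc 0], [.negSucc 0, .negSucc 0, .negSucc 0, .negSucc 0, .negSucc 0, .negSucc 0, .negSucc 0, .ofNat 0], [.negSucc 0, .negSucc 0, .negSucc 0, .negSucc 0, .negSucc 0, .negSucc 0, .ofNat 0, .ofNat 0], [.negSucc 0, .negSucc 0, .negSucc 0, .negSucc 0, .negSucc 0, .ofNat 0, .ofNat 0, .ofNat 0], [.negSucc 0, .negSucc 0, .negSucc 0, .negSucc 0, .ofNat 0, .ofNat 0, .ofNat 0, .ofNat 0], [.negSucc 0, .ofNat 0, .negSucc 0, .negSucc 0, .negSucc 0, .negSucc 0, .negSucc 0, .negSucc 0], [.negSucc 0, .ofNat 0, .negSucc 0, .negSucc 0, .negSucc 0, .negSucc 0, .negSucc 0, .ofNat 0], [.negSucc 0, .ofNat 0, .negSucc 0, .negSucc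 0, .negSucc 0, .negSucc 0, .ofNat 0, .ofNat 0], [.negSucc 0, .ofNat 0, .negSucc 0, .negSucc 0, .negSucc 0, .ofNat 0, .ofNat 0, .ofNat 0], [.negSucc 0, .ofNat 0, .negSucc 0, .negSucc 0, .ofNat 0, .ofNat 0, .ofNat 0, .ofNat 0], [.negSucc 0, .ofNat 0, .negSucc 0, .ofNat 0, .ofNat 0, .ofNat 0, .ofNat 0, .ofNat 0], [.negSucc 0, .ofNat 0, .ofNat 0, .ofNat 0, .ofNat 0, .ofNat 0, .ofNat 0, .ofNat 0], [.ofNat 0, .negSucc 0, .negSucc 0, .negSucc 1, .negSucc 1, .negSucc 1, .negSucc 1, .negSucc 0], [.ofNat 0, .negSucc 0, .negSucc 0, .negSucc 1, .negSucc 1, .negSucc 1, .negSucc 0, .negSucc 0], [.ofNat 0, .negSucc 0, .negSucc 0, .negSucc 1, .negSucc 1, .negSucc 1, .negSucc 0, .ofNat 0], [.ofNat 0, .negSucc 0, .negSucc 0, .negSucc 1, .negSucc 1, .negSucc 0, .negSucc 0, .negSucc 0], [.ofNat 0, .negSucc 0, .negSucc 0, .negSucc 1, .negSucc 1, .negSucc 0, .negSucc 0, .ofNat 0], [.ofNat 0, .negSucc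 0, .negSucc 0, .negSucc 1, .negSucc 1, .negSucc 0, .ofNat 0, .ofNat 0], [.ofNat 0, .negSucc 0, .negSucc 0, .negSucc 1, .negSucc 0, .negSucc 0, .negSucc 0, .negSucc 0], [.ofNat 0, .negSucc 0, .negSucc 0, .negSucc 1, .negSucc 0, .negSucc 0, .negSucc 0, .ofNat 0], [.ofNat 0, .negSucc 0, .negSucc 0, .negSucc 1, .negSucc 0, .negSucc 0, .ofNat 0, .ofNat 0], [.ofNat 0, .negSucc 0, .negSucc 0, .negSucc 1, .negSucc 0, .ofNat 0, .ofNat 0, .ofNat 0], [.ofNat 0, .negSucc 0, .negSucc 0, .negSucc 0, .negSucc 0, .negSucc 0, .negSucc 0, .negSucc 0], [.ofNat 0, .negSucc 0, .negSucc 0, .negSucc 0, .negSucc 0, .negSucc 0, .negSucc 0, .ofNat 0], [.ofNat 0, .negSucc 0, .negSucc 0, .negSucc 0, .negSucc 0, .negSucc 0, .ofNat 0, .ofNat 0], [.ofNat 0, .negSucc 0, .negSucc 0, .negSucc 0, .negSucc 0, .ofNat 0, .ofNat 0, .ofNat 0], [.ofNat 0, .negSucc 0, .negSucc 0, .negSucc 0, .ofNat 0, .ofNat 0, .ofNat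 0, .ofNat 0], [.ofNat 0, .negSucc 0, .ofNat 0, .negSucc 0, .negSucc 0, .negSucc 0, .negSucc 0, .negSucc 0], [.ofNat 0, .negSucc 0, .ofNat 0, .negSucc 0, .negSucc 0, .negSucc 0, .negSucc 0, .ofNat 0], [.ofNat 0, .negSucc 0, .ofNat 0, .negSucc 0, .negSucc 0, .negSucc 0, .ofNat 0, .ofNat 0], [.ofNat 0, .negSucc 0, .ofNat 0, .negSucc 0, .negSucc 0, .ofNat 0, .ofNat 0, .ofNat 0], [.ofNat 0, .negSucc 0, .ofNat 0, .negSucc 0, .ofNat 0, .ofNat 0, .ofNat 0, .ofNat 0], [.ofNat 0, .negSucc 0, .ofNat 0, .ofNat 0, .ofNat 0, .ofNat 0, .ofNat 0, .ofNat 0], [.ofNat 0, .ofNat 0, .negSucc 0, .negSucc 0, .negSucc 0, .negSucc 0, .negSucc 0, .negSucc 0], [.ofNat 0, .ofNat 0, .negSucc 0, .negSucc 0, .negSucc 0, .negSucc 0, .negSucc 0, .ofNat 0], [.ofNat 0, .ofNat 0, .negSucc 0, .negSucc 0, .negSucc 0, .negSucc 0, .ofNat 0, .ofNat 0], [.ofNat 0, .ofNat 0, .negSucc 0, .negSucc 0, .negSucc 0, .ofNat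 0, .ofNat 0, .ofNat 0], [.ofNat 0, .ofNat 0, .negSucc 0, .negSucc 0, .ofNat 0, .ofNat 0, .ofNat 0, .ofNat 0], [.ofNat 0, .ofNat 0, .negSucc 0, .ofNat 0, .ofNat 0, .ofNat 0, .ofNat 0, .ofNat 0], [.ofNat 0, .ofNat 0, .ofNat 0, .negSucc 0, .negSucc 0, .negSucc 0, .negSucc 0, .negSucc 0], [.ofNat 0, .ofNat 0, .ofNat 0, .negSucc 0, .negSucc 0, .negSucc 0, .negSucc 0, .ofNat 0], [.ofNat 0, .ofNat 0, .ofNat 0, .negSucc 0, .negSucc 0, .negSucc 0, .ofNat 0, .ofNat 0], [.ofNat 0, .ofNat 0, .ofNat 0, .negSucc 0, .negSucc 0, .ofNat 0, .ofNat 0, .ofNat 0], [.ofNat 0, .ofNat 0, .ofNat 0, .negSucc 0, .ofNat 0, .ofNat 0, .ofNat 0, .ofNat 0], [.ofNat 0, .ofNat 0, .ofNat 0, .ofNat 0, .negSucc 0, .negSucc 0, .negSucc 0, .negSucc 0], [.ofNat 0, .ofNat 0, .ofNat 0, .ofNat 0, .negSucc 0, .negSucc 0, .negSucc 0, .ofNat 0], [.ofNat 0, .ofNat 0, .ofNat 0, .ofNat 0, .negSucc 0, .negSucc 0, .ofNat 0,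 .ofNat 0], [.ofNat 0, .ofNat 0, .ofNat 0, .ofNat 0, .negSucc 0, .ofNat 0, .ofNat 0, .ofNat 0], [.ofNat 0, .ofNat 0, .ofNat 0, .ofNat 0, .ofNat 0, .negSucc 0, .negSucc 0, .negSucc 0], [.ofNat 0, .ofNat 0, .ofNat 0, .ofNat 0, .ofNat 0, .negSucc 0, .negSucc 0, .ofNat 0], [.ofNat 0, .ofNat 0, .ofNat 0, .ofNat 0, .ofNat 0, .negSucc 0, .ofNat 0, .ofNat 0], [.ofNat 0, .ofNat 0, .ofNat 0, .ofNat 0, .ofNat 0, .ofNat 0, .negSucc 0, .negSucc 0], [.ofNat 0, .ofNat 0, .ofNat 0, .ofNat 0, .ofNat 0, .ofNat 0, .negSucc 0, .ofNat 0], [.ofNat 0, .ofNat 0, .ofNat 0, .ofNat 0, .ofNat 0, .ofNat 0, .ofNat 0, .negSucc 0], [.ofNat 0, .ofNat 0, .ofNat 0, .ofNat 0, .ofNat 0, .ofNat 0, .ofNat 0, .ofNat 1], [.ofNat 0, .ofNat 0, .ofNat 0, .ofNat 0, .ofNat 0, .ofNat 0, .ofNat 1, .ofNat 0], [.ofNat 0, .ofNat 0, .ofNat 0, .ofNat 0, .ofNat 0, .ofNat 0, .ofNat 1, .ofNat 1], [.ofNat 0, .ofNat 0, .ofNat 0, .ofNat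 0, .ofNat 0, .ofNat 1, .ofNat 0, .ofNat 0], [.ofNat 0, .ofNat 0, .ofNat 0, .ofNat 0, .ofNat 0, .ofNat 1, .ofNat 1, .ofNat 0], [.ofNat 0, .ofNat 0, .ofNat 0, .ofNat 0, .ofNat 0, .ofNat 1, .ofNat 1, .ofNat 1], [.ofNat 0, .ofNat 0, .ofNat 0, .ofNat 0, .ofNat 1, .ofNat 0, .ofNat 0, .ofNat 0], [.ofNat 0, .ofNat 0, .ofNat 0, .ofNat 0, .ofNat 1, .ofNat 1, .ofNat 0, .ofNat 0], [.ofNat 0, .ofNat 0, .ofNat 0, .ofNat 0, .ofNat 1, .ofNat 1, .ofNat 1, .ofNat 0], [.ofNat 0, .ofNat 0, .ofNat 0, .ofNat 0, .ofNat 1, .ofNat 1, .ofNat 1, .ofNat 1], [.ofNat 0, .ofNat 0, .ofNat 0, .ofNat 1, .ofNat 0, .ofNat 0, .ofNat 0, .ofNat 0], [.ofNat 0, .ofNat 0, .ofNat 0, .ofNat 1, .ofNat 1, .ofNat 0, .ofNat 0, .ofNat 0], [.ofNat 0, .ofNat 0, .ofNat 0, .ofNat 1, .ofNat 1, .ofNat 1, .ofNat 0, .ofNat 0], [.ofNat 0, .ofNat 0, .ofNat 0, .ofNat 1, .ofNat 1, .ofNat 1, .ofNat 1, .ofNat 0], [.ofNat 0, .ofNat 0, .ofNat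 0, .ofNat 1, .ofNat 1, .ofNat 1, .ofNat 1, .ofNat 1], [.ofNat 0, .ofNat 0, .ofNat 1, .ofNat 0, .ofNat 0, .ofNat 0, .ofNat 0, .ofNat 0], [.ofNat 0, .ofNat 0, .ofNat 1, .ofNat 1, .ofNat 0, .ofNat 0, .ofNat 0, .ofNat 0], [.ofNat 0, .ofNat 0, .ofNat 1, .ofNat 1, .ofNat 1, .ofNat 0, .ofNat 0, .ofNat 0], [.ofNat 0, .ofNat 0, .ofNat 1, .ofNat 1, .ofNat 1, .ofNat 1, .ofNat 0, .ofNat 0], [.ofNat 0, .ofNat 0, .ofNat 1, .ofNat 1, .ofNat 1, .ofNat 1, .ofNat 1, .ofNat 0], [.ofNat 0, .ofNat 0, .ofNat 1, .ofNat 1, .ofNat 1, .ofNat 1, .ofNat 1, .ofNat 1], [.ofNat 0, .ofNat 1, .ofNat 0, .ofNat 0, .ofNat 0, .ofNat 0, .ofNat 0, .ofNat 0], [.ofNat 0, .ofNat 1, .ofNat 0, .ofNat 1, .ofNat 0, .ofNat 0, .ofNat 0, .ofNat 0], [.ofNat 0, .ofNat 1, .ofNat 0, .ofNat 1, .ofNat 1, .ofNat 0, .ofNat 0, .ofNat 0], [.ofNat 0, .ofNat 1, .ofNat 0, .ofNat 1, .ofNat 1, .ofNat 1, .ofNat 0, .ofNat 0], [.ofNat 0, .ofNat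 1, .ofNat 0, .ofNat 1, .ofNat 1, .ofNat 1, .ofNat 1, .ofNat 0], [.ofNat 0, .ofNat 1, .ofNat 0, .ofNat 1, .ofNat 1, .ofNat 1, .ofNat 1, .ofNat 1], [.ofNat 0, .ofNat 1, .ofNat 1, .ofNat 1, .ofNat 0, .ofNat 0, .ofNat 0, .ofNat 0], [.ofNat 0, .ofNat 1, .ofNat 1, .ofNat 1, .ofNat 1, .ofNat 0, .ofNat 0, .ofNat 0], [.ofNat 0, .ofNat 1, .ofNat 1, .ofNat 1, .ofNat 1, .ofNat 1, .ofNat 0, .ofNat 0], [.ofNat 0, .ofNat 1, .ofNat 1, .ofNat 1, .ofNat 1, .ofNat 1, .ofNat 1, .ofNat 0], [.ofNat 0, .ofNat 1, .ofNat 1, .ofNat 1, .ofNat 1, .ofNat 1, .ofNat 1, .ofNat 1], [.ofNat 0, .ofNat 1, .ofNat 1, .ofNat 2, .ofNat 1, .ofNat 0, .ofNat 0, .ofNat 0], [.ofNat 0, .ofNat 1, .ofNat 1, .ofNat 2, .ofNat 1, .ofNat 1, .ofNat 0, .ofNat 0], [.ofNat 0, .ofNat 1, .ofNat 1, .ofNat 2, .ofNat 1, .ofNat 1, .ofNat 1, .ofNat 0], [.ofNat 0, .ofNat 1, .ofNat 1, .ofNat 2, .ofNat 1, .ofNat 1, .ofNat 1, .ofNat 1], [.ofNat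 0, .ofNat 1, .ofNat 1, .ofNat 2, .ofNat 2, .ofNat 1, .ofNat 0, .ofNat 0], [.ofNat 0, .ofNat 1, .ofNat 1, .ofNat 2, .ofNat 2, .ofNat 1, .ofNat 1, .ofNat 0], [.ofNat 0, .ofNat 1, .ofNat 1, .ofNat 2, .ofNat 2, .ofNat 1, .ofNat 1, .ofNat 1], [.ofNat 0, .ofNat 1, .ofNat 1, .ofNat 2, .ofNat 2, .ofNat 2, .ofNat 1, .ofNat 0], [.ofNat 0, .ofNat 1, .ofNat 1, .ofNat 2, .ofNat 2, .ofNat 2, .ofNat 1, .ofNat 1], [.ofNat 0, .ofNat 1, .ofNat 1, .ofNat 2, .ofNat 2, .ofNat 2, .ofNat 2, .ofNat 1], [.ofNat 1, .ofNat 0, .ofNat 0, .ofNat 0, .ofNat 0, .ofNat 0, .ofNat 0, .ofNat 0], [.ofNat 1, .ofNat 0, .ofNat 1, .ofNat 0, .ofNat 0, .ofNat 0, .ofNat 0, .ofNat 0], [.ofNat 1, .ofNat 0, .ofNat 1, .ofNat 1, .ofNat 0, .ofNat 0, .ofNat 0, .ofNat 0], [.ofNat 1, .ofNat 0, .ofNat 1, .ofNat 1, .ofNat 1, .ofNat 0, .ofNat 0, .ofNat 0], [.ofNat 1, .ofNat 0, .ofNat 1, .ofNat 1, .ofNat 1, .ofNat 1, .ofNat 0, .ofNat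 0], [.ofNat 1, .ofNat 0, .ofNat 1, .ofNat 1, .ofNat 1, .ofNat 1, .ofNat 1, .ofNat 0], [.ofNat 1, .ofNat 0, .ofNat 1, .ofNat 1, .ofNat 1, .ofNat 1, .ofNat 1, .ofNat 1], [.ofNat 1, .ofNat 1, .ofNat 1, .ofNat 1, .ofNat 0, .ofNat 0, .ofNat 0, .ofNat 0], [.ofNat 1, .ofNat 1, .ofNat 1, .ofNat 1, .ofNat 1, .ofNat 0, .ofNat 0, .ofNat 0], [.ofNat 1, .ofNat 1, .ofNat 1, .ofNat 1, .ofNat 1, .ofNat 1, .ofNat 0, .ofNat 0], [.ofNat 1, .ofNat 1, .ofNat 1, .ofNat 1, .ofNat 1, .ofNat 1, .ofNat 1, .ofNat 0], [.ofNat 1, .ofNat 1, .ofNat 1, .ofNat 1, .ofNat 1, .ofNat 1, .ofNat 1, .ofNat 1], [.ofNat 1, .ofNat 1, .ofNat 1, .ofNat 2, .ofNat 1, .ofNat 0, .ofNat 0, .ofNat 0], [.ofNat 1, .ofNat 1, .ofNat 1, .ofNat 2, .ofNat 1, .ofNat 1, .ofNat 0, .ofNat 0], [.ofNat 1, .ofNat 1, .ofNat 1, .ofNat 2, .ofNat 1, .ofNat 1, .ofNat 1, .ofNat 0], [.ofNat 1, .ofNat 1, .ofNat 1, .ofNat 2, .ofNat 1, .ofNat 1, .ofNat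 1, .ofNat 1], [.ofNat 1, .ofNat 1, .ofNat 1, .ofNat 2, .ofNat 2, .ofNat 1, .ofNat 0, .ofNat 0], [.ofNat 1, .ofNat 1, .ofNat 1, .ofNat 2, .ofNat 2, .ofNat 1, .ofNat 1, .ofNat 0], [.ofNat 1, .ofNat 1, .ofNat 1, .ofNat 2, .ofNat 2, .ofNat 1, .ofNat 1, .ofNat 1], [.ofNat 1, .ofNat 1, .ofNat 1, .ofNat 2, .ofNat 2, .ofNat 2, .ofNat 1, .ofNat 0], [.ofNat 1, .ofNat 1, .ofNat 1, .ofNat 2, .ofNat 2, .ofNat 2, .ofNat 1, .ofNat 1], [.ofNat 1, .ofNat 1, .ofNat 1, .ofNat 2, .ofNat 2, .ofNat 2, .ofNat 2, .ofNat 1], [.ofNat 1, .ofNat 1, .ofNat 2, .ofNat 2, .ofNat 1, .ofNat 0, .ofNat 0, .ofNat 0], [.ofNat 1, .ofNat 1, .ofNat 2, .ofNat 2, .ofNat 1, .ofNat 1, .ofNat 0, .ofNat 0], [.ofNat 1, .ofNat 1, .ofNat 2, .ofNat 2, .ofNat 1, .ofNat 1, .ofNat 1, .ofNat 0], [.ofNat 1, .ofNat 1, .ofNat 2, .ofNat 2, .ofNat 1, .ofNat 1, .ofNat 1, .ofNat 1], [.ofNat 1, .ofNat 1, .ofNat 2, .ofNat 2, .ofNat 2, .ofNat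 1, .ofNat 0, .ofNat 0], [.ofNat 1, .ofNat 1, .ofNat 2, .ofNat 2, .ofNat 2, .ofNat 1, .ofNat 1, .ofNat 0], [.ofNat 1, .ofNat 1, .ofNat 2, .ofNat 2, .ofNat 2, .ofNat 1, .ofNat 1, .ofNat 1], [.ofNat 1, .ofNat 1, .ofNat 2, .ofNat 2, .ofNat 2, .ofNat 2, .ofNat 1, .ofNat 0], [.ofNat 1, .ofNat 1, .ofNat 2, .ofNat 2, .ofNat 2, .ofNat 2, .ofNat 1, .ofNat 1], [.ofNat 1, .ofNat 1, .ofNat 2, .ofNat 2, .ofNat 2, .ofNat 2, .ofNat 2, .ofNat 1], [.ofNat 1, .ofNat 1, .ofNat 2, .ofNat 3, .ofNat 2, .ofNat 1, .ofNat 0, .ofNat 0], [.ofNat 1, .ofNat 1, .ofNat 2, .ofNat 3, .ofNat 2, .ofNat 1, .ofNat 1, .ofNat 0], [.ofNat 1, .ofNat 1, .ofNat 2, .ofNat 3, .ofNat 2, .ofNat 1, .ofNat 1, .ofNat 1], [.ofNat 1, .ofNat 1, .ofNat 2, .ofNat 3, .ofNat 2, .ofNat 2, .ofNat 1, .ofNat 0], [.ofNat 1, .ofNat 1, .ofNat 2, .ofNat 3, .ofNat 2, .ofNat 2, .ofNat 1, .ofNat 1], [.ofNat 1, .ofNat 1, .ofNat 2, .ofNat 3, .ofNat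 2, .ofNat 2, .ofNat 2, .ofNat 1], [.ofNat 1, .ofNat 1, .ofNat 2, .ofNat 3, .ofNat 3, .ofNat 2, .ofNat 1, .ofNat 0], [.ofNat 1, .ofNat 1, .ofNat 2, .ofNat 3, .ofNat 3, .ofNat 2, .ofNat 1, .ofNat 1], [.ofNat 1, .ofNat 1, .ofNat 2, .ofNat 3, .ofNat 3, .ofNat 2, .ofNat 2, .ofNat 1], [.ofNat 1, .ofNat 1, .ofNat 2, .ofNat 3, .ofNat 3, .ofNat 3, .ofNat 2, .ofNat 1], [.ofNat 1, .ofNat 2, .ofNat 2, .ofNat 3, .ofNat 2, .ofNat 1, .ofNat 0, .ofNat 0], [.ofNat 1, .ofNat 2, .ofNat 2, .ofNat 3, .ofNat 2, .ofNat 1, .ofNat 1, .ofNat 0], [.ofNat 1, .ofNat 2, .ofNat 2, .ofNat 3, .ofNat 2, .ofNat 1, .ofNat 1, .ofNat 1], [.ofNat 1, .ofNat 2, .ofNat 2, .ofNat 3, .ofNat 2, .ofNat 2, .ofNat 1, .ofNat 0], [.ofNat 1, .ofNat 2, .ofNat 2, .ofNat 3, .ofNat 2, .ofNat 2, .ofNat 1, .ofNat 1], [.ofNat 1, .ofNat 2, .ofNat 2, .ofNat 3, .ofNat 2, .ofNat 2, .ofNat 2, .ofNat 1], [.ofNat 1, .ofNat 2, .ofNat 2, .ofNat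 3, .ofNat 3, .ofNat 2, .ofNat 1, .ofNat 0], [.ofNat 1, .ofNat 2, .ofNat 2, .ofNat 3, .ofNat 3, .ofNat 2, .ofNat 1, .ofNat 1], [.ofNat 1, .ofNat 2, .ofNat 2, .ofNat 3, .ofNat 3, .ofNat 2, .ofNat 2, .ofNat 1], [.ofNat 1, .ofNat 2, .ofNat 2, .ofNat 3, .ofNat 3, .ofNat 3, .ofNat 2, .ofNat 1], [.ofNat 1, .ofNat 2, .ofNat 2, .ofNat 4, .ofNat 3, .ofNat 2, .ofNat 1, .ofNat 0], [.ofNat 1, .ofNat 2, .ofNat 2, .ofNat 4, .ofNat 3, .ofNat 2, .ofNat 1, .ofNat 1], [.ofNat 1, .ofNat 2, .ofNat 2, .ofNat 4, .ofNat 3, .ofNat 2, .ofNat 2, .ofNat 1], [.ofNat 1, .ofNat 2, .ofNat 2, .ofNat 4, .ofNat 3, .ofNat 3, .ofNat 2, .ofNat 1], [.ofNat 1, .ofNat 2, .ofNat 2, .ofNat 4, .ofNat 4, .ofNat 3, .ofNat 2, .ofNat 1], [.ofNat 1, .ofNat 2, .ofNat 3, .ofNat 4, .ofNat 3, .ofNat 2, .ofNat 1, .ofNat 0], [.ofNat 1, .ofNat 2, .ofNat 3, .ofNat 4, .ofNat 3, .ofNat 2, .ofNat 1, .ofNat 1], [.ofNat 1, .ofNat 2, .ofNat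 3, .ofNat 4, .ofNat 3, .ofNat 2, .ofNat 2, .ofNat 1], [.ofNat 1, .ofNat 2, .ofNat 3, .ofNat 4, .ofNat 3, .ofNat 3, .ofNat 2, .ofNat 1], [.ofNat 1, .ofNat 2, .ofNat 3, .ofNat 4, .ofNat 4, .ofNat 3, .ofNat 2, .ofNat 1], [.ofNat 1, .ofNat 2, .ofNat 3, .ofNat 5, .ofNat 4, .ofNat 3, .ofNat 2, .ofNat 1], [.ofNat 1, .ofNat 3, .ofNat 3, .ofNat 5, .ofNat 4, .ofNat 3, .ofNat 2, .ofNat 1], [.ofNat 2, .ofNat 2, .ofNat 3, .ofNat 4, .ofNat 3, .ofNat 2, .ofNat 1, .ofNat 0], [.ofNat 2, .ofNat 2, .ofNat 3, .ofNat 4, .ofNat 3, .ofNat 2, .ofNat 1, .ofNat 1], [.ofNat 2, .ofNat 2, .ofNat 3, .ofNat 4, .ofNat 3, .ofNat 2, .ofNat 2, .ofNat 1], [.ofNat 2, .ofNat 2, .ofNat 3, .ofNat 4, .ofNat 3, .ofNat 3, .ofNat 2, .ofNat 1], [.ofNat 2, .ofNat 2, .ofNat 3, .ofNat 4, .ofNat 4, .ofNat 3, .ofNat 2, .ofNat 1], [.ofNat 2, .ofNat 2, .ofNat 3, .ofNat 5, .ofNat 4, .ofNat 3, .ofNat 2, .ofNat 1], [.ofNat 2, .ofNat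 2, .ofNat 4, .ofNat 5, .ofNat 4, .ofNat 3, .ofNat 2, .ofNat 1], [.ofNat 2, .ofNat 3, .ofNat 3, .ofNat 5, .ofNat 4, .ofNat 3, .ofNat 2, .ofNat 1], [.ofNat 2, .ofNat 3, .ofNat 4, .ofNat 5, .ofNat 4, .ofNat 3, .ofNat 2, .ofNat 1], [.ofNat 2, .ofNat 3, .ofNat 4, .ofNat 6, .ofNat 4, .ofNat 3, .ofNat 2, .ofNat 1], [.ofNat 2, .ofNat 3, .ofNat 4, .ofNat 6, .ofNat 5, .ofNat 3, .ofNat 2, .ofNat 1], [.ofNat 2, .ofNat 3, .ofNat 4, .ofNat 6, .ofNat 5, .ofNat 4, .ofNat 2, .ofNat 1], [.ofNat 2, .ofNat 3, .ofNat 4, .ofNat 6, .ofNat 5, .ofNat 4, .ofNat 3, .ofNat 1], [.ofNat 2, .ofNat 3, .ofNat 4, .ofNat 6, .ofNat 5, .ofNat 4, .ofNat 3, .ofNat 2]]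
  GR := [[.ofNat 0, .ofNat 0, .ofNat 0, .ofNat 0, .ofNat 0, .ofNat 0, .ofNat 0, .negSucc 0], [.ofNat 0, .ofNat 0, .ofNat 0, .ofNat 0, .ofNat 0, .ofNat 0, .negSucc 0, .ofNat 1], [.ofNat 0, .ofNat 0, .ofNat 0, .ofNat 0, .ofNat 0, .negSucc 0, .ofNat 1, .ofNat 0], [.ofNat 0, .ofNat 0, .ofNat 0, .ofNat 0, .negSucc 0, .ofNat 1, .ofNat 0, .ofNat 0], [.ofNat 0, .ofNat 0, .ofNat 0, .negSucc 0, .ofNat 1, .ofNat 0, .ofNat 0, .ofNat 0], [.ofNat 0, .negSucc 0, .negSucc 0, .ofNat 1, .ofNat 0, .ofNat 0, .ofNat 0, .ofNat 0], [.negSucc 0, .negSucc 0, .ofNat 1, .ofNat 0, .ofNat 0, .ofNat 0, .ofNat 0, .ofNat 0], [.ofNat 0, .ofNat 1, .negSucc 0, .ofNat 0, .ofNat 0, .ofNat 0, .ofNat 0, .ofNat 0], [.negSucc 0, .ofNat 1, .ofNat 1, .negSucc 0, .ofNat 0, .ofNat 0, .ofNat 0, .ofNat 0], [.negSucc 0, .ofNat 0, .ofNat 0, .ofNat 1, .negSucc 0, .ofNat 0, .ofNat 0, .ofNat 0], [.negSucc 0, .ofNat 0, .ofNat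 0, .ofNat 0, .ofNat 1, .negSucc 0, .ofNat 0, .ofNat 0], [.negSucc 0, .ofNat 0, .ofNat 0, .ofNat 0, .ofNat 0, .ofNat 1, .negSucc 0, .ofNat 0], [.negSucc 0, .ofNat 0, .ofNat 0, .ofNat 0, .ofNat 0, .ofNat 0, .ofNat 1, .negSucc 0], [.negSucc 0, .ofNat 0, .ofNat 0, .ofNat 0, .ofNat 0, .ofNat 0, .ofNat 0, .ofNat 1], [.ofNat 1, .negSucc 0, .ofNat 0, .ofNat 0, .ofNat 0, .ofNat 0, .ofNat 0, .ofNat 0], [.ofNat 1, .ofNat 1, .ofNat 0, .negSucc 0, .ofNat 0, .ofNat 0, .ofNat 0, .ofNat 0], [.ofNat 1, .ofNat 0, .negSucc 0, .ofNat 1, .negSucc 0, .ofNat 0, .ofNat 0, .ofNat 0], [.ofNat 1, .ofNat 0, .negSucc 0, .ofNat 0, .ofNat 1, .negSucc 0, .ofNat 0, .ofNat 0], [.ofNat 1, .ofNat 0, .negSucc 0, .ofNat 0, .ofNat 0, .ofNat 1, .negSucc 0, .ofNat 0], [.ofNat 1, .ofNat 0, .negSucc 0, .ofNat 0, .ofNat 0, .ofNat 0, .ofNat 1, .negSucc 0], [.ofNat 1, .ofNat 0, .negSucc 0, .ofNat 0, .ofNat 0, .ofNat 0,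 .ofNat 0, .ofNat 1], [.ofNat 0, .ofNat 0, .ofNat 1, .ofNat 0, .negSucc 0, .ofNat 0, .ofNat 0, .ofNat 0], [.ofNat 0, .ofNat 0, .ofNat 1, .negSucc 0, .ofNat 1, .negSucc 0, .ofNat 0, .ofNat 0], [.ofNat 0, .ofNat 0, .ofNat 1, .negSucc 0, .ofNat 0, .ofNat 1, .negSucc 0, .ofNat 0], [.ofNat 0, .ofNat 0, .ofNat 1, .negSucc 0, .ofNat 0, .ofNat 0, .ofNat 1, .negSucc 0], [.ofNat 0, .ofNat 0, .ofNat 1, .negSucc 0, .ofNat 0, .ofNat 0, .ofNat 0, .ofNat 1], [.ofNat 0, .negSucc 0, .ofNat 0, .ofNat 1, .ofNat 0, .negSucc 0, .ofNat 0, .ofNat 0], [.ofNat 0, .negSucc 0, .ofNat 0, .ofNat 1, .negSucc 0, .ofNat 1, .negSucc 0, .ofNat 0], [.ofNat 0, .negSucc 0, .ofNat 0, .ofNat 1, .negSucc 0, .ofNat 0, .ofNat 1, .negSucc 0], [.ofNat 0, .negSucc 0, .ofNat 0, .ofNat 1, .negSucc 0, .ofNat 0, .ofNat 0, .ofNat 1], [.ofNat 0, .negSucc 0, .ofNat 0, .ofNat 0, .ofNat 1, .ofNat 0, .negSucc 0, .ofNat 0], [.ofNat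 0, .negSucc 0, .ofNat 0, .ofNat 0, .ofNat 1, .negSucc 0, .ofNat 1, .negSucc 0], [.ofNat 0, .negSucc 0, .ofNat 0, .ofNat 0, .ofNat 1, .negSucc 0, .ofNat 0, .ofNat 1], [.ofNat 0, .negSucc 0, .ofNat 0, .ofNat 0, .ofNat 0, .ofNat 1, .ofNat 0, .negSucc 0], [.ofNat 0, .negSucc 0, .ofNat 0, .ofNat 0, .ofNat 0, .ofNat 1, .negSucc 0, .ofNat 1], [.ofNat 0, .negSucc 0, .ofNat 0, .ofNat 0, .ofNat 0, .ofNat 0, .ofNat 1, .ofNat 0], [.ofNat 0, .ofNat 1, .ofNat 0, .ofNat 0, .ofNat 0, .negSucc 0, .ofNat 0, .ofNat 0], [.ofNat 0, .ofNat 1, .ofNat 0, .ofNat 0, .negSucc 0, .ofNat 1, .negSucc 0, .ofNat 0], [.ofNat 0, .ofNat 1, .ofNat 0, .ofNat 0, .negSucc 0, .ofNat 0, .ofNat 1, .negSucc 0], [.ofNat 0, .ofNat 1, .ofNat 0, .ofNat 0, .negSucc 0, .ofNat 0, .ofNat 0, .ofNat 1], [.ofNat 0, .ofNat 1, .ofNat 0, .negSucc 0, .ofNat 1, .ofNat 0, .negSucc 0, .ofNat 0], [.ofNat 0, .ofNat 1, .ofNat 0, .negSucc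 0, .ofNat 1, .negSucc 0, .ofNat 1, .negSucc 0], [.ofNat 0, .ofNat 1, .ofNat 0, .negSucc 0, .ofNat 1, .negSucc 0, .ofNat 0, .ofNat 1], [.ofNat 0, .ofNat 1, .ofNat 0, .negSucc 0, .ofNat 0, .ofNat 1, .ofNat 0, .negSucc 0], [.ofNat 0, .ofNat 1, .ofNat 0, .negSucc 0, .ofNat 0, .ofNat 1, .negSucc 0, .ofNat 1], [.ofNat 0, .ofNat 1, .ofNat 0, .negSucc 0, .ofNat 0, .ofNat 0, .ofNat 1, .ofNat 0], [.ofNat 0, .ofNat 0, .negSucc 0, .ofNat 1, .ofNat 0, .ofNat 0, .negSucc 0, .ofNat 0], [.ofNat 0, .ofNat 0, .negSucc 0, .ofNat 1, .ofNat 0, .negSucc 0, .ofNat 1, .negSucc 0], [.ofNat 0, .ofNat 0, .negSucc 0, .ofNat 1, .ofNat 0, .negSucc 0, .ofNat 0, .ofNat 1], [.ofNat 0, .ofNat 0, .negSucc 0, .ofNat 1, .negSucc 0, .ofNat 1, .ofNat 0, .negSucc 0], [.ofNat 0, .ofNat 0, .negSucc 0, .ofNat 1, .negSucc 0, .ofNat 1, .negSucc 0, .ofNat 1], [.ofNat 0, .ofNat 0, .negSucc 0, .ofNat 1, .negSucc 0, .ofNat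 0, .ofNat 1, .ofNat 0], [.ofNat 0, .ofNat 0, .negSucc 0, .ofNat 0, .ofNat 1, .ofNat 0, .ofNat 0, .negSucc 0], [.ofNat 0, .ofNat 0, .negSucc 0, .ofNat 0, .ofNat 1, .ofNat 0, .negSucc 0, .ofNat 1], [.ofNat 0, .ofNat 0, .negSucc 0, .ofNat 0, .ofNat 1, .negSucc 0, .ofNat 1, .ofNat 0], [.ofNat 0, .ofNat 0, .negSucc 0, .ofNat 0, .ofNat 0, .ofNat 1, .ofNat 0, .ofNat 0], [.negSucc 0, .ofNat 0, .ofNat 1, .ofNat 0, .ofNat 0, .ofNat 0, .negSucc 0, .ofNat 0], [.negSucc 0, .ofNat 0, .ofNat 1, .ofNat 0, .ofNat 0, .negSucc 0, .ofNat 1, .negSucc 0], [.negSucc 0, .ofNat 0, .ofNat 1, .ofNat 0, .ofNat 0, .negSucc 0, .ofNat 0, .ofNat 1], [.negSucc 0, .ofNat 0, .ofNat 1, .ofNat 0, .negSucc 0, .ofNat 1, .ofNat 0, .negSucc 0], [.negSucc 0, .ofNat 0, .ofNat 1, .ofNat 0, .negSucc 0, .ofNat 1, .negSucc 0, .ofNat 1], [.negSucc 0, .ofNat 0, .ofNat 1, .ofNat 0, .negSucc 0, .ofNat 0, .ofNat 1, .ofNat 0],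 [.negSucc 0, .ofNat 0, .ofNat 1, .negSucc 0, .ofNat 1, .ofNat 0, .ofNat 0, .negSucc 0], [.negSucc 0, .ofNat 0, .ofNat 1, .negSucc 0, .ofNat 1, .ofNat 0, .negSucc 0, .ofNat 1], [.negSucc 0, .ofNat 0, .ofNat 1, .negSucc 0, .ofNat 1, .negSucc 0, .ofNat 1, .ofNat 0], [.negSucc 0, .ofNat 0, .ofNat 1, .negSucc 0, .ofNat 0, .ofNat 1, .ofNat 0, .ofNat 0], [.negSucc 0, .negSucc 0, .ofNat 0, .ofNat 1, .ofNat 0, .ofNat 0, .ofNat 0, .negSucc 0], [.negSucc 0, .negSucc 0, .ofNat 0, .ofNat 1, .ofNat 0, .ofNat 0, .negSucc 0, .ofNat 1], [.negSucc 0, .negSucc 0, .ofNat 0, .ofNat 1, .ofNat 0, .negSucc 0, .ofNat 1, .ofNat 0], [.negSucc 0, .negSucc 0, .ofNat 0, .ofNat 1, .negSucc 0, .ofNat 1, .ofNat 0, .ofNat 0], [.negSucc 0, .negSucc 0, .ofNat 0, .ofNat 0, .ofNat 1, .ofNat 0, .ofNat 0, .ofNat 0], [.negSucc 0, .ofNat 1, .ofNat 0, .ofNat 0, .ofNat 0, .ofNat 0, .ofNat 0, .negSucc 0], [.negSucc 0,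 .ofNat 1, .ofNat 0, .ofNat 0, .ofNat 0, .ofNat 0, .negSucc 0, .ofNat 1], [.negSucc 0, .ofNat 1, .ofNat 0, .ofNat 0, .ofNat 0, .negSucc 0, .ofNat 1, .ofNat 0], [.negSucc 0, .ofNat 1, .ofNat 0, .ofNat 0, .negSucc 0, .ofNat 1, .ofNat 0, .ofNat 0], [.negSucc 0, .ofNat 1, .ofNat 0, .negSucc 0, .ofNat 1, .ofNat 0, .ofNat 0, .ofNat 0], [.negSucc 0, .ofNat 0, .negSucc 0, .ofNat 1, .ofNat 0, .ofNat 0, .ofNat 0, .ofNat 0], [.negSucc 1, .ofNat 0, .ofNat 1, .ofNat 0, .ofNat 0, .ofNat 0, .ofNat 0, .ofNat 0], [.ofNat 1, .ofNat 0, .ofNat 0, .ofNat 0, .ofNat 0, .ofNat 0, .negSucc 0, .ofNat 0], [.ofNat 1, .ofNat 0, .ofNat 0, .ofNat 0, .ofNat 0, .negSucc 0, .ofNat 1, .negSucc 0], [.ofNat 1, .ofNat 0, .ofNat 0, .ofNat 0, .ofNat 0, .negSucc 0, .ofNat 0, .ofNat 1], [.ofNat 1, .ofNat 0, .ofNat 0, .ofNat 0, .negSucc 0, .ofNat 1, .ofNat 0, .negSucc 0], [.ofNat 1, .ofNat 0, .ofNat 0, .ofNat 0, .negSucc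 0, .ofNat 1, .negSucc 0, .ofNat 1], [.ofNat 1, .ofNat 0, .ofNat 0, .ofNat 0, .negSucc 0, .ofNat 0, .ofNat 1, .ofNat 0], [.ofNat 1, .ofNat 0, .ofNat 0, .negSucc 0, .ofNat 1, .ofNat 0, .ofNat 0, .negSucc 0], [.ofNat 1, .ofNat 0, .ofNat 0, .negSucc 0, .ofNat 1, .ofNat 0, .negSucc 0, .ofNat 1], [.ofNat 1, .ofNat 0, .ofNat 0, .negSucc 0, .ofNat 1, .negSucc 0, .ofNat 1, .ofNat 0], [.ofNat 1, .ofNat 0, .ofNat 0, .negSucc 0, .ofNat 0, .ofNat 1, .ofNat 0, .ofNat 0], [.ofNat 1, .negSucc 0, .negSucc 0, .ofNat 1, .ofNat 0, .ofNat 0, .ofNat 0, .negSucc 0], [.ofNat 1, .negSucc 0, .negSucc 0, .ofNat 1, .ofNat 0, .ofNat 0, .negSucc 0, .ofNat 1], [.ofNat 1, .negSucc 0, .negSucc 0, .ofNat 1, .ofNat 0, .negSucc 0, .ofNat 1, .ofNat 0], [.ofNat 1, .negSucc 0, .negSucc 0, .ofNat 1, .negSucc 0, .ofNat 1, .ofNat 0, .ofNat 0], [.ofNat 1, .negSucc 0, .negSucc 0, .ofNat 0, .ofNat 1, .ofNat 0, .ofNat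 0, .ofNat 0], [.ofNat 0, .negSucc 0, .ofNat 1, .ofNat 0, .ofNat 0, .ofNat 0, .ofNat 0, .negSucc 0], [.ofNat 0, .negSucc 0, .ofNat 1, .ofNat 0, .ofNat 0, .ofNat 0, .negSucc 0, .ofNat 1], [.ofNat 0, .negSucc 0, .ofNat 1, .ofNat 0, .ofNat 0, .negSucc 0, .ofNat 1, .ofNat 0], [.ofNat 0, .negSucc 0, .ofNat 1, .ofNat 0, .negSucc 0, .ofNat 1, .ofNat 0, .ofNat 0], [.ofNat 0, .negSucc 0, .ofNat 1, .negSucc 0, .ofNat 1, .ofNat 0, .ofNat 0, .ofNat 0], [.ofNat 0, .negSucc 1, .ofNat 0, .ofNat 1, .ofNat 0, .ofNat 0, .ofNat 0, .ofNat 0], [.ofNat 1, .ofNat 1, .negSucc 0, .ofNat 0, .ofNat 0, .ofNat 0, .ofNat 0, .negSucc 0], [.ofNat 1, .ofNat 1, .negSucc 0, .ofNat 0, .ofNat 0, .ofNat 0, .negSucc 0, .ofNat 1], [.ofNat 1, .ofNat 1, .negSucc 0, .ofNat 0, .ofNat 0, .negSucc 0, .ofNat 1, .ofNat 0], [.ofNat 1, .ofNat 1, .negSucc 0, .ofNat 0, .negSucc 0, .ofNat 1, .ofNat 0, .ofNat 0], [.ofNat 1, .ofNat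 1, .negSucc 0, .negSucc 0, .ofNat 1, .ofNat 0, .ofNat 0, .ofNat 0], [.ofNat 1, .ofNat 0, .negSucc 1, .ofNat 1, .ofNat 0, .ofNat 0, .ofNat 0, .ofNat 0], [.ofNat 0, .ofNat 1, .ofNat 1, .negSucc 0, .ofNat 0, .ofNat 0, .ofNat 0, .negSucc 0], [.ofNat 0, .ofNat 1, .ofNat 1, .negSucc 0, .ofNat 0, .ofNat 0, .negSucc 0, .ofNat 1], [.ofNat 0, .ofNat 1, .ofNat 1, .negSucc 0, .ofNat 0, .negSucc 0, .ofNat 1, .ofNat 0], [.ofNat 0, .ofNat 1, .ofNat 1, .negSucc 0, .negSucc 0, .ofNat 1, .ofNat 0, .ofNat 0], [.ofNat 0, .ofNat 1, .ofNat 1, .negSucc 1, .ofNat 1, .ofNat 0, .ofNat 0, .ofNat 0], [.ofNat 0, .ofNat 0, .ofNat 0, .ofNat 1, .negSucc 0, .ofNat 0, .ofNat 0, .negSucc 0], [.ofNat 0, .ofNat 0, .ofNat 0, .ofNat 1, .negSucc 0, .ofNat 0, .negSucc 0, .ofNat 1], [.ofNat 0, .ofNat 0, .ofNat 0, .ofNat 1, .negSucc 0, .negSucc 0, .ofNat 1, .ofNat 0], [.ofNat 0, .ofNat 0, .ofNat 0, .ofNat 1, .negSucc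 1, .ofNat 1, .ofNat 0, .ofNat 0], [.ofNat 0, .ofNat 0, .ofNat 0, .ofNat 0, .ofNat 1, .negSucc 0, .ofNat 0, .negSucc 0], [.ofNat 0, .ofNat 0, .ofNat 0, .ofNat 0, .ofNat 1, .negSucc 0, .negSucc 0, .ofNat 1], [.ofNat 0, .ofNat 0, .ofNat 0, .ofNat 0, .ofNat 1, .negSucc 1, .ofNat 1, .ofNat 0], [.ofNat 0, .ofNat 0, .ofNat 0, .ofNat 0, .ofNat 0, .ofNat 1, .negSucc 0, .negSucc 0], [.ofNat 0, .ofNat 0, .ofNat 0, .ofNat 0, .ofNat 0, .ofNat 1, .negSucc 1, .ofNat 1], [.ofNat 0, .ofNat 0, .ofNat 0, .ofNat 0, .ofNat 0, .ofNat 0, .ofNat 1, .negSucc 1], [.ofNat 0, .ofNat 0, .ofNat 0, .ofNat 0, .ofNat 0, .ofNat 0, .negSucc 0, .ofNat 2], [.ofNat 0, .ofNat 0, .ofNat 0, .ofNat 0, .ofNat 0, .negSucc 0, .ofNat 2, .negSucc 0], [.ofNat 0, .ofNat 0, .ofNat 0, .ofNat 0, .ofNat 0, .negSucc 0, .ofNat 1, .ofNat 1], [.ofNat 0, .ofNat 0, .ofNat 0, .ofNat 0, .negSucc 0, .ofNat 2, .negSucc 0, .ofNat 0], [.ofNat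 0, .ofNat 0, .ofNat 0, .ofNat 0, .negSucc 0, .ofNat 1, .ofNat 1, .negSucc 0], [.ofNat 0, .ofNat 0, .ofNat 0, .ofNat 0, .negSucc 0, .ofNat 1, .ofNat 0, .ofNat 1], [.ofNat 0, .ofNat 0, .ofNat 0, .negSucc 0, .ofNat 2, .negSucc 0, .ofNat 0, .ofNat 0], [.ofNat 0, .ofNat 0, .ofNat 0, .negSucc 0, .ofNat 1, .ofNat 1, .negSucc 0, .ofNat 0], [.ofNat 0, .ofNat 0, .ofNat 0, .negSucc 0, .ofNat 1, .ofNat 0, .ofNat 1, .negSucc 0], [.ofNat 0, .ofNat 0, .ofNat 0, .negSucc 0, .ofNat 1, .ofNat 0, .ofNat 0, .ofNat 1], [.ofNat 0, .negSucc 0, .negSucc 0, .ofNat 2, .negSucc 0, .ofNat 0, .ofNat 0, .ofNat 0], [.ofNat 0, .negSucc 0, .negSucc 0, .ofNat 1, .ofNat 1, .negSucc 0, .ofNat 0, .ofNat 0], [.ofNat 0, .negSucc 0, .negSucc 0, .ofNat 1, .ofNat 0, .ofNat 1, .negSucc 0, .ofNat 0], [.ofNat 0, .negSucc 0, .negSucc 0, .ofNat 1, .ofNat 0, .ofNat 0, .ofNat 1, .negSucc 0], [.ofNat 0, .negSucc 0, .negSucc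 0, .ofNat 1, .ofNat 0, .ofNat 0, .ofNat 0, .ofNat 1], [.negSucc 0, .ofNat 0, .ofNat 2, .negSucc 0, .ofNat 0, .ofNat 0, .ofNat 0, .ofNat 0], [.negSucc 0, .negSucc 0, .ofNat 1, .ofNat 1, .negSucc 0, .ofNat 0, .ofNat 0, .ofNat 0], [.negSucc 0, .negSucc 0, .ofNat 1, .ofNat 0, .ofNat 1, .negSucc 0, .ofNat 0, .ofNat 0], [.negSucc 0, .negSucc 0, .ofNat 1, .ofNat 0, .ofNat 0, .ofNat 1, .negSucc 0, .ofNat 0], [.negSucc 0, .negSucc 0, .ofNat 1, .ofNat 0, .ofNat 0, .ofNat 0, .ofNat 1, .negSucc 0], [.negSucc 0, .negSucc 0, .ofNat 1, .ofNat 0, .ofNat 0, .ofNat 0, .ofNat 0, .ofNat 1], [.ofNat 0, .ofNat 2, .ofNat 0, .negSucc 0, .ofNat 0, .ofNat 0, .ofNat 0, .ofNat 0], [.ofNat 0, .ofNat 1, .negSucc 0, .ofNat 1, .negSucc 0, .ofNat 0, .ofNat 0, .ofNat 0], [.ofNat 0, .ofNat 1, .negSucc 0, .ofNat 0, .ofNat 1, .negSucc 0, .ofNat 0, .ofNat 0], [.ofNat 0, .ofNat 1, .negSucc 0, .ofNat 0, .ofNat 0,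 .ofNat 1, .negSucc 0, .ofNat 0], [.ofNat 0, .ofNat 1, .negSucc 0, .ofNat 0, .ofNat 0, .ofNat 0, .ofNat 1, .negSucc 0], [.ofNat 0, .ofNat 1, .negSucc 0, .ofNat 0, .ofNat 0, .ofNat 0, .ofNat 0, .ofNat 1], [.negSucc 0, .ofNat 1, .ofNat 1, .ofNat 0, .negSucc 0, .ofNat 0, .ofNat 0, .ofNat 0], [.negSucc 0, .ofNat 1, .ofNat 1, .negSucc 0, .ofNat 1, .negSucc 0, .ofNat 0, .ofNat 0], [.negSucc 0, .ofNat 1, .ofNat 1, .negSucc 0, .ofNat 0, .ofNat 1, .negSucc 0, .ofNat 0], [.negSucc 0, .ofNat 1, .ofNat 1, .negSucc 0, .ofNat 0, .ofNat 0, .ofNat 1, .negSucc 0], [.negSucc 0, .ofNat 1, .ofNat 1, .negSucc 0, .ofNat 0, .ofNat 0, .ofNat 0, .ofNat 1], [.negSucc 0, .ofNat 0, .ofNat 0, .ofNat 1, .ofNat 0, .negSucc 0, .ofNat 0, .ofNat 0], [.negSucc 0, .ofNat 0, .ofNat 0, .ofNat 1, .negSucc 0, .ofNat 1, .negSucc 0, .ofNat 0], [.negSucc 0, .ofNat 0, .ofNat 0, .ofNat 1, .negSucc 0, .ofNat 0, .ofNat 1,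 .negSucc 0], [.negSucc 0, .ofNat 0, .ofNat 0, .ofNat 1, .negSucc 0, .ofNat 0, .ofNat 0, .ofNat 1], [.negSucc 0, .ofNat 0, .ofNat 0, .ofNat 0, .ofNat 1, .ofNat 0, .negSucc 0, .ofNat 0], [.negSucc 0, .ofNat 0, .ofNat 0, .ofNat 0, .ofNat 1, .negSucc 0, .ofNat 1, .negSucc 0], [.negSucc 0, .ofNat 0, .ofNat 0, .ofNat 0, .ofNat 1, .negSucc 0, .ofNat 0, .ofNat 1], [.negSucc 0, .ofNat 0, .ofNat 0, .ofNat 0, .ofNat 0, .ofNat 1, .ofNat 0, .negSucc 0], [.negSucc 0, .ofNat 0, .ofNat 0, .ofNat 0, .ofNat 0, .ofNat 1, .negSucc 0, .ofNat 1], [.negSucc 0, .ofNat 0, .ofNat 0, .ofNat 0, .ofNat 0, .ofNat 0, .ofNat 1, .ofNat 0], [.ofNat 2, .ofNat 0, .negSucc 0, .ofNat 0, .ofNat 0, .ofNat 0, .ofNat 0, .ofNat 0], [.ofNat 1, .ofNat 0, .ofNat 1, .negSucc 0, .ofNat 0, .ofNat 0, .ofNat 0, .ofNat 0], [.ofNat 1, .negSucc 0, .ofNat 0, .ofNat 1, .negSucc 0, .ofNat 0, .ofNat 0, .ofNat 0], [.ofNat 1, .negSucc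 0, .ofNat 0, .ofNat 0, .ofNat 1, .negSucc 0, .ofNat 0, .ofNat 0], [.ofNat 1, .negSucc 0, .ofNat 0, .ofNat 0, .ofNat 0, .ofNat 1, .negSucc 0, .ofNat 0], [.ofNat 1, .negSucc 0, .ofNat 0, .ofNat 0, .ofNat 0, .ofNat 0, .ofNat 1, .negSucc 0], [.ofNat 1, .negSucc 0, .ofNat 0, .ofNat 0, .ofNat 0, .ofNat 0, .ofNat 0, .ofNat 1], [.ofNat 1, .ofNat 1, .ofNat 0, .ofNat 0, .negSucc 0, .ofNat 0, .ofNat 0, .ofNat 0], [.ofNat 1, .ofNat 1, .ofNat 0, .negSucc 0, .ofNat 1, .negSucc 0, .ofNat 0, .ofNat 0], [.ofNat 1, .ofNat 1, .ofNat 0, .negSucc 0, .ofNat 0, .ofNat 1, .negSucc 0, .ofNat 0], [.ofNat 1, .ofNat 1, .ofNat 0, .negSucc 0, .ofNat 0, .ofNat 0, .ofNat 1, .negSucc 0], [.ofNat 1, .ofNat 1, .ofNat 0, .negSucc 0, .ofNat 0, .ofNat 0, .ofNat 0, .ofNat 1], [.ofNat 1, .ofNat 0, .negSucc 0, .ofNat 1, .ofNat 0, .negSucc 0, .ofNat 0, .ofNat 0], [.ofNat 1, .ofNat 0, .negSucc 0, .ofNat 1, .negSucc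 0, .ofNat 1, .negSucc 0, .ofNat 0], [.ofNat 1, .ofNat 0, .negSucc 0, .ofNat 1, .negSucc 0, .ofNat 0, .ofNat 1, .negSucc 0], [.ofNat 1, .ofNat 0, .negSucc 0, .ofNat 1, .negSucc 0, .ofNat 0, .ofNat 0, .ofNat 1], [.ofNat 1, .ofNat 0, .negSucc 0, .ofNat 0, .ofNat 1, .ofNat 0, .negSucc 0, .ofNat 0], [.ofNat 1, .ofNat 0, .negSucc 0, .ofNat 0, .ofNat 1, .negSucc 0, .ofNat 1, .negSucc 0], [.ofNat 1, .ofNat 0, .negSucc 0, .ofNat 0, .ofNat 1, .negSucc 0, .ofNat 0, .ofNat 1], [.ofNat 1, .ofNat 0, .negSucc 0, .ofNat 0, .ofNat 0, .ofNat 1, .ofNat 0, .negSucc 0], [.ofNat 1, .ofNat 0, .negSucc 0, .ofNat 0, .ofNat 0, .ofNat 1, .negSucc 0, .ofNat 1], [.ofNat 1, .ofNat 0, .negSucc 0, .ofNat 0, .ofNat 0, .ofNat 0, .ofNat 1, .ofNat 0], [.ofNat 0, .ofNat 0, .ofNat 1, .ofNat 0, .ofNat 0, .negSucc 0, .ofNat 0, .ofNat 0], [.ofNat 0, .ofNat 0, .ofNat 1, .ofNat 0, .negSucc 0, .ofNat 1, .negSucc 0, .ofNat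 0], [.ofNat 0, .ofNat 0, .ofNat 1, .ofNat 0, .negSucc 0, .ofNat 0, .ofNat 1, .negSucc 0], [.ofNat 0, .ofNat 0, .ofNat 1, .ofNat 0, .negSucc 0, .ofNat 0, .ofNat 0, .ofNat 1], [.ofNat 0, .ofNat 0, .ofNat 1, .negSucc 0, .ofNat 1, .ofNat 0, .negSucc 0, .ofNat 0], [.ofNat 0, .ofNat 0, .ofNat 1, .negSucc 0, .ofNat 1, .negSucc 0, .ofNat 1, .negSucc 0], [.ofNat 0, .ofNat 0, .ofNat 1, .negSucc 0, .ofNat 1, .negSucc 0, .ofNat 0, .ofNat 1], [.ofNat 0, .ofNat 0, .ofNat 1, .negSucc 0, .ofNat 0, .ofNat 1, .ofNat 0, .negSucc 0], [.ofNat 0, .ofNat 0, .ofNat 1, .negSucc 0, .ofNat 0, .ofNat 1, .negSucc 0, .ofNat 1], [.ofNat 0, .ofNat 0, .ofNat 1, .negSucc 0, .ofNat 0, .ofNat 0, .ofNat 1, .ofNat 0], [.ofNat 0, .negSucc 0, .ofNat 0, .ofNat 1, .ofNat 0, .ofNat 0, .negSucc 0, .ofNat 0], [.ofNat 0, .negSucc 0, .ofNat 0, .ofNat 1, .ofNat 0, .negSucc 0, .ofNat 1, .negSucc 0], [.ofNat 0, .negSucc 0,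 .ofNat 0, .ofNat 1, .ofNat 0, .negSucc 0, .ofNat 0, .ofNat 1], [.ofNat 0, .negSucc 0, .ofNat 0, .ofNat 1, .negSucc 0, .ofNat 1, .ofNat 0, .negSucc 0], [.ofNat 0, .negSucc 0, .ofNat 0, .ofNat 1, .negSucc 0, .ofNat 1, .negSucc 0, .ofNat 1], [.ofNat 0, .negSucc 0, .ofNat 0, .ofNat 1, .negSucc 0, .ofNat 0, .ofNat 1, .ofNat 0], [.ofNat 0, .negSucc 0, .ofNat 0, .ofNat 0, .ofNat 1, .ofNat 0, .ofNat 0, .negSucc 0], [.ofNat 0, .negSucc 0, .ofNat 0, .ofNat 0, .ofNat 1, .ofNat 0, .negSucc 0, .ofNat 1], [.ofNat 0, .negSucc 0, .ofNat 0, .ofNat 0, .ofNat 1, .negSucc 0, .ofNat 1, .ofNat 0], [.ofNat 0, .negSucc 0, .ofNat 0, .ofNat 0, .ofNat 0, .ofNat 1, .ofNat 0, .ofNat 0], [.ofNat 0, .ofNat 1, .ofNat 0, .ofNat 0, .ofNat 0, .ofNat 0, .negSucc 0, .ofNat 0], [.ofNat 0, .ofNat 1, .ofNat 0, .ofNat 0, .ofNat 0, .negSucc 0, .ofNat 1, .negSucc 0], [.ofNat 0, .ofNat 1, .ofNat 0, .ofNat 0, .ofNat 0,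 .negSucc 0, .ofNat 0, .ofNat 1], [.ofNat 0, .ofNat 1, .ofNat 0, .ofNat 0, .negSucc 0, .ofNat 1, .ofNat 0, .negSucc 0], [.ofNat 0, .ofNat 1, .ofNat 0, .ofNat 0, .negSucc 0, .ofNat 1, .negSucc 0, .ofNat 1], [.ofNat 0, .ofNat 1, .ofNat 0, .ofNat 0, .negSucc 0, .ofNat 0, .ofNat 1, .ofNat 0], [.ofNat 0, .ofNat 1, .ofNat 0, .negSucc 0, .ofNat 1, .ofNat 0, .ofNat 0, .negSucc 0], [.ofNat 0, .ofNat 1, .ofNat 0, .negSucc 0, .ofNat 1, .ofNat 0, .negSucc 0, .ofNat 1], [.ofNat 0, .ofNat 1, .ofNat 0, .negSucc 0, .ofNat 1, .negSucc 0, .ofNat 1, .ofNat 0], [.ofNat 0, .ofNat 1, .ofNat 0, .negSucc 0, .ofNat 0, .ofNat 1, .ofNat 0, .ofNat 0], [.ofNat 0, .ofNat 0, .negSucc 0, .ofNat 1, .ofNat 0, .ofNat 0, .ofNat 0, .negSucc 0], [.ofNat 0, .ofNat 0, .negSucc 0, .ofNat 1, .ofNat 0, .ofNat 0, .negSucc 0, .ofNat 1], [.ofNat 0, .ofNat 0, .negSucc 0, .ofNat 1, .ofNat 0, .negSucc 0, .ofNat 1, .ofNat 0],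 [.ofNat 0, .ofNat 0, .negSucc 0, .ofNat 1, .negSucc 0, .ofNat 1, .ofNat 0, .ofNat 0], [.ofNat 0, .ofNat 0, .negSucc 0, .ofNat 0, .ofNat 1, .ofNat 0, .ofNat 0, .ofNat 0], [.negSucc 0, .ofNat 0, .ofNat 1, .ofNat 0, .ofNat 0, .ofNat 0, .ofNat 0, .negSucc 0], [.negSucc 0, .ofNat 0, .ofNat 1, .ofNat 0, .ofNat 0, .ofNat 0, .negSucc 0, .ofNat 1], [.negSucc 0, .ofNat 0, .ofNat 1, .ofNat 0, .ofNat 0, .negSucc 0, .ofNat 1, .ofNat 0], [.negSucc 0, .ofNat 0, .ofNat 1, .ofNat 0, .negSucc 0, .ofNat 1, .ofNat 0, .ofNat 0], [.negSucc 0, .ofNat 0, .ofNat 1, .negSucc 0, .ofNat 1, .ofNat 0, .ofNat 0, .ofNat 0], [.negSucc 0, .negSucc 0, .ofNat 0, .ofNat 1, .ofNat 0, .ofNat 0, .ofNat 0, .ofNat 0], [.negSucc 0, .ofNat 1, .ofNat 0, .ofNat 0, .ofNat 0, .ofNat 0, .ofNat 0, .ofNat 0], [.ofNat 1, .ofNat 0, .ofNat 0, .ofNat 0, .ofNat 0, .ofNat 0, .ofNat 0, .negSucc 0], [.ofNat 1, .ofNat 0, .ofNat 0, .ofNat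 0, .ofNat 0, .ofNat 0, .negSucc 0, .ofNat 1], [.ofNat 1, .ofNat 0, .ofNat 0, .ofNat 0, .ofNat 0, .negSucc 0, .ofNat 1, .ofNat 0], [.ofNat 1, .ofNat 0, .ofNat 0, .ofNat 0, .negSucc 0, .ofNat 1, .ofNat 0, .ofNat 0], [.ofNat 1, .ofNat 0, .ofNat 0, .negSucc 0, .ofNat 1, .ofNat 0, .ofNat 0, .ofNat 0], [.ofNat 1, .negSucc 0, .negSucc 0, .ofNat 1, .ofNat 0, .ofNat 0, .ofNat 0, .ofNat 0], [.ofNat 0, .negSucc 0, .ofNat 1, .ofNat 0, .ofNat 0, .ofNat 0, .ofNat 0, .ofNat 0], [.ofNat 1, .ofNat 1, .negSucc 0, .ofNat 0, .ofNat 0, .ofNat 0, .ofNat 0, .ofNat 0], [.ofNat 0, .ofNat 1, .ofNat 1, .negSucc 0, .ofNat 0, .ofNat 0, .ofNat 0, .ofNat 0], [.ofNat 0, .ofNat 0, .ofNat 0, .ofNat 1, .negSucc 0, .ofNat 0, .ofNat 0, .ofNat 0], [.ofNat 0, .ofNat 0, .ofNat 0, .ofNat 0, .ofNat 1, .negSucc 0, .ofNat 0, .ofNat 0], [.ofNat 0, .ofNat 0, .ofNat 0, .ofNat 0, .ofNat 0, .ofNat 1, .negSucc 0, .ofNat 0],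 [.ofNat 0, .ofNat 0, .ofNat 0, .ofNat 0, .ofNat 0, .ofNat 0, .ofNat 1, .negSucc 0], [.ofNat 0, .ofNat 0, .ofNat 0, .ofNat 0, .ofNat 0, .ofNat 0, .ofNat 0, .ofNat 1]]
  TT := 0xa442082112c0844b12cb72ddefdffe00040844b12cb72ddefcb77befbdda5bbdf7deed3f7bb4ed348d2210200000000000000000000000000000000148841042254108952555b56ef7effd0008108952555b56ef7d5bbdf7deec377befbddabef76adaaa4a91081000000000000000000000000000000006110820844982112649a6d9b77bf7fb00102112649a6d9b77be6ddefbef718ef7df7bb67deed9b6592648840800000000000000000000000000000038021041088e0422388e38ee3bbdfbf70020422388e38ee3bbdf8eef7df787e1efbef771fbddc771c711c44204000000000000000000000000000003c000208210f00843c0f03f0fc3defdef0040843c0f03f0fc3deff0f7bef83ffc1f7def0ff7bc3f0fc0f03c210200000000000000000000000000007c000001041f00107c00ffc00ffc1f7edf008107c00ffc00ffc1f7ff07df03ffffc0fbe0ffef83ff003ff003e081000000000000000000000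000001f8000000007e000207fff00000fffe07f3f0101f8000fffff0001fbfff8007ffffffe001fffdf8000fffff0001f8080000000000000000000000007e000000001f800001f8000fffff0001fbf3f020207fff00000fffe07fff8007ffffffe001fffe07fff00000fffe040400000000000000000000000f8208000003e0000002f83ff003ff003e0bedf0402f83ff003ff003e0bff07df03ffffc0fbe0ffd07c00ffc00ffc1f4020000000000000000000000f0841040003c000000037bc3f0fc0f03c213def08037bc3f0fc0f03c213f0f7bef83ffc1f7def0fc843c0f03f0fc3dec0100000000000000000000071108208401c000000003bddc771c711c4423bf71003bddc771c711c44238eef7df787e1efbef771c422388e38ee3bbdc00800000000000000000001922104108860000000003deed9b65926488437fb2003deed9b65926488426ddefbef718ef7df7bb642112649a6d9b77bc00400000000000000000002a44208211280000000003ef76adaaa4a91082ffd4003ef76adaaa4a910815bbdf7deec377befbdda8108952555b56ef7c00200000000000000000003488410422500000000003f7bb4ed348d22101ffe8003f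7bb4ed348d22100b77befbdda5bbdf7deed00844b12cb72ddefc001000000000000000001fc0000000000000007ffffc0000000000fffff807f01fc00000ffffffffe0000001ffffffffff80000007ffffffff000003f8000000000000000003e0c0000200000003ef800ffc00000003ff003ff419f067c003ff003ffffc1f000ffc083ffffc103ff000f83ffffc00ffc003e600000000000000003c214000040040003c1780f0fc000000fc0f03c3ec2af0abc03c3f0fc0ffc3de80f0fa1783ffc1e85f0f017bc3ff03f0fc3c03d50000000000000001c442400008008401c01b81771c0000071c711c45dc4b712dc05dc771c71e3bbd87117627787e1ee46e88e1bddc78e38ee3ba03b480000000000000064884400010010886001d81bb6400000b65926489bc8bb22ec06ed9b65929b77b99226e46f718ef62764499deed949a6d9b760374400000000000000a9108400020021128001e81dda800000daaa4a9117d0bd42f40776adaaa456ef7aa445e85eec377a17a2255ef76a2555b56ee02f4200000000000000d2210400040042250001f01eed000000ed348d220fe0be82f807bb4ed3482ddefb4883f03dda5bbc0fc112df7bb412cb7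2dde01f410000000000000f000218000801800003de01e00fc0003f0000f03fc1c34f0d3c7803f0fff003fde40ff07e043ffc207e0ff027bfc00fff0fc01e3cb00000000000007100042800100280401c2e02e071c001c7000711c7a2c557155cb81c771f8e1c7bd471e8bd0b87e1d0bd178e2bde3871f8ee381d3aa800000000000192000848002004808860360360b64002d90019264b64c95b256cd82d9b666d64b7b592d93b13718ec8dc9b49aded26b666d9b41b36a4000000000002a40010880040088112803a03a0da80036a002a4a92e8d15d4574e836ada95ba92f76a4ba3722ec3744ec5d256ef495da95b56c172ea2000000000003480021080080108225003c03c0ed0003b400348d21f0e15e8578f03b4ed0b7d21ef7487c2f41da5b82f43e12ef784bed0b72dc0f1ea100000000001c010040300100030c001dc004e701c01c0701c011f8634667199d39c077e07e1f87cc7e18dcf047e20f3b187e33e1f87e07ee039cb99800000000006402008050020005140862c0056b06402c1906402674a54a6b29ad5ac19b999d674bad9d295ae8b18d175a94b9b5d2e6b999d9835ab5940000000000a8040100900400092412834005a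d0a80342a0a804aad29526d49b56b42ad56abaad36eab4a56d92c349b6a52d576cb55d56ab542d6ad920000000000d0080201100800114425038005ce0d0038340d008d1e31626e89b973834e2f47d1e2ef478c4eba1a585d7231e2f7478be2f472c1ce9d910000000003041004006010000618c06c00067330404cc13041078cc64c7331cd9ccc1c79e378cd9de33199e70990e7998cc7b9b31ec79e383339b38c000000000508200800a020000a2942940006b55080554250820b554a547551d5ad542ab6d5b5555ed55295d694296ba94aab7aaaadab6d542ab5ab8a000000000610401001204000124a45180006d66100598461040ce652647691d9b59849cf39ce64df39948db5a245adb1299cfb26739cf39219ad9b89000000000920802000c080000c3198a00007399200664892080cd98c587961e5ce6486cf36cd993f366313ce624673c8c66cfc99b36cf3612673a786000000000a410040014100001452a94000075aa4006a90a4100b6a94687aa1e9d6a905b6dab6a8bedaa50bad542ab5d0a55b7d156d5b6da0956b9785000000000c820080018200001863360000079cc8007320c82007b318707cc1f1e7320379ec7b307decc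6079cc99339e06337be0cde379ec04ce78f83000000007000010046000118e000001dce380001c3800701c7e0046387871e1e39df801c7e1fb83c7ee7038c47e231c0e77e3c1df87e3801fb9c787800000001900002008a00022960000862d65800064580190659d008a58b8b2e2e5aee60659d67745d9dd68594b18d29a16bb9ba2ee6b9a606775a747400000002a00004011200044a600012835a68000a86802a0aaab01129938d4e366b7550aaabaaec9eabb589a52c34a591add5793755d5550aaed66c7200000003400008022200088c600025039c70000d0700340d34702231a38e8e3a73b8b0d347d1dd1f477391c61a586389cee2f8bb8be2cb0d1dce5c710000000c100010040c001031a000c06c269800304980c1305e3040c68d93364e9cf1e305e378f26de3ce469b0990d96273c7b64f1ec7a0c78f39726c000000142000200814002052a00142942aa800508a814250ad50814a95955656ad6ad50ad5b56aaed5ad4aaa94295552b5ab7556adab50ab56b56a6a000000184000401024004094a00245182cb000610b01846133910252a596965ab5a7361339ce5b2f396b52c9a245934ad69cf4da739cc86ce5ad5a69000000248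000802018008063200198a032c800920c8248923362018c99996666ce5b392336cda6cf369cccb262464d33396cf365b36cc49cda7366660000002900010040280100a52002a94034d000a40d0290a42da40294a99aa66ad696da42dab6974eda5ad4d1542a8b2b5a5b72e96d5b425b696b56650000003200020080300200c62003360038e000c80e0320c81ec80318b19cc672e70dec81ec7b0f8dec39d8e0c993071b9c37b1f0de378137b0e74e63000000c010040004c0001301c01c006cc1180300518c013781304c070ea33a8f1f0de378137b0e75ec3e2760c99306e47c37ae70dec81ec7b0f8f15c000001402008000940002502c02c0295412805009294025b4250940b16a55a972e96d5b425b696b6da5d2b51542a8ad4ba5b6d696da42dab6974e95a000001804010001240004904c04c0519813006011318046cc491241326a69a9b365b36cc49cda737369b333262464cccd96cece5b392336cda6cd959000002408020002180008603403418a24148090214a4089cc862180d1aa96aa74da739cc86ce5ad7396cad49a24592b5369ceb5a7361339ce5b2e556000002810040004280010a054054294281500a04152810ab50a4281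52aaaaaab556adab50ab56b56d5aab52a942954ad55ab6ad6ad50ad5b56aad555000003020080008300020c064064360301600c08163020c7a0c8301932accab364f1ec7a0c78f395e3c9b91b0990d89d93c7a9cf1e305e378f26cd53000004440100002c0000b0038039c0a40188111018c440e2cb02c00e1cb172c78bb8be2cb0d1dce747746e461a5862762ee2e73b8b0d347d1dd1e34e000004880200005400015005805ac14801901220194880d5550540162cb2b2cb93755d5550aaed66abb276252c34a46e4dd566b7550aaabaaec9d34d000005100400009800026006806b461001a014401a5100b9a609801a34b4d2d3a2ee6b9a606775a59dd17a14b18d285e8bb9a5aee60659d67745cb4b00000620080000e0000380070073b80001c018801c62007e380e001c38b8e2e3c1df87e3801fb9c47ee0fc0c47e2303f077e239df801c7e1fb83c7470000180010041300000013380780006cc6006000618cde0041304ce00f433d0fe0cde379ec04ce79ecc1f81cc993381f83379e7320379ec7b307f0bc0000280020082500000025580b8002954a00a000a2956d008250956017455d17d156d5b6da0956badaa2f42d542ab42f455b5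d6a905b6dab6a8be8ba000030004010490000004998138005198c00c0012319b3010491266027469d1bc99b36cf3612673b3664ec4e62467237266cdce6486cf36cd993d8b90000480080208600000086680d8018a25201200224a67302086219a01b496d27b26739cf39219adb39937235a245ac4ec99cdb59849cf39ce64de4b60000500100410a0000010aa81580294294014004252aad0410a42aa02b4aad2baaaadab6d542ab5ad5556a5694296a56aaab5ad542ab6d5b5555d4b50000600200820c0000020cc8198036031801800826331e0820c83320334ccd339b31ec79e3833399e33666670990e6666cc799ccc1c79e378cd9ccb3000088040100b0000000b0700e81c0a42202201028c78b100b02c1c01d5175477478be2f472c1ceb478bb13a1a585c8dd1e2d73834e2f47d1e2ee2ae0000900802015000000150b01682c14824024020294b5520150542c02d52b54b6cb55d56ab542d6aab4da9592c349a95b2d556b42ad56abaad36d2ad0000a01004026000000260d01a834610280280402a52e640260983403554d5535d2e6b999d9835a99d2ea568b18d16a574b995ac19b999d674bacaab0000c02008038000000380e01c8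3b800300300802c61f880380e03803958e5633e1f87e07ee039c87e1f237047e20ec4f87e139c077e07e1f87cc6a700010840012c00000000b7000f3c00a44004210030f84b12c002dc001e617986f784bed0b72dc0f3487bd0c1da5b830bde12cf03b4ed0b7d21ef619e000110800254000000015b00175c0148800442003174952540056c002e62b98aef495da95b56c172a4bdc8a2ec374513bd254e836ada95ba92f7519d000121000498000000026d001b6c061100048400326d26498009b4003664d992ded26b666d9b41b192dec493718ec9237b498d82d9b666d64b7b499b0001420008e0000000038e001d74380200050800345e388e000e38003a68e9a2bde3871f8ee381d071ef428b87e1d142f78e0b81c771f8e1c7bd4597000184000f0000000003f0001e7bc00000061000383fc0f0000fc0003c70f1c27bfc00fff0fc01e00ff781843ffc2181eff007803f0fff003fde438f00020844b00000000000b77be00000a4420800003f044b12cb7000001f817e05f7bb412cb72dde0348840fbdda5bbdf02112c07bb4ed3482ddefa07e000210895000000000015bbde0000148841000003e88952555b000002f82be09ef76a2555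b56ee02a44217deec377be8422540776adaaa456ef7907d000221126000000000026ddee0000611082000003d912649a6d000003784de11deed949a6d9b760192211bef718ef7d88449806ed9b65929b77b887b000242238000000000038eef60003802104000003ba2388e38e000003b88ee21bddc78e38ee3ba0071109df787e1efb9088e005dc771c71e3bbd84770002843c000000000003f0f7a003c0002080000037c3c0f03f0000003d90f6417bc3ff03f0fc3c000f085ef83ffc1f7a10f0003c3f0fc0ffc3de826f000307c0000000000003ff07c07c0000010000002ffc00ffc00000003ea0fa80f83ffffc00ffc00000f83f03ffffc0fc1f000003ff003ffffc1f015f0003f800000000000003fff81f800000000000001fffff00000000003f40fd0007ffffffff0000000007e07ffffffe07e000000000ffffffffe000bf000c000010041304ce7c00000000006cc61863378000010041304ce7c0033ff018cde379ec7b31801339e79cc99339e79cc8018cde379ec7b3180ffc001400002008250956bc0000000002954a28a55b400002008250956bc0055fe82956d5b6dab6a940255aebad542ab5d75aa402956d5b6dab6a9417f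a0018000040104912673c0000000005198c30c66cc000040104912673c0069fe4319b36cf36cd98c0499cf3ce624673cf39920319b36cf36cd98c27f900240000802086219adc0000000018a25249299cc0000802086219adc0096fd84a6739cf39ce6520866b6db5a245adb6d66104a6739cf39ce6521bf60028000100410a42ab5c00000000294294514aab4000100410a42ab5c00aafd452aadab6d5b554a10aad75d694296baeb550852aadab6d5b554a2bf50030000200820c83339c00000000360318618cc78000200820c83339c00ccfcc6331ec79e378cc620cce79e70990e79e733046331ec79e378cc633f3004400040100b02c1cec00000001c0a4228a31e2c00040100b02c1cec01177b88c78be2f47d1e310b073aeba1a585d75ce0d08c78be2f47d1e311dee00480008020150542d6c00000002c148249252d540008020150542d6c012b7b494b55d56abaad29150b5b6d92c349b6dad0a894b55d56abaad292ded005000100402609835ac00000003461028a294b9800100402609835ac014d7aca52e6b999d674a5260d6bae8b18d175d6b064a52e6b999d674a535eb00600020080380e039cc00000003b80030c3187e00020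080380e039cc018e79cc61f87e07e1f863380e73cf047e20f3ce701cc61f87e07e1f86339e700840040012c002dc0f40000003c00a4410c3e12c0040012c002dc0f40217b790f84bed0b7d21f08b703cf41da5b82f3c0ed10f84bed0b7d21f09ede0088008002540056c1740000005c014881145d254008002540056c174022bb7517495da95ba92e895b05d722ec3744eba0da917495da95ba92e8aedd009001000498009b41b40000006c061101249b49801000498009b41b4024db6d26d26b666d64b64a6d06db13718ec8db60b6526d26b666d64b64b6db00a0020008e000e381d40000007438020145178e0020008e000e381d4028eb5d45e3871f8e1c7a2b8e075d0b87e1d0bae071d45e3871f8e1c7a2bad700c004000f0000fc01e40000007bc00001860ff0004000f0000fc01e4030f33d83fc00fff003fc1bf0079e043ffc2079e00fd83fc00fff003fc1bccf01040800012cb70000f800000f8000a44207c112c0044b000002dde040417cf9f044bed3482ddf04b778103dda5bbc081eed20fbb412cb7d220f9f3e0108100002555b0001780000178001488407a2254008950000056ee04042bcf5e8895daaa456ee855bb8085eec3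77a101ddaa1776a2555ba9117af3d01102000049a6d0001b800001b80061108076449801126000009b7604044dcedd9126b65929b76466dd8046f718ef6201bb6626ed949a6d6489bb73b0120400008e38e0001d800001d8038021006e88e00223800000e3ba04048ecddba23871c71e3ba278ee8027787e1ee401771e45dc78e38e1c45dbb37014080000f03f00001e800001e83c0002005f0f00043c000000fc3c04050f4bd7c3c00fc0ffc3c17f0f001783ffc1e800f0fe83c3ff03f003c3ebd2f018100000ffc000001f000001f7c00000003ff00007c0000000ffc004060f87cffc00003ffffc00fff000083ffffc10000fff003ffffc00003ff3e1f02040044b000002dde040003e00000a443f00112c0800012cb70000f80817cfa0fbb412cb7d220f8b77c003dda5bbc003eed1f044bed3482ddf05f3e0208008950000056ee040005e000014885e802254100002555b000178082bcf61776a2555ba911795bba005eec377a005dda9e8895daaa456ee86f3d021001126000009b76040006e000061109d8044982000049a6d0001b8084dcee26ed949a6d6489ba6dd9006f718ef6009bb65d9126b65929b764773b02200223800000e3b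a0400076000380211b8088e0400008e38e0001d8088ecde45dc78e38e1c45db8ee8807787e1ee011771dba23871c71e3ba27b370240043c000000fc3c040007a003c000217810f0080000f03f00001e8090f4be83c3ff03f003c3ebf0f040783ffc1e020f0fd7c3c00fc0ffc3c17d2f028007c0000000ffc0040007c07c000000f81f00100000ffc000001f00a0f87f003ffffc00003ff3ff002003ffffc00400ffcffc00003ffffc00fe1f04040804b000b7001e080078208000a47c082012c0804b000b7001e081017b7af07b412f482de0f4b783cf01da5b80f3c1ed2f07b412f482de0f5ede0408100950015b002e0800b820800148ba1040254100950015b002e08102bb76e8b6a256a456d1755b45d702ec3740eba2daae8b6a256a456d176edd0410201260026d00360800d820800611362080498201260026d003608104db6ed92d9499929b49b66d26db03718ec0db64b66d92d9499929b49b76db0420402380038e003a0800e8208038022e41008e0402380038e003a08108eb5eba1c78e071e385d78e175d0387e1c0bae871eba1c78e071e385d7ad70440803c0003f0003c0800f02083c0001e8200f00803c0003f0003c08110f33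e7c03ff000ffc03e7f00f9e003ffc0079f00fe7c03ff000ffc03e7ccf08040840b02c0701c2100708410400a782082102c0840b02c0701c21020177bb738741d0b82e1cecb873aeb81a581d75ce1d3738741d0b82e1ceddee0808108150540b02c2100b084104014b441042054108150540b02c210202b7b76b4aa2a954552d6d54b5b6d82c341b6dad2ab6b4aa2a954552d6eded0810210260980d0342100d0841040612c82084098210260980d034210204d7af5ad194666298b5ae62d6bae8318c175d6b4675ad194666298b5af5eb0820420380e00e0382100e0841043801d041080e0420380e00e038210208e79f39e0781f81e079cf81e73cf007e00f3ce781f39e0781f81e079cf9e710040844310c310c44203110820840b842082110c0844310c310c44204016fdbb598c630c6319adcc66b6db58241adb6d6633b598c630c6319addbf6100810885214511444205110820841548410422141088521451144420402afd7ad5525492a4aab5d2aad75d684216baeb554bad5525492a4aab5ebf51010211064186118442061108208460d0820844182110641861184420404cfcf9cce13861c87339e1cce79e70180e79e733879cce1386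1c87339f3f3200408449124922488409221041088c442082112408449124922488408015febd6a92a49254956bd255aebad500ab5d75aa4bd6a92a49254956bd7fa2008108912451244884112210410892884104224410891245124488408029fe7ce64c930c932673cc99cf3ce600673cf39933ce64c930c932673e7f940040844a128a4291080a442082112244208211280844a128a42910810013ff3e7321c861384ce7e1339e79cc81339e79cc87e7321c861384ce7cffc8008108942514852210148841042244884104225010894251485221020023ff3e7321c861384ce7e1339e79cc81339e79cc87e7321c861384ce7cffc40102112248a248910822442082114910820844882112248a248910810049fe7ce64c930c932673cc99cf3ce600673cf39933ce64c930c932673e7f98010211244924892210248841042231108208449021124492489221020045febd6a92a49254956bd255aebad500ab5d75aa4bd6a92a49254956bd7fa2020422188618260884182210410b0621041088604221886182608840808cfcf9cce13861c87339e1cce79e70180e79e733879cce13861c87339f3f34020422288a284a11082844208212a82104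1088a0422288a284a11081008afd7ad5525492a4aab5d2aad75d684216baeb554bad5525492a4aab5ebf58020422308c308c22103088410421d021041088c0422308c308c221020086fdbb598c630c6319adcc66b6db58241adb6d6633b598c630c6319addbf61040841c0700701c04207010820b801c208210700841c0700701c0420410e79f39e0781f81e079cf81e73cf007e00f3ce781f39e0781f81e079cf9e72040842c0b0190640841902104134860208210b00842c0b0190640840810d7af5ad194666298b5ae62d6bae8318c175d6b4675ad194666298b5af5eb404084340d02a0a81082a0420822d280208210d0084340d02a0a81081010b7b76b4aa2a954552d6d54b5b6d82c341b6dad2ab6b4aa2a954552d6eded804084380e0340d0210340841041e500208210e0084380e0340d0210201077bb738741d0b82e1cecb873aeb81a581d75ce1d3738741d0b82e1ceddee088103c000fc0003c0100f0041780003c1040f00103c000fc0003c010220f33e7c03ff000ffc03e7f00f9e003ffc0079f00fe7c03ff000ffc03e7ccf108105c0071c001c402071008274401c01041700105c0071c001c4020420eb5eba1c78e071e385d78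e175d0387e1c0bae871eba1c78e071e385d7ad7208106c00b64006480419201046c886001041b00106c00b6400648040820db6ed92d9499929b49b66d26db03718ec0db64b66d92d9499929b49b76db408107400da800a90082a402085d128001041d00107400da800a90081020bb76e8b6a256a456d1755b45d702ec3740eba2daae8b6a256a456d176edd808107800ed000d201034804103e250001041e00107800ed000d201020207b7af07b412f482de0f4b783cf01da5b80f3c1ed2f07b412f482de0f5ede0500f8000003ff00000800f81f0000003e03e0002003ff00000003e00140f87f003ffffc00003ff3ff002003ffffc00400ffcffc00003ffffc00fe1f0901780000fc0f0000100f081e840003c005e000203c3f0000003c200240f4be83c3ff03f003c3ebf0f040783ffc1e020f0fd7c3c00fc0ffc3c17d2f1101b800071c7100002071101d88401c0006e000205dc7000001c4400440ecde45dc78e38e1c45db8ee8807787e1ee011771dba23871c71e3ba27b372101d8000b659200004192201b90886000076000206ed900000648800840dcee26ed949a6d6489ba6dd9006f718ef6009bb65d9126b65929b764773b4101e80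00daaa4000082a44017a112800007a00020776a00000a91001040bcf61776a2555ba911795bba005eec377a005dda9e8895daaa456ee86f3d8101f0000ed34800010348800fc225000007c000207bb400000d220020407cfa0fbb412cb7d220f8b77c003dda5bbc003eed1f044bed3482ddf05f3e0602003ff00000003e0000ffc00000003ef800000f8000003ff000008180f87cffc00003ffffc00fff000083ffffc10000fff003ffffc00003ff3e1f0a0203c3f0000003c2000f0fa0040003c17800001780000fc0f000010280f4bd7c3c00fc0ffc3c17f0f001783ffc1e800f0fe83c3ff03f003c3ebd2f120205dc7000001c440071176008401c01b800001b800071c71000020480ecddba23871c71e3ba278ee8027787e1ee401771e45dc78e38e1c45dbb37220206ed9000006488019226e010886001d800001d8000b6592000040880dcedd9126b65929b76466dd8046f718ef6201bb6626ed949a6d6489bb73b42020776a00000a91002a445e021128001e800001e8000daaa4000081080bcf5e8895daaa456ee855bb8085eec377a101ddaa1776a2555ba9117af3d820207bb400000d220034883e042250001f000001f0000ed34800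01020807cf9f044bed3482ddf04b778103dda5bbc081eed20fbb412cb7d220f9f3e0c027803f0000f0002000ff061800003de00000027803f0000f000200300f33d83fc00fff003fc1bf0079e043ffc2079e00fd83fc00fff003fc1bccf1402b81c70007100040071e8a280401c2e0000002b81c700071000400500eb5d45e3871f8e1c7a2b8e075d0b87e1d0bae071d45e3871f8e1c7a2bad72402d82d90019200080192d924808860360000002d82d900192000800900db6d26d26b666d64b64a6d06db13718ec8db60b6526d26b666d64b64b6db4402e836a002a4001002a4ba288112803a0000002e836a002a4001001100bb7517495da95ba92e895b05d722ec3744eba0da917495da95ba92e8aedd8402f03b400348002003487c308225003c0000002f03b4003480020021007b790f84bed0b7d21f08b703cf41da5b82f3c0ed10f84bed0b7d21f09ede180339c0701c010040007e18c30c001dc0000000339c0701c01004000600e79cc61f87e07e1f863380e73cf047e20f3ce701cc61f87e07e1f86339e728035ac19064020080019d2945140862c000000035ac1906402008000a00d7aca52e6b999d674a5260d6bae8b18d175d6b0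64a52e6b999d674a535eb48036b42a0a804010002ab4a492412834000000036b42a0a804010001200b7b494b55d56abaad29150b5b6d92c349b6dad0a894b55d56abaad292ded8803738340d008020003478c51442503800000003738340d00802000220077b88c78be2f47d1e310b073aeba1a585d75ce0d08c78be2f47d1e311dee30039ccc130410040001e3318618c06c0000000039ccc130410040000c00cfcc6331ec79e378cc620cce79e70990e79e733046331ec79e378cc633f35003ad54250820080002d5528a294294000000003ad54250820080001400afd452aadab6d5b554a10aad75d694296baeb550852aadab6d5b554a2bf59003b5984610401000033994924a4518000000003b5984610401000024006fd84a6739cf39ce6520866b6db5a245adb6d66104a6739cf39ce6521bf66003ce6489208020000336630c3198a0000000003ce648920802000018009fe4319b36cf36cd98c0499cf3ce624673cf39920319b36cf36cd98c27f9a003d6a90a4100400002daa51452a940000000003d6a90a41004000028005fe82956d5b6dab6a940255aebad542ab5d75aa402956d5b6dab6a9417fac003e7320c8200800001ecc61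8633600000000003e7320c82008000030003ff018cde379ec7b31801339e79cc99339e79cc8018cde379ec7b3180ffc02fc0000000000fffff800000000000001f81fffc00000000000001fc000fd0007ffffffff0000000007e07ffffffe07e000000000ffffffffe000bf057c00000003ff003ff40000008000003e03e0ffc0000000000003e0c000fa80f83ffffc00ffc00000f83f03ffffc0fc1f000003ff003ffffc1f015f09bc000000fc0f03c3ec000001040003c005ef0fc000000000003c214000f6417bc3ff03f0fc3c000f085ef83ffc1f7a10f0003c3f0fc0ffc3de826f11dc0000071c711c45dc00000208401c0006f771c00000000001c4424000ee21bddc78e38ee3ba0071109df787e1efb9088e005dc771c71e3bbd847721ec00000b65926489bc00000410886000077bb640000000000648844000de11deed949a6d9b760192211bef718ef7d88449806ed9b65929b77b887b41f400000daaa4a9117c0000082112800007bdda80000000000a91084000be09ef76a2555b56ee02a44217deec377be8422540776adaaa456ef7907d81f800000ed348d220fc0000104225000007deed00000000000d221040007e05f7bb412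cb72dde0348840fbdda5bbdf02112c07bb4ed3482ddefa07e0e3c0003f0000f03fc1c000860000003de78000fc000000000f000218000f1c27bfc00fff0fc01e00ff781843ffc2181eff007803f0fff003fde438f165c001c7000711c7a2c0010a000401c2eb80071c0000000071000428000e9a2bde3871f8ee381d071ef428b87e1d142f78e0b81c771f8e1c7bd4597266c002d90019264b64c00212000886036d800b640000000192000848000d992ded26b666d9b41b192dec493718ec9237b498d82d9b666d64b7b499b46740036a002a4a92e8c0042200112803ae800da800000002a4001088000b98aef495da95b56c172a4bdc8a2ec374513bd254e836ada95ba92f7519d8678003b400348d21f0c0084200225003cf000ed000000003480021080007986f784bed0b72dc0f3487bd0c1da5b830bde12cf03b4ed0b7d21ef619e1a9c01c0701c011f86340100c00c001dc1380701c0000001c01004030000e5633e1f87e07ee039c87e1f237047e20ec4f87e139c077e07e1f87cc6a72aac02c1906402674a54020140140862c1580b0640000006402008050000d5535d2e6b999d9835a99d2ea568b18d16a574b995ac19b999d674bac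aab4ab40342a0a804aad29404024024128341680d0a8000000a804010090000b54b6cb55d56ab542d6aab4da9592c349a95b2d556b42ad56abaad36d2ad8ab8038340d008d1e31408044044250381700e0d0000000d00802011000075477478be2f472c1ceb478bb13a1a585c8dd1e2d73834e2f47d1e2ee2ae32cc04cc13041078cc6410018018c06c0198133040000030410040060000cd339b31ec79e3833399e33666670990e6666cc799ccc1c79e378cd9ccb352d40554250820b554a420028029429401a81550800000508200800a0000ad2baaaadab6d542ab5ad5556a5694296a56aaab5ad542ab6d5b5555d4b592d80598461040ce65244004804a451801b01661000000610401001200006d27b26739cf39219adb39937235a245ac4ec99cdb59849cf39ce64de4b662e40664892080cd98c48003003198a001c81992000000920802000c00009d1bc99b36cf3612673b3664ec4e62467237266cdce6486cf36cd993d8b9a2e806a90a4100b6a94500050052a94001d01aa4000000a41004001400005d17d156d5b6da0956badaa2f42d542ab42f455b5d6a905b6dab6a8be8bac2f007320c82007b318600060063360001e01cc8000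000c82008001800003d0fe0cde379ec04ce79ecc1f81cc993381f83379e7320379ec7b307f0bc1d1c3800701c7e00463801180380001dce00e001c0000700001004600000e2e3c1df87e3801fb9c47ee0fc0c47e2303f077e239df801c7e1fb83c7472d2c580190659d008a58022805800862d601600640001900002008a00000d2d3a2ee6b9a606775a59dd17a14b18d285e8bb9a5aee60659d67745cb4b4d346802a0aaab0112980448098012835a01a00a80002a00004011200000b2cb93755d5550aaed66abb276252c34a46e4dd566b7550aaabaaec9d34d8d38700340d3470223180888118025039c01c00d0000340000802220000072c78bb8be2cb0d1dce747746e461a5862762ee2e73b8b0d347d1dd1e34e354c980c1305e3040c6810300680c06c260260304000c100010040c00000cab364f1ec7a0c78f395e3c9b91b0990d89d93c7a9cf1e305e378f26cd535554a814250ad50814a820500a8142942a02a05080014200020081400000aaab556adab50ab56b56d5aab52a942954ad55ab6ad6ad50ad5b56aad5559558b0184613391025284090128245182c02c061000184000401024000006aa74da739cc86ce5ad7396cad49a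24592b5369ceb5a7361339ce5b2e5566564c8248923362018c880600c8198a032032092000248000802018000009a9b365b36cc49cda737369b333262464cccd96cece5b392336cda6cd959a568d0290a42da40294900a01482a940340340a4000290001004028000005a972e96d5b425b696b6da5d2b51542a8ad4ba5b6d696da42dab6974e95ac570e0320c81ec80318a00c018833600380380c8000320002008030000003a8f1f0de378137b0e75ec3e2760c99306e47c37ae70dec81ec7b0f8f15c398d18c013781304c0701300071c006cc0046300400c010040004c000000c672e70dec81ec7b0f8dec39d8e0c993071b9c37b1f0de378137b0e74e635995294025b4250940b025000b2c02954004a50080140200800094000000a66ad696da42dab6974eda5ad4d1542a8b2b5a5b72e96d5b425b696b56659999318046cc491241304900134c05198004c601001804010001240000006666ce5b392336cda6cf369cccb262464d33396cf365b36cc49cda73666669a54a4089cc862180d086000d3418a24005290200240802000218000000965ab5a7361339ce5b2f396b52c9a245934ad69cf4da739cc86ce5ad5a69a9a952810ab50a4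281510a001554294280054a04002810040004280000005656ad6ad50ad5b56aaed5ad4aaa94295552b5ab7556adab50ab56b56a6ac9b163020c7a0c8301920c001964360300058c0800302008000830000000364e9cf1e305e378f26de3ce469b0990d96273c7b64f1ec7a0c78f39726c71c58c440e2cb02c00e0b0000e39c0a400063110004440100002c00000008e3a73b8b0d347d1dd1f477391c61a586389cee2f8bb8be2cb0d1dce5c71b1c994880d55505401615000165ac14800065220004880200005400000004e366b7550aaabaaec9eabb589a52c34a591add5793755d5550aaed66c72d1d1a5100b9a609801a260001a6b461000069440005100400009800000002e2e5aee60659d67745d9dd68594b18d29a16bb9ba2ee6b9a606775a7474e1e1c62007e380e001c380001c73b8000007188000620080000e000000001e1e39df801c7e1fb83c7ee7038c47e231c0e77e3c1df87e3801fb9c78783e0e18cde0041304ce001339e000006cc618000041800100413000000000c1f1e7320379ec7b307decc6079cc99339e06337be0cde379ec04ce78f835e162956d00825095600255ae00002954a28000082800200825000000000a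1e9d6a905b6dab6a8bedaa50bad542ab5d0a55b7d156d5b6da0956b97859e1a319b301049126600499ce00005198c3000010300040104900000000061e5ce6486cf36cd993f366313ce624673c8c66cfc99b36cf3612673a7866e264a67302086219a00866b600018a2524800020480080208600000000091d9b59849cf39ce64df39948db5a245adb1299cfb26739cf39219ad9b89ae2a52aad0410a42aa010aad60002942945000040500100410a00000000051d5ad542ab6d5b5555ed55295d694296ba94aab7aaaadab6d542ab5ab8ace326331e0820c8332020cce60003603186000080600200820c00000000031cd9ccc1c79e378cd9de33199e70990e7998cc7b9b31ec79e383339b38c76468c78b100b02c1c00b073a001c0a422880010088040100b000000000089b973834e2f47d1e2ef478c4eba1a585d7231e2f7478be2f472c1ce9d91b64a94b5520150542c0150b5a002c148249000200900802015000000000049b56b42ad56abaad36eab4a56d92c349b6a52d576cb55d56ab542d6ad92d652a52e64026098340260d6a003461028a000400a01004026000000000029ad5ac19b999d674bad9d295ae8b18d175a94b9b5d2e6b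999d9835ab594e662c61f880380e0380380e72003b80030c000800c020080380000000000199d39c077e07e1f87cc7e18dcf047e20f3b187e33e1f87e07ee039cb9987a870f84b12c002dc000b703c03c00a44108010010840012c000000000008578f03b4ed0b7d21ef7487c2f41da5b82f43e12ef784bed0b72dc0f1ea1ba8b174952540056c0015b05c05c014881100200110800254000000000004574e836ada95ba92f76a4ba3722ec3744ec5d256ef495da95b56c172ea2da9326d26498009b40026d06c06c06110120040012100049800000000000256cd82d9b666d64b7b592d93b13718ec8dc9b49aded26b666d9b41b36a4eaa345e388e000e380038e0740743802014008001420008e000000000000155cb81c771f8e1c7bd471e8bd0b87e1d0bd178e2bde3871f8ee381d3aa8f2c383fc0f0000fc0003f007807bc00001801000184000f00000000000000d3c7803f0fff003fde40ff07e043ffc207e0ff027bfc00fff0fc01e3cb07d07f044b12cb7000000b7780f8000a44200200020844b0000000000000082f807bb4ed3482ddefb4883f03dda5bbc0fc112df7bb412cb72dde01f41bd0be88952555b0000015bb8178001488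40040002108950000000000000042f40776adaaa456ef7aa445e85eec377a17a2255ef76a2555b56ee02f42dd13d912649a6d0000026dd81b800611080080002211260000000000000022ec06ed9b65929b77b99226e46f718ef62764499deed949a6d9b7603744ed23ba2388e38e0000038ee81d803802100100002422380000000000000012dc05dc771c71e3bbd87117627787e1ee46e88e1bddc78e38ee3ba03b48f5437c3c0f03f0000003f0f01e83c000200200002843c0000000000000000abc03c3f0fc0ffc3de80f0fa1783ffc1e85f0f017bc3ff03f0fc3c03d50f982ffc00ffc00000003ff001f7c000000040000307c0000000000000000067c003ff003ffffc1f000ffc083ffffc103ff000f83ffffc00ffc003e60fe01fffff00000000003ffffe0000000000000003f80000000000000000001fc00000ffffffffe0000001ffffffffff80000007ffffffff000003f807ff80844b12cb72ddefc0000000000a442082112c00000000000000000008003f7bb4ed348d22100b77befbdda5bbdf7deed00844b12cb72ddefc001bff4108952555b56ef7c00000000014884104225400000000000000000004003ef76adaaa4a9108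15bbdf7deec377befbdda8108952555b56ef7c002dfec2112649a6d9b77bc00000000061108208449800000000000000000002003deed9b65926488426ddefbef718ef7df7bb642112649a6d9b77bc004efdc422388e38ee3bbdc0000000038021041088e000000000000000000001003bddc771c711c44238eef7df787e1efbef771c422388e38ee3bbdc008f7bc843c0f03f0fc3dec00000003c000208210f00000000000000000000008037bc3f0fc0f03c213f0f7bef83ffc1f7def0fc843c0f03f0fc3dec010fb7d07c00ffc00ffc1f40000007c000001041f00000000000000000000000402f83ff003ff003e0bff07df03ffffc0fbe0ffd07c00ffc00ffc1f4020fcfdf8000fffff0001f800001f8000000007e00000000000000000000000020207fff00000fffe07fff8007ffffffe001fffe07fff00000fffe04040fcfe07fff00000fffe040007e000000001f80000000000000000000000000101f8000fffff0001fbfff8007ffffffe001fffdf8000fffff0001f8080fb7ef83ff003ff003e0800f8208000003e00000000000000000000000000008107c00ffc00ffc1f7ff07df03ffffc0fbe0ffef83ff003ff003e08100f7bf7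bc3f0fc0f03c2100f0841040003c0000000000000000000000000000040843c0f03f0fc3deff0f7bef83ffc1f7def0ff7bc3f0fc0f03c210200efdfbddc771c711c442071108208401c00000000000000000000000000000020422388e38ee3bbdf8eef7df787e1efbef771fbddc771c711c4420400dfefdeed9b6592648841922104108860000000000000000000000000000000102112649a6d9b77be6ddefbef718ef7df7bb67deed9b6592648840800bff7ef76adaaa4a91082a4420821128000000000000000000000000000000008108952555b56ef7d5bbdf7deec377befbddabef76adaaa4a910810007ffbf7bb4ed348d22103488410422500000000000000000000000000000000040844b12cb72ddefcb77befbdda5bbdf7deed3f7bb4ed348d22102000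

theorem smG2 : sG2.Sm chevG2 2 := by
  refine ⟨?_, ?_, ?_, ?_, ?_, ?_, ?_, ?_⟩ <;> decide +kernel

theorem ttG2 : sG2.chkT sG2.GR 0 = true := by decide +kernel

theorem okG2 : sG2.Ok chevG2 2 := Sys.ok_of smG2 ttG2

theorem smB2 : sB2.Sm chevB2 2 := by
  refine ⟨?_, ?_, ?_, ?_, ?_, ?_, ?_, ?_⟩ <;> decide +kernel

theorem ttB2 : sB2.chkT sB2.GR 0 = true := by decide +kernel

theorem okB2 : sB2.Ok chevB2 2 := Sys.ok_of smB2 ttB2

theorem smD4 : sD4.Sm chevD4 4 := by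
  refine ⟨?_, ?_, ?_, ?_, ?_, ?_, ?_, ?_⟩ <;> decide +kernel

theorem ttD4 : sD4.chkT sD4.GR 0 = true := by decide +kernel

theorem okD4 : sD4.Ok chevD4 4 := Sys.ok_of smD4 ttD4

theorem smF4 : sF4.Sm chevF4 4 := by
  refine ⟨?_, ?_, ?_, ?_, ?_, ?_, ?_, ?_⟩ <;> decide +kernel

theorem ttF4 : sF4.chkT sF4.GR 0 = true := by decide +kernel

theorem okF4 : sF4.Ok chevF4 4 := Sys.ok_of smF4 ttF4

theorem smE6 : sE6.Sm chevE6 6 := by
  refine ⟨?_, ?_, ?_, ?_, ?_, ?_, ?_, ?_⟩ <;> decide +kernel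

theorem ttE6 : sE6.chkT sE6.GR 0 = true := by decide +kernel

theorem okE6 : sE6.Ok chevE6 6 := Sys.ok_of smE6 ttE6

theorem smE7 : sE7.Sm chevE7 7 := by
  refine ⟨?_, ?_, ?_, ?_, ?_, ?_, ?_, ?_⟩ <;> decide +kernel

theorem ttE7 : sE7.chkT sE7.GR 0 = true := by decide +kernel

theorem okE7 : sE7.Ok chevE7 7 := Sys.ok_of smE7 ttE7

theorem smE8 : sE8.Sm chevE8 8 := by
  refine ⟨?_, ?_, ?_, ?_, ?_, ?_, ?_, ?_⟩ <;> decide +kernel

theorem ttE8 : sE8.chkT sE8.GR 0 = true := by decide +kernel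

theorem okE8 : sE8.Ok chevE8 8 := Sys.ok_of smE8 ttE8

end Cfsg.Agent.TO.X.Stab
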